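import Cfsg.Agent.Lib.Max.Std
import Mathlib.Analysis.Fourier.FiniteAbelian.PontryaginDuality

/-!
Index inequalities used for the minimal index of the classical groups.
-/

set_option autoImplicit false

namespace Cfsg.Lib.Forms.MI

open Module

section Grp

@[to_additive addRelIndex_ne_zero']
theorem relIndex_ne_zero' {G : Type*} [Group G] [Finite G] (H P : Subgroup G) :
    H.relIndex P ≠ 0 := Subgroup.index_ne_zero_of_finite

@[to_additive addRelIndex_mono]
theorem relIndex_mono {G : Type*} [Group G] [Finite G] (H : Subgroup G) {N P : Subgroup G}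
    (h : N ≤ P) : H.relIndex N ≤ H.relIndex P :=
  Subgroup.relIndex_le_of_le_right h (relIndex_ne_zero' _ _)

@[to_additive addRelIndex_anti]
theorem relIndex_anti {G : Type*} [Group G] [Finite G] {H K : Subgroup G} (P : Subgroup G)
    (h : H ⊓ P ≤ K) : K.relIndex P ≤ H.relIndex P := by
  rw [← Subgroup.inf_relIndex_right H]
  exact Subgroup.relIndex_le_of_le_left h (relIndex_ne_zero' _ _)

/-- `|P : K| |N : H ∩ N| ≤ |P : H ∩ P|` if `H ∩ P, N ≤ K`. -/
@[to_additive addRelIndex_mul_le]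
theorem relIndex_mul_le {G : Type*} [Group G] [Finite G] {H K N P : Subgroup G} (h : N ≤ P)
    (h1 : H ⊓ P ≤ K) (h2 : N ≤ K) : K.relIndex P * H.relIndex N ≤ H.relIndex P := by
  have h3 := Subgroup.relIndex_mul_relIndex (H ⊓ P) (K ⊓ P) P (le_inf h1 inf_le_right) inf_le_right
  rw [Subgroup.inf_relIndex_right, Subgroup.inf_relIndex_right] at h3
  rw [← h3, mul_comm]
  refine Nat.mul_le_mul_right _ ?_
  calc H.relIndex N ≤ H.relIndex (K ⊓ P) := relIndex_mono _ (le_inf h2 h)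
    _ ≤ _ := relIndex_anti _ (inf_le_left.trans inf_le_left)

theorem mem_sup_of_conj {G : Type*} [Group G] {H N : Subgroup G}
    (h : ∀ g ∈ H, ∀ n ∈ N, g * n * g⁻¹ ∈ N) {x : G} (hx : x ∈ H ⊔ N) :
    ∃ g ∈ H, ∃ n ∈ N, x = g * n := by
  have h1 : H ≤ Subgroup.normalizer N := fun g hg => Subgroup.mem_normalizer_iff.2 fun n =>
    ⟨h g hg n, fun hn => by simpa [mul_assoc] using h g⁻¹ (H.inv_mem hg) _ hn⟩
  rw [← SetLike.mem_coe, Subgroup.coe_mul_of_left_le_normalizer_right H N h1] at hx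
  obtain ⟨g, hg, n, hn, rfl⟩ := hx
  exact ⟨g, hg, n, hn, rfl⟩

/-- Orbit counting. -/
theorem ncard_mul_le {G X : Type*} [Group G] [Finite G] [MulAction G X] (H E : Subgroup G) (x : X)
    {T A : Set X} (hA : A.Finite) (hT : ∀ y ∈ T, ∃ g ∈ E, g • x = y) (h : ∀ g ∈ H, g ∈ E → g • x ∈ A) :
    T.ncard * H.relIndex (E ⊓ MulAction.stabilizer G x) ≤ H.relIndex E * A.ncard := by
  have key : ∀ K : Subgroup G, (MulAction.stabilizer G x).relIndex K =
      (MulAction.orbit K x).ncard := fun K => MulAction.index_stabilizer K x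
  have h1 := Subgroup.relIndex_inf_mul_relIndex H (MulAction.stabilizer G x) E
  have h2 := Subgroup.relIndex_inf_mul_relIndex (MulAction.stabilizer G x) H E
  rw [inf_comm _ H, ← h1, key, key] at h2
  rw [inf_comm, mul_comm]
  calc _ ≤ H.relIndex (MulAction.stabilizer G x ⊓ E) * (MulAction.orbit E x).ncard :=
        Nat.mul_le_mul_left _ (Set.ncard_le_ncard (fun y hy => by
          obtain ⟨g, hg, rfl⟩ := hT y hy
          exact ⟨⟨g, hg⟩, rfl⟩) (Set.finite_range _))
    _ = _ := h2.symm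
    _ ≤ _ := by
        rw [mul_comm]
        refine Nat.mul_le_mul_left _ (Set.ncard_le_ncard ?_ hA)
        rintro _ ⟨g, rfl⟩
        exact h _ g.2.1 g.2.2

/-- Families of cosets. -/
theorem card_le_relIndex_mul {G T : Type*} [Group G] [Finite G] [Finite T] (H P : Subgroup G)
    (g : T → G) (hg : ∀ t, g t ∈ P) {s : ℕ}
    (h : ∀ t₀, {t | (g t₀)⁻¹ * g t ∈ H}.ncard ≤ s) : Nat.card T ≤ H.relIndex P * s := by
  classical
  have := Fintype.ofFinite T
  have := Fintype.ofFinite (P ⧸ H.subgroupOf P)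
  let c : T → P ⧸ H.subgroupOf P := fun t => QuotientGroup.mk ⟨g t, hg t⟩
  rw [Subgroup.relIndex, Subgroup.index, Nat.card_eq_fintype_card, Nat.card_eq_fintype_card,
    mul_comm]
  refine Finset.card_le_mul_card_image_of_maps_to (f := c) (fun _ _ => Finset.mem_univ _) s
    fun y _ => ?_
  by_cases hy : ∃ t₀, c t₀ = y
  · obtain ⟨t₀, rfl⟩ := hy
    refine le_trans (le_of_eq ?_) (h t₀)
    rw [← Set.ncard_coe_finset]
    congr 1
    ext t
    simp only [Finset.coe_filter, Finset.mem_univ, true_and, Set.mem_ofPred_eq, c]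
    rw [eq_comm, QuotientGroup.eq]
    rfl
  · rw [Finset.filter_eq_empty_iff.2 fun t _ ht => hy ⟨t, ht⟩]
    simp

/-- The image of an additive group. -/
theorem exists_img {G M : Type*} [Group G] [AddCommGroup M] (r : M → G) (Z : AddSubgroup M)
    (hr : ∀ x ∈ Z, ∀ y ∈ Z, r (x + y) = r x * r y) :
    ∃ R : Subgroup G, (∀ g, g ∈ R ↔ ∃ x ∈ Z, r x = g) ∧
      ∀ (H : Subgroup G) (A : AddSubgroup M), (∀ x ∈ Z, x ∈ A ↔ r x ∈ H) →
        H.relIndex R = A.relIndex Z := by
  let φ : Multiplicative Z →* G := MonoidHom.mk' (fun x => r x.toAdd.1) fun x y =>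
    hr _ x.toAdd.2 _ y.toAdd.2
  refine ⟨φ.range, fun g => ⟨?_, ?_⟩, fun H A hA => ?_⟩
  · rintro ⟨x, rfl⟩
    exact ⟨_, x.toAdd.2, rfl⟩
  · rintro ⟨x, hx, rfl⟩
    exact ⟨Multiplicative.ofAdd ⟨x, hx⟩, rfl⟩
  · rw [← Subgroup.index_comap, AddSubgroup.relIndex, ← AddSubgroup.index_toSubgroup]
    congr 1
    ext x
    exact (hA _ x.toAdd.2).symm

theorem img_le {G M : Type*} [Group G] [Finite G] [AddCommGroup M] (r : M → G) (Z : AddSubgroup M)
    (hr : ∀ x ∈ Z, ∀ y ∈ Z, r (x + y) = r x * r y) {H P : Subgroup G} {A : AddSubgroup M}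
    (hA : ∀ x ∈ Z, x ∈ A ↔ r x ∈ H) (hP : ∀ x ∈ Z, r x ∈ P) : A.relIndex Z ≤ H.relIndex P := by
  obtain ⟨R, h1, h2⟩ := exists_img r Z hr
  rw [← h2 H A hA]
  refine relIndex_mono _ fun g hg => ?_
  obtain ⟨x, hx, rfl⟩ := (h1 g).1 hg
  exact hP x hx

/-- A group of scalars stabilising a proper subgroup acts freely on the non-zero cosets. -/
theorem card_lt_index {k M : Type*} [Field k] [AddCommGroup M] [Module k M] [Finite M]
    {A : AddSubgroup M} (hA : A ≠ ⊤) (S : Subgroup kˣ) (h : ∀ c ∈ S, ∀ x ∈ A, (c : k) • x ∈ A) :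
    Nat.card S < A.index := by
  obtain ⟨x, hx⟩ : ∃ x, x ∉ A := by simpa [AddSubgroup.eq_top_iff'] using hA
  have key : ∀ c ∈ S, (c : k) • x - x ∈ A → c = 1 := fun c hc h1 => by
    by_contra h0
    have h2 : (c : k) - 1 ≠ 0 := sub_ne_zero.2 (by simpa using h0)
    have h3 : Set.MapsTo (fun y : M => ((c : k) - 1) • y) (A : Set M) A := fun y (hy : y ∈ A) => by
      simpa [sub_smul] using A.sub_mem (h c hc y hy) hy
    obtain ⟨y, hy, h4⟩ := ((Set.toFinite (A : Set M)).injOn_iff_bijOn_of_mapsTo h3).1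
      (smul_right_injective M h2).injOn |>.surjOn (show ((c : k) - 1) • x ∈ A by
        simpa [sub_smul] using h1)
    exact hx (smul_right_injective M h2 h4 ▸ hy)
  let f : Option S → M ⧸ A := fun o => o.elim 0 fun c => QuotientAddGroup.mk ((c.1 : k) • x)
  have hn : ∀ c : S, (QuotientAddGroup.mk ((c.1 : k) • x) : M ⧸ A) ≠ 0 := fun c h1 => by
    have := h _ (S.inv_mem c.2) _ ((QuotientAddGroup.eq_zero_iff _).1 h1)
    exact hx (by simpa [smul_smul] using this)
  have hf : Function.Injective f := by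
    rintro (_ | c) (_ | d) h1
    · rfl
    · exact absurd h1.symm (hn d)
    · exact absurd h1 (hn c)
    · have h2 := h _ (S.inv_mem c.2) _ (QuotientAddGroup.eq.1 h1)
      have h3 := key (c⁻¹ * d : S) (c⁻¹ * d).2 (by
        simpa [smul_smul, sub_eq_neg_add] using h2)
      rw [Subgroup.coe_mul, Subgroup.coe_inv, inv_mul_eq_one] at h3
      rw [Subtype.ext h3]
  have : Finite S := Finite.of_injective _ (hf.comp (Option.some_injective _))
  have := Nat.card_le_card_of_injective f hf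
  rw [Finite.card_option] at this
  exact this

/-- The torus factor. -/
theorem tau {G k M : Type*} [Group G] [Finite G] [Field k] [Finite k] [AddCommGroup M] [Module k M]
    [Finite M] {H E P : Subgroup G} (hP : P ≤ E) (r : M → G) {A : AddSubgroup M} (hA : A ≠ ⊤)
    (hr : ∀ x, x ∈ A ↔ r x ∈ H) (S : Subgroup kˣ)
    (hS : ∀ c ∈ S, ∃ g ∈ E, ∀ x, g * r x * g⁻¹ = r ((c : k) • x))
    (hc : ∀ g ∈ P, ∀ x, g * r x * g⁻¹ = r x) :
    Nat.card S * H.relIndex P ≤ H.relIndex E * (A.index - 1) := by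
  let N : Subgroup (G × kˣ) :=
    { carrier := {p | p.1 ∈ E ∧ p.2 ∈ S ∧ ∀ x, p.1 * r x * p.1⁻¹ = r ((p.2 : k) • x)}
      one_mem' := ⟨E.one_mem, S.one_mem, by simp⟩
      mul_mem' := by
        rintro p q ⟨h1, h2, h3⟩ ⟨h4, h5, h6⟩
        refine ⟨E.mul_mem h1 h4, S.mul_mem h2 h5, fun x => ?_⟩
        rw [Prod.snd_mul, Units.val_mul, mul_smul, ← h3, ← h6]
        simp [mul_assoc]
      inv_mem' := by
        rintro p ⟨h1, h2, h3⟩
        refine ⟨E.inv_mem h1, S.inv_mem h2, fun x => ?_⟩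
        have := h3 (((p.2⁻¹ : kˣ) : k) • x)
        rw [smul_smul, Units.mul_inv, one_smul] at this
        rw [← this]
        simp [mul_assoc] }
  let H' := H.comap (MonoidHom.fst G kˣ)
  let D := (H' ⊓ N).map (MonoidHom.snd G kˣ)
  have hD : Nat.card D < A.index := card_lt_index hA D (by
    rintro _ ⟨p, ⟨h1, -, -, h2⟩, rfl⟩ x hx
    rw [hr, MonoidHom.coe_snd, ← h2]
    exact H.mul_mem (H.mul_mem h1 ((hr x).1 hx)) (H.inv_mem h1))
  have h1 := relIndex_mul_le (H := H') (K := D.comap (MonoidHom.snd G kˣ))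
    (N := P.map (MonoidHom.inl G kˣ)) (P := N) (by
      rintro _ ⟨g, hg, rfl⟩
      exact ⟨hP hg, S.one_mem, by simpa using hc g hg⟩) (Subgroup.le_comap_map _ _) (by
      rintro _ ⟨g, hg, rfl⟩
      exact D.one_mem)
  have h2 : N.map (MonoidHom.snd G kˣ) = S := by
    ext c
    refine ⟨by rintro ⟨p, hp, rfl⟩; exact hp.2.1, fun hc => ?_⟩
    obtain ⟨g, hg, h⟩ := hS c hc
    exact ⟨(g, c), ⟨hg, hc, h⟩, rfl⟩
  have h3 : D ≤ S := h2 ▸ Subgroup.map_mono inf_le_right
  rw [Subgroup.relIndex_comap, Subgroup.relIndex_comap, Subgroup.relIndex_comap, h2,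
    Subgroup.map_map, show (MonoidHom.fst G kˣ).comp (MonoidHom.inl G kˣ) = MonoidHom.id G from rfl,
    Subgroup.map_id] at h1
  have h4 : H.relIndex (N.map (MonoidHom.fst G kˣ)) ≤ H.relIndex E := relIndex_mono _ (by
    rintro _ ⟨p, hp, rfl⟩
    exact hp.1)
  have h5 : Nat.card D * D.relIndex S = Nat.card S := by
    rw [← Subgroup.relIndex_bot_left, ← Subgroup.relIndex_bot_left,
      Subgroup.relIndex_mul_relIndex _ _ _ bot_le h3]
  rw [← h5, mul_assoc, mul_comm]
  exact Nat.mul_le_mul (h1.trans h4) (by omega)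

theorem tau' {G k M : Type*} [Group G] [Finite G] [Field k] [Finite k] [AddCommGroup M] [Module k M]
    [Finite M] {H E P : Subgroup G} (hP : P ≤ E) (r : M → G) {A : AddSubgroup M} (hA : A ≠ ⊤)
    (hr : ∀ x, x ∈ A ↔ r x ∈ H) (S : Subgroup kˣ)
    (hS : ∀ c ∈ S, ∃ g ∈ E, ∀ x, g * r x * g⁻¹ = r ((c : k) • x))
    (hc : ∀ g ∈ P, ∀ x, g * r x * g⁻¹ = r x) {X : ℕ} (hX : X * A.index ≤ H.relIndex P) :
    (Nat.card S + 1) * X ≤ H.relIndex E := by
  have h1 := tau hP r hA hr S hS hc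
  have h2 := relIndex_mono H hP
  have h3 := card_lt_index hA (⊥ : Subgroup kˣ) (by simp)
  rw [Subgroup.card_bot] at h3
  obtain ⟨j, hj⟩ : ∃ j, A.index = j + 1 := ⟨A.index - 1, by omega⟩
  rw [hj] at h1 h3 hX
  rw [Nat.add_sub_cancel] at h1
  rcases le_total (Nat.card S) j with h | h
  · nlinarith
  · refine Nat.le_of_mul_le_mul_right (c := j) ?_ (by omega)
    have := Nat.mul_le_mul_left (Nat.card S) hX
    nlinarith

/-- The pairing lemma. -/
theorem relIndex_le_of_pairing {M M' C : Type*} [AddCommGroup M] [AddCommGroup M'] [AddCommGroup C]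
    [Finite M] [Finite M'] [Finite C] (β : M →+ M' →+ C) {A : AddSubgroup C} (hA : A ≠ ⊤)
    {R W : AddSubgroup M} {L W' : AddSubgroup M'}
    (hR : ∀ x ∈ W, x ∉ R → ∀ c, ∃ y ∈ L, β x y = c)
    (h : ∀ x ∈ W, ∀ y ∈ W', y ∈ L → β x y ∈ A) : R.relIndex W ≤ W'.relIndex L := by
  obtain ⟨c, hc⟩ : ∃ x, x ∉ A := by simpa [AddSubgroup.eq_top_iff'] using hA
  obtain ⟨ψ, hψ⟩ := (AddChar.exists_apply_ne_zero (α := C ⧸ A)).2
    (show (QuotientAddGroup.mk c : C ⧸ A) ≠ 0 by simpa using hc)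
  let b : W → (L ⧸ W'.addSubgroupOf L) →+ C ⧸ A := fun x =>
    QuotientAddGroup.lift _ ((QuotientAddGroup.mk' A).comp ((β x).comp L.subtype)) fun y hy => by
      simpa using h x x.2 y hy y.2
  let φ : W →+ AddChar (L ⧸ W'.addSubgroupOf L) ℂ := AddMonoidHom.mk'
    (fun x => ψ.compAddMonoidHom (b x)) fun x y => by
      ext z
      obtain ⟨z, rfl⟩ := QuotientAddGroup.mk_surjective z
      simp [b, AddChar.map_add_eq_mul]
  have h1 : φ.ker ≤ R.addSubgroupOf W := fun x hx => by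
    by_contra h2
    obtain ⟨y, hy, h3⟩ := hR x x.2 h2 c
    have := DFunLike.congr_fun (AddMonoidHom.mem_ker.1 hx) (QuotientAddGroup.mk ⟨y, hy⟩)
    exact hψ (by simpa [φ, b, h3] using this)
  have := Fintype.ofFinite (L ⧸ W'.addSubgroupOf L)
  calc R.relIndex W ≤ φ.ker.index :=
        Nat.le_of_dvd (Nat.pos_of_ne_zero AddSubgroup.index_ne_zero_of_finite)
          (AddSubgroup.index_dvd_of_le h1)
    _ = Nat.card φ.range := AddSubgroup.index_ker φ
    _ ≤ Nat.card (AddChar (L ⧸ W'.addSubgroupOf L) ℂ) :=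
        Nat.card_le_card_of_injective _ Subtype.val_injective
    _ = _ := by
        rw [Nat.card_eq_fintype_card, AddChar.card_eq, ← Nat.card_eq_fintype_card]
        rfl

/-- Transfer to a quotient. -/
theorem min_index_of_surjective {G P : Type*} [Group G] [Group P] {E : Subgroup G} (π : E →* P)
    (hπ : Function.Surjective π) {t : ℕ} (h : ∀ H : Subgroup G, ¬ E ≤ H → t ≤ H.relIndex E)
    (h' : ∃ H : Subgroup G, π.ker ≤ H.subgroupOf E ∧ H.relIndex E = t) :
    (∀ H : Subgroup P, H ≠ ⊤ → t ≤ H.index) ∧ ∃ H : Subgroup P, H.index = t := by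
  refine ⟨fun H hH => ?_, ?_⟩
  · have := h ((H.comap π).map E.subtype) fun h1 => hH (by
      refine eq_top_iff.2 fun x _ => ?_
      obtain ⟨y, rfl⟩ := hπ x
      obtain ⟨z, hz, h2⟩ := h1 y.2
      exact (Subtype.ext h2 : z = y) ▸ hz)
    rwa [Subgroup.relIndex, Subgroup.subgroupOf, Subgroup.comap_map_eq_self_of_injective
      E.subtype_injective, Subgroup.index_comap_of_surjective _ hπ] at this
  · obtain ⟨H, h1, h2⟩ := h'
    exact ⟨_, (Subgroup.index_map_eq _ hπ h1).trans h2⟩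

end Grp

variable {F : Type*} [Field F] {σ : F →+* F} {K : Kind σ} {V : Type*} [AddCommGroup V]
  [Module F V] {D : Form K V}

open Form

/-- Orbit counting on vectors. -/
theorem ncard_mul_le_vec [Finite V] (H E : Subgroup D.isom) (e : V) {T A : Set V}
    (hT : ∀ y ∈ T, ∃ g ∈ E, g.1 e = y) (h : ∀ g ∈ H, g ∈ E → g.1 e ∈ A) :
    T.ncard * H.relIndex (E ⊓ D.fix (F ∙ e)) ≤ H.relIndex E * A.ncard := by
  have := finite_isom (D := D)
  have h1 := ncard_mul_le H E e (Set.toFinite A) hT h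
  rwa [show MulAction.stabilizer D.isom e = D.fix (F ∙ e) by
    ext g; simp [mem_fix_span, isom_smul_def]] at h1

/-- Orbit counting on points. -/
theorem ncard_mul_le_pt [Finite F] [Finite V] (H E : Subgroup D.isom) (e : V) {T A : Set V}
    (hT : ∀ y ∈ T, ∃ g ∈ E, ∃ c : F, c ≠ 0 ∧ g.1 e = c • y)
    (h : ∀ g ∈ H, g ∈ E → ∀ c : F, c ≠ 0 → c • g.1 e ∈ A) :
    T.ncard * H.relIndex (E ⊓ D.stab (F ∙ e)) ≤ H.relIndex E * A.ncard := by
  have := finite_isom (D := D)
  have : FiniteDimensional F V := Module.Finite.of_finite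
  let _ : MulAction (D.isom × Fˣ) V :=
    { smul := fun p v => (p.2 : F) • p.1.1 v
      one_smul := fun v => one_smul F v
      mul_smul := fun p q v => by
        change ((p.2 * q.2 : Fˣ) : F) • p.1.1 (q.1.1 v) = (p.2 : F) • p.1.1 ((q.2 : F) • q.1.1 v)
        rw [map_smul, smul_smul, Units.val_mul] }
  have h1 := ncard_mul_le (H.comap (MonoidHom.fst _ Fˣ)) (E.comap (MonoidHom.fst _ Fˣ)) e
    (Set.toFinite A) (T := T) (fun y hy => by
      obtain ⟨g, hg, c, hc, h⟩ := hT y hy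
      refine ⟨(g, (Units.mk0 c hc)⁻¹), hg, ?_⟩
      change (((Units.mk0 c hc)⁻¹ : Fˣ) : F) • g.1 e = y
      simp [h, smul_smul, hc]) fun p hp hp' => h _ hp hp' _ p.2.ne_zero
  rw [Subgroup.relIndex_comap, Subgroup.relIndex_comap,
    Subgroup.map_comap_eq_self_of_surjective Prod.fst_surjective] at h1
  refine le_trans (Nat.mul_le_mul_left _ (relIndex_mono _ ?_)) h1
  rintro g ⟨hg, hg'⟩
  obtain ⟨c, hc⟩ := Submodule.mem_span_singleton.1
    (stab_mem hg' (Submodule.mem_span_singleton_self e))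
  by_cases h0 : c = 0
  · have : e = 0 := by simpa [h0] using hc.symm
    exact ⟨(g, 1), ⟨hg, by change ((1 : Fˣ) : F) • g.1 e = e; simp [this]⟩, rfl⟩
  · refine ⟨(g, (Units.mk0 c h0)⁻¹), ⟨hg, ?_⟩, rfl⟩
    change (((Units.mk0 c h0)⁻¹ : Fˣ) : F) • g.1 e = e
    simp [← hc, smul_smul, h0]

theorem relIndex_submodule [Finite F] [Finite V] {A B : Submodule F V} (h : A ≤ B) :
    A.toAddSubgroup.relIndex B.toAddSubgroup = Nat.card F ^ (finrank F B - finrank F A) := by
  have : FiniteDimensional F V := Module.Finite.of_finite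
  have h1 := AddSubgroup.relIndex_mul_relIndex ⊥ A.toAddSubgroup B.toAddSubgroup bot_le h
  rw [AddSubgroup.relIndex_bot_left, AddSubgroup.relIndex_bot_left] at h1
  have h2 : ∀ C : Submodule F V, Nat.card C.toAddSubgroup = Nat.card F ^ finrank F C :=
    fun C => Module.natCard_eq_pow_finrank (V := C)
  obtain ⟨k, hk⟩ := Nat.exists_eq_add_of_le (Submodule.finrank_mono h)
  rw [h2, h2, hk, pow_add] at h1
  rw [hk, Nat.add_sub_cancel_left]
  exact Nat.eq_of_mul_eq_mul_left (pow_pos Nat.card_pos _) h1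

end Cfsg.Lib.Forms.MI
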