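import Cfsg.Agent.Lib.MinIdx.Core
import Cfsg.Agent.S0157
import Cfsg.Agent.Lib.Char.Induce

/-!
Duality for finite abelian groups, and Fisher's inequality for 2-transitive groups.
-/

set_option autoImplicit false

namespace Cfsg.Lib.Forms.MI

section Dual
variable {M M' C : Type*} [AddCommGroup M] [AddCommGroup M'] [AddCommGroup C] [Finite M']

theorem exists_char_rep (β : M →+ M' →+ C) (hβ : ∀ x ≠ 0, ∀ c, ∃ y, β x y = c)
    (hc : Nat.card M = Nat.card M') {ψ : AddChar C ℂ} (hψ : ∃ c, ψ c ≠ 1) (θ : AddChar M' ℂ) :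
    ∃ x, ∀ y, θ y = ψ (β x y) := by
  let φ : M →+ AddChar M' ℂ := AddMonoidHom.mk' (fun x => ψ.compAddMonoidHom (β x)) fun x y => by
    ext z; simp [AddChar.map_add_eq_mul]
  have h1 : Function.Injective φ := (injective_iff_map_eq_zero φ).2 fun x hx => by
    by_contra h0
    obtain ⟨c, hc⟩ := hψ
    obtain ⟨y, hy⟩ := hβ x h0 c
    exact hc (by simpa [φ, hy] using DFunLike.congr_fun hx y)
  have := Fintype.ofFinite M'
  obtain ⟨x, hx⟩ := ((Nat.bijective_iff_injective_and_card φ).2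
    ⟨h1, by rw [hc, Nat.card_eq_fintype_card, Nat.card_eq_fintype_card, AddChar.card_eq]⟩).2 θ
  exact ⟨x, fun y => by rw [← hx]; rfl⟩

theorem exists_char_of_not_mem {W : AddSubgroup M'} {x : M'} (hx : x ∉ W) :
    ∃ θ : AddChar M' ℂ, (∀ z ∈ W, θ z = 1) ∧ θ x ≠ 1 := by
  obtain ⟨ψ, hψ⟩ := (AddChar.exists_apply_ne_zero (α := M' ⧸ W)).2
    (show (QuotientAddGroup.mk x : M' ⧸ W) ≠ 0 by simpa using hx)
  exact ⟨ψ.compAddMonoidHom (QuotientAddGroup.mk' W), fun z hz => by
    simp [(QuotientAddGroup.eq_zero_iff z).2 hz], hψ⟩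

/-- The kernel of an additive character. -/
def chK (ψ : AddChar C ℂ) : AddSubgroup C where
  carrier := {c | ψ c = 1}
  zero_mem' := ψ.map_zero_eq_one
  add_mem' := fun {a b} (ha : ψ a = 1) (hb : ψ b = 1) => show ψ _ = 1 by
    rw [ψ.map_add_eq_mul, ha, hb, one_mul]
  neg_mem' := fun {a} (ha : ψ a = 1) => show ψ _ = 1 by rw [ψ.map_neg_eq_inv, ha, inv_one]

theorem mem_chK {ψ : AddChar C ℂ} {c : C} : c ∈ chK ψ ↔ ψ c = 1 := Iff.rfl

theorem exists_chK [Finite C] {A : AddSubgroup C} (hA : A ≠ ⊤) :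
    ∃ ψ : AddChar C ℂ, A ≤ chK ψ ∧ chK ψ ≠ ⊤ := by
  obtain ⟨x, hx⟩ := not_forall.1 (mt (AddSubgroup.eq_top_iff' A).2 hA)
  obtain ⟨ψ, h1, h2⟩ := exists_char_of_not_mem hx
  exact ⟨ψ, h1, fun h => h2 (mem_chK.1 (h ▸ AddSubgroup.mem_top x))⟩

theorem exists_dual (β : M →+ M' →+ C) (hβ : ∀ x ≠ 0, ∀ c, ∃ y, β x y = c)
    (hc : Nat.card M = Nat.card M') {ψ : AddChar C ℂ} (hψ : chK ψ ≠ ⊤) {W : AddSubgroup M'} {x : M'}
    (hx : x ∉ W) : ∃ y, (∀ z ∈ W, β y z ∈ chK ψ) ∧ β y x ∉ chK ψ := by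
  obtain ⟨θ, h1, h2⟩ := exists_char_of_not_mem hx
  obtain ⟨y, hy⟩ := exists_char_rep β hβ hc
    (not_forall.1 (mt (AddSubgroup.eq_top_iff' (chK ψ)).2 hψ)) θ
  exact ⟨y, fun z hz => mem_chK.2 (hy z ▸ h1 z hz), fun h => h2 ((hy x).trans h)⟩

/-- The annihilator of `W` with respect to `A`. -/
def dl (β : M →+ M' →+ C) (A : AddSubgroup C) (W : AddSubgroup M') : AddSubgroup M where
  carrier := {y | ∀ z ∈ W, β y z ∈ A}
  zero_mem' := fun z _ => by simp
  add_mem' := fun ha hb z hz => by simpa using A.add_mem (ha z hz) (hb z hz)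
  neg_mem' := fun ha z hz => by simpa using ha z hz

omit [Finite M'] in
theorem mem_dl {β : M →+ M' →+ C} {A : AddSubgroup C} {W : AddSubgroup M'} {y : M} :
    y ∈ dl β A W ↔ ∀ z ∈ W, β y z ∈ A := Iff.rfl

end Dual

open MulAction Subgroup Cfsg.Lib.Char in
/-- Fisher's inequality: a subgroup of small index in a 2-transitive group is transitive. -/
theorem fisher {G Ω : Type*} [Group G] [Finite G] [MulAction G Ω] [Finite Ω]
    (h2 : IsMultiplyPretransitive G Ω 2) {H : Subgroup G} (hi : H.index < Nat.card Ω) :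
    IsPretransitive H Ω := by
  classical
  by_contra hnt
  have := Fintype.ofFinite G
  have := Fintype.ofFinite Ω
  have hn : 2 ≤ Nat.card Ω := by have := relIndex_ne_zero' H ⊤; rw [relIndex_top_right] at this; omega
  have : Nontrivial Ω := Finite.one_lt_card_iff_nontrivial.1 hn
  have : IsPretransitive G Ω := isPretransitive_of_is_two_pretransitive
  have hχ := (Agent.S0157.result (G := G) Ω hn).2 h2
  have key : ∀ K : Subgroup G, classInner (indFun K fun _ => 1) (fun g => (Nat.card (fixedBy Ω g) : ℂ) - 1) =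
      Nat.card (orbitRel.Quotient K Ω) - 1 := fun K => by
    have h3 : ∑ h : K, (Nat.card (fixedBy Ω (h : G)) : ℂ) =
        Nat.card (orbitRel.Quotient K Ω) * Nat.card K := by
      have := sum_card_fixedBy_eq_card_orbits_mul_card_group K Ω
      simp only [← Nat.card_eq_fintype_card] at this
      exact_mod_cast this
    have hH : (Nat.card K : ℂ) ≠ 0 := Nat.cast_ne_zero.2 Nat.card_pos.ne'
    rw [classInner_indFun_left _ hχ.isClassFunction, classInner_def]
    simp only [one_mul, map_sub, map_natCast, map_one, Finset.sum_sub_distrib, h3, Finset.sum_const,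
      Finset.card_univ, ← Nat.card_eq_fintype_card, nsmul_eq_mul, mul_one]
    field_simp
  have h1 : 2 ≤ Nat.card (orbitRel.Quotient H Ω) := by
    by_contra h
    exact hnt ((pretransitive_iff_subsingleton_quotient H Ω).2
      (Finite.card_le_one_iff_subsingleton.1 (by omega)))
  have h3 : Nat.card (orbitRel.Quotient (⊤ : Subgroup G) Ω) = 1 := by
    have : IsPretransitive (⊤ : Subgroup G) Ω := ⟨fun a b =>
      (exists_smul_eq G a b).elim fun g hg => ⟨⟨g, trivial⟩, hg⟩⟩
    have := (pretransitive_iff_subsingleton_quotient (⊤ : Subgroup G) Ω).1 this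
    exact Nat.card_eq_one_iff_unique.2 ⟨this, ⟨Quotient.mk _ (Classical.arbitrary Ω)⟩⟩
  have h4 : classInner (indFun H fun _ => 1) (fun _ => 1) = 1 := by
    have hH : (Nat.card H : ℂ) ≠ 0 := Nat.cast_ne_zero.2 Nat.card_pos.ne'
    rw [classInner_indFun_left _ isIrrCharacter_one.isClassFunction, classInner_def]
    simp [← Nat.card_eq_fintype_card, hH]
  have h5 : (indFun ⊤ fun _ => 1) = fun _ : G => (1 : ℂ) := funext fun g => by
    have : Subsingleton (G ⧸ (⊤ : Subgroup G)) := QuotientGroup.subsingleton_quotient_top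
    rw [indFun_one_eq_card_fixedBy, Set.eq_univ_of_forall (s := fixedBy _ g)
      fun x => Subsingleton.elim _ _, Nat.card_univ, Nat.card_unique, Nat.cast_one]
  obtain ⟨m, hm⟩ := (((isCharacter_one (G := H)).indFun.sub_classInner_smul
    isIrrCharacter_one).sub_classInner_smul hχ).exists_nat_degree
  have h6 := key ⊤
  rw [h5, h3] at h6
  rw [h4, one_smul, classInner_sub_left, key, h6] at hm
  simp only [Pi.sub_apply, Pi.smul_apply, indFun_one, fixedBy_one_eq_univ, Nat.card_univ,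
    smul_eq_mul] at hm
  have h7 : (H.index : ℤ) * 1 - 1 - (Nat.card (orbitRel.Quotient H Ω) - 1 - (1 - 1)) *
    (Nat.card Ω - 1) = m := by exact_mod_cast hm
  have : (1 : ℤ) * (Nat.card Ω - 1) ≤ (Nat.card (orbitRel.Quotient H Ω) - 1 - (1 - 1)) *
    (Nat.card Ω - 1) := mul_le_mul_of_nonneg_right (by omega) (by omega)
  omega

end Cfsg.Lib.Forms.MI
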