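import Cfsg.Agent.Lib.MinIdx.Core

/-!
Minimal index: the subgroups attaining the bound and transfer to the projective groups.
-/

set_option autoImplicit false

namespace Cfsg.Lib.Forms.MI

open Module Form

theorem le_ncard_mul {G X : Type*} [Group G] [Finite G] [MulAction G X] (H E : Subgroup G) (x : X)
    {T A : Set X} (hT : T.Finite) (h1 : ∀ g ∈ E, g • x ∈ T)
    (h2 : ∀ y ∈ A, ∃ g ∈ H, g ∈ E ∧ g • x = y) (h3 : ∀ g ∈ E, g • x = x → g ∈ H) :
    H.relIndex E * A.ncard ≤ T.ncard := by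
  have key : ∀ K : Subgroup G, (MulAction.stabilizer G x).relIndex K =
      (MulAction.orbit K x).ncard := fun K => MulAction.index_stabilizer K x
  have h4 := Subgroup.relIndex_inf_mul_relIndex H (MulAction.stabilizer G x) E
  have h5 := Subgroup.relIndex_inf_mul_relIndex (MulAction.stabilizer G x) H E
  rw [inf_comm _ H, ← h4, key, key, (Subgroup.relIndex_eq_one (H := H)
    (K := MulAction.stabilizer G x ⊓ E)).2 fun g hg => h3 g hg.2 hg.1, one_mul] at h5
  calc _ ≤ H.relIndex E * (MulAction.orbit (H ⊓ E : Subgroup G) x).ncard :=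
        Nat.mul_le_mul_left _ (Set.ncard_le_ncard (fun y hy => by
          obtain ⟨g, hg, hg', rfl⟩ := h2 y hy
          exact ⟨⟨g, hg, hg'⟩, rfl⟩) (Set.finite_range _))
    _ = _ := (mul_comm _ _).trans h5
    _ ≤ _ := Set.ncard_le_ncard (by rintro _ ⟨g, rfl⟩; exact h1 _ g.2) hT

variable {F : Type*} [Field F] {σ : F →+* F} {K : Kind σ} {V : Type*} [AddCommGroup V]
  [Module F V] {D : Form K V} [Finite F] [FiniteDimensional F V]

theorem ncard_ne_zero_mem (S : Submodule F V) :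
    {x | x ≠ 0 ∧ x ∈ S}.ncard = Nat.card F ^ finrank F S - 1 := by
  have := Module.finite_of_finite F (M := V)
  rw [← Module.natCard_eq_pow_finrank (V := S), show {x | x ≠ 0 ∧ x ∈ S} = (S : Set V) \ {0} by
    ext; simp [and_comm], Set.ncard_sdiff_singleton_of_mem S.zero_mem]
  rfl

theorem relIndex_stab_le (E : Subgroup D.isom) {e : V} (h0 : e ≠ 0) {T : Set V}
    (hT : ∀ g ∈ E, ∀ c : F, c ≠ 0 → c • g.1 e ∈ T) :
    (D.stab (F ∙ e)).relIndex E * (Nat.card F - 1) ≤ T.ncard := by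
  have := Module.finite_of_finite F (M := V)
  have := finite_isom (D := D)
  let _ : MulAction (D.isom × Fˣ) V :=
    { smul := fun p v => (p.2 : F) • p.1.1 v
      one_smul := fun v => one_smul F v
      mul_smul := fun p q v => by
        change ((p.2 * q.2 : Fˣ) : F) • p.1.1 (q.1.1 v) = (p.2 : F) • p.1.1 ((q.2 : F) • q.1.1 v)
        rw [map_smul, smul_smul, Units.val_mul] }
  have h1 := le_ncard_mul ((D.stab (F ∙ e)).comap (MonoidHom.fst _ Fˣ))
    (E.comap (MonoidHom.fst _ Fˣ)) e (Set.toFinite T) (A := {x | x ≠ 0 ∧ x ∈ F ∙ e})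
    (fun p hp => hT _ hp _ p.2.ne_zero) (fun y hy => by
      obtain ⟨c, rfl⟩ := Submodule.mem_span_singleton.1 hy.2
      exact ⟨(1, Units.mk0 c fun h => hy.1 (by simp [h])), one_mem (D.stab _), E.one_mem, rfl⟩)
    fun p _ hp => mem_stab_of_mapsTo _ fun x hx => by
      obtain ⟨c, rfl⟩ := Submodule.mem_span_singleton.1 hx
      have h : (p.2 : F) • p.1.1 e = e := hp
      rw [map_smul, ← Submodule.smul_mem_iff _ p.2.ne_zero, smul_comm]
      exact h.symm ▸ hx
  rwa [Subgroup.relIndex_comap, Subgroup.map_comap_eq_self_of_surjective Prod.fst_surjective,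
    ncard_ne_zero_mem, finrank_span_singleton h0, pow_one] at h1

theorem relIndex_stab_le' (E : Subgroup D.isom) (v : V) {A : Set V}
    (hA : ∀ y ∈ A, y ∈ F ∙ v ∧ ∃ g ∈ E, g.1 v = y) :
    (D.stab (F ∙ v)).relIndex E * A.ncard ≤ Nat.card {x // D.Q x = D.Q v} := by
  have := Module.finite_of_finite F (M := V)
  have := finite_isom (D := D)
  have h : ∀ g : D.isom, g.1 v ∈ F ∙ v → g ∈ D.stab (F ∙ v) := fun g hg =>
    mem_stab_of_mapsTo _ fun x hx => by
      obtain ⟨c, rfl⟩ := Submodule.mem_span_singleton.1 hx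
      exact map_smul g.1 c v ▸ Submodule.smul_mem _ c hg
  exact le_ncard_mul _ E v (T := {x | D.Q x = D.Q v}) (Set.toFinite _) (fun g _ => Q_isom g v)
    (fun y hy => by
      obtain ⟨h1, g, hg, rfl⟩ := hA y hy
      exact ⟨g, h g h1, hg, rfl⟩)
    fun g _ hg => h g ((show g.1 v = v from hg).symm ▸ Submodule.mem_span_singleton_self v)

omit [Finite F] in
theorem min_index_proj (hD : D.Nondeg) (hR : D.Rich 3) {e f : V} (hf : D.IsHyp e f)
    {E : Subgroup D.isom} (hE : E = D.E) {P : Type*} [Group P] (φ : P ≃* E ⧸ Subgroup.center E)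
    {t : ℕ} (h : ∀ H : Subgroup D.isom, ¬ D.E ≤ H → t ≤ H.relIndex D.E) {H : Subgroup D.isom}
    (h1 : ¬ D.E ≤ H) (h2 : H.relIndex D.E ≤ t)
    (h3 : ∀ g ∈ D.E, (∃ c : F, ∀ x, g.1 x = c • x) → g ∈ H) :
    (∀ H : Subgroup P, H ≠ ⊤ → t ≤ H.index) ∧ ∃ H : Subgroup P, H.index = t := by
  subst hE
  refine min_index_of_surjective (φ.symm.toMonoidHom.comp (QuotientGroup.mk' _))
    (φ.symm.surjective.comp (QuotientGroup.mk'_surjective _)) h
    ⟨H, fun g hg => h3 _ g.2 ?_, le_antisymm h2 (h H h1)⟩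
  exact (hf.mem_center_iff hD hR (fun _ _ _ _ => eich_mem_E _ _ _ _) g).1 (by simpa using hg)

omit [Finite F] in
theorem mem_stab_of_smul (W : Submodule F V) (g : D.isom) (_ : g ∈ D.E)
    (h : ∃ c : F, ∀ x, g.1 x = c • x) : g ∈ D.stab W :=
  mem_stab_of_mapsTo _ fun x hx => h.choose_spec x ▸ W.smul_mem _ hx

theorem sub_one_dvd (q k : ℕ) : q - 1 ∣ q ^ k - 1 := by
  simpa using Nat.sub_dvd_pow_sub_pow q 1 k

end Cfsg.Lib.Forms.MI
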