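import Cfsg.Agent.Lib.MinIdx.Dual
import Cfsg.Agent.Lib.Linear.SLPair

/-!
Minimal index of `SL_n(q)`, I: transvection groups and the case of lines.
-/

set_option autoImplicit false

namespace Cfsg.Lib.Forms.MI.SL

open Module MulAction Cfsg.Lib.Linear

variable {ι : Type} [Fintype ι] [DecidableEq ι] {F : Type*} [Field F]
  {H : Subgroup (Matrix.SpecialLinearGroup ι F)} {e u v : ι → F} {φ ψ : Dual F (ι → F)}

local notation "𝐆" => Matrix.SpecialLinearGroup ι F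
local notation "𝐕" => ι → F

open Classical in
/-- The transvection `x ↦ x + φ(x) v`. -/
noncomputable def tt (v : 𝐕) (φ : Dual F 𝐕) : 𝐆 :=
  if h : φ v = 0 then ⟨LinearMap.toMatrix' (LinearMap.transvection φ v), by simp [h]⟩ else 1

theorem tt_smul (h : φ v = 0) (x : 𝐕) : tt v φ • x = x + φ x • v := by
  rw [show tt v φ = ⟨_, _⟩ from dif_pos h]
  exact LinearMap.toMatrix'_mulVec (LinearMap.transvection φ v) x

theorem sm (g : 𝐆) (c : F) (x : 𝐕) : g • c • x = c • g • x := smul_comm g c x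

/-- The functional `φ ∘ g`. -/
def cp (φ : Dual F 𝐕) (g : 𝐆) : Dual F 𝐕 := φ ∘ₗ DistribSMul.toLinearMap F 𝐕 g

@[simp] theorem cp_apply (g : 𝐆) (x : 𝐕) : cp φ g x = φ (g • x) := rfl

theorem tt_add (h : φ e = 0) (h' : ψ e = 0) : tt e (φ + ψ) = tt e φ * tt e ψ :=
  sl_ext_smul fun x => by
    rw [mul_smul, tt_smul h', tt_smul h, tt_smul (by simp [h, h'])]
    simp only [map_add, map_smul, h, LinearMap.add_apply]
    module

theorem tt_zero (e : 𝐕) : tt e 0 = 1 := sl_ext_smul fun x => by simp [tt_smul]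

theorem tt_neg (h : φ e = 0) : tt e (-φ) = (tt e φ)⁻¹ := by
  rw [eq_inv_iff_mul_eq_one, ← tt_add (by simp [h]) h]; simp [tt_zero]

theorem conj_tt {g : 𝐆} {c : F} (hg : g • e = c • v) (hc : c ≠ 0) (h : φ e = 0) :
    (c • cp φ g⁻¹) v = 0 ∧ g * tt e φ * g⁻¹ = tt v (c • cp φ g⁻¹) := by
  have h1 : (c • cp φ g⁻¹) v = 0 := by
    rw [LinearMap.smul_apply, ← map_smul, ← hg, cp_apply, inv_smul_smul, h]
  refine ⟨h1, sl_ext_smul fun x => ?_⟩
  rw [mul_smul, mul_smul, tt_smul h, tt_smul h1, smul_add, smul_inv_smul, sm, hg, smul_smul]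
  simp [mul_comm]

/-- The functionals vanishing at `e`. -/
def ann (e : 𝐕) : AddSubgroup (Dual F 𝐕) := (F ∙ e).dualAnnihilator.toAddSubgroup

theorem mem_ann : φ ∈ ann e ↔ φ e = 0 := by
  simp only [ann, Submodule.mem_toAddSubgroup, Submodule.mem_dualAnnihilator]
  exact ⟨fun h => h e (Submodule.mem_span_singleton_self e), fun h w hw => by
    obtain ⟨a, rfl⟩ := Submodule.mem_span_singleton.1 hw
    simp [h]⟩

/-- `H ∩ Q_e`. -/
def ws (H : Subgroup 𝐆) (e : 𝐕) : AddSubgroup (Dual F 𝐕) where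
  carrier := {φ | φ e = 0 ∧ tt e φ ∈ H}
  zero_mem' := ⟨rfl, by simp [tt_zero]⟩
  add_mem' := fun h h' => ⟨by simp [h.1, h'.1], tt_add h.1 h'.1 ▸ H.mul_mem h.2 h'.2⟩
  neg_mem' := fun h => ⟨by simp [h.1], tt_neg h.1 ▸ H.inv_mem h.2⟩

theorem mem_ws : φ ∈ ws H e ↔ φ e = 0 ∧ tt e φ ∈ H := Iff.rfl

theorem conj_mem_ws {g : 𝐆} (hg : g ∈ H) {c : F} (h1 : g • e = c • v) (hc : c ≠ 0)
    (h : φ ∈ ws H e) : c • cp φ g⁻¹ ∈ ws H v :=
  ⟨(conj_tt h1 hc h.1).1, (conj_tt h1 hc h.1).2 ▸ H.mul_mem (H.mul_mem hg h.2) (H.inv_mem hg)⟩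

theorem cp_mem_ws {g : 𝐆} (hg : g ∈ H) (h1 : g • e = e) (h : φ ∈ ws H e) : cp φ g ∈ ws H e := by
  simpa using conj_mem_ws (H.inv_mem hg) (c := 1) (v := e) (by simp [inv_smul_eq_iff, h1])
    one_ne_zero h

theorem eq_top_of_ws (h : ∀ e ≠ 0, ∀ φ : Dual F 𝐕, φ e = 0 → φ ∈ ws H e) : H = ⊤ :=
  sl_eq_top_of_transvection_mem H fun i j hij c => by
    have h1 : (c • LinearMap.proj j : Dual F 𝐕) (Pi.single i 1) = 0 := by simp [hij.symm]
    convert (h _ (by simp) _ h1).2 using 1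
    refine sl_ext_smul fun x => funext fun k => ?_
    rw [sl_transvection_smul_apply, tt_smul h1]
    simp [Pi.single_apply]

theorem exists_fun {W : Submodule F 𝐕} (hW : finrank F W < Fintype.card ι) :
    ∃ z, ∃ φ : Dual F 𝐕, φ z = 1 ∧ ∀ w ∈ W, φ w = 0 := by
  obtain ⟨z, -, hz⟩ := exists_not_mem_of_finrank_lt (U := ⊤) (W := W) (by simpa using hW)
  exact ⟨z, exists_functional hz 1⟩

theorem exists_fun₂ {x : 𝐕} (h : x ∉ Submodule.span F {e, u}) :
    ∃ φ : Dual F 𝐕, φ x = 1 ∧ φ e = 0 ∧ φ u = 0 :=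
  (exists_functional h 1).imp fun _ h =>
    ⟨h.1, h.2 _ (Submodule.subset_span (by simp)), h.2 _ (Submodule.subset_span (by simp))⟩

theorem finrank_pair (he : e ≠ 0) (hu : u ∉ F ∙ e) : finrank F (Submodule.span F {e, u}) = 2 := by
  have := finrank_span_pair_le (F := F) e u
  have := Submodule.finrank_lt_finrank_of_lt (s := F ∙ e) (t := Submodule.span F {e, u})
    (lt_of_le_of_ne (Submodule.span_mono (by simp)) fun h =>
      hu (h ▸ Submodule.subset_span (by simp)))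
  rw [finrank_span_singleton he] at this
  omega

/-- The lines `ℓ_e` cannot exist. -/
theorem not_lines (hn : 3 ≤ Fintype.card ι)
    (h : ∀ e ≠ 0, ∃ y ∉ F ∙ e, ∀ φ, φ ∈ ws H e ↔ φ e = 0 ∧ φ y = 0) : False := by
  choose! y hy hw using h
  set l : 𝐕 → Submodule F 𝐕 := fun e => Submodule.span F {e, y e}
  have h1 : ∀ e, e ∈ l e := fun e => Submodule.subset_span (by simp)
  have h2 : ∀ e, y e ∈ l e := fun e => Submodule.subset_span (by simp)
  have h3 : ∀ {e z x : 𝐕} {φ : Dual F 𝐕}, e ≠ 0 → z ≠ 0 → (∀ w ∈ l e, φ w = 0) → φ z = 0 → φ x = 1 →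
      x ∈ l z → e ∈ l z := fun {e z x φ} he hz hφ h4 h5 hx => by
    have h6 := (hw e he φ).2 ⟨hφ _ (h1 e), hφ _ (h2 e)⟩
    by_contra h7
    obtain ⟨χ, h8, h9⟩ := exists_functional h7 1
    have h10 := (hw z hz _).1 (cp_mem_ws h6.2 (by simp [tt_smul h6.1, h4])
      ((hw z hz χ).2 ⟨h9 _ (h1 z), h9 _ (h2 z)⟩))
    have h11 : l z ≤ LinearMap.ker (cp χ (tt e φ)) := Submodule.span_le.2 (by
      rintro _ (rfl | rfl); exacts [h10.1, h10.2])
    simpa [tt_smul h6.1, h5, h8, h9 x hx] using h11 hx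
  have h4 : ∀ {e z : 𝐕}, e ≠ 0 → z ∈ l e → z ∉ F ∙ e → e ∈ l z := fun {e z} he hz hz' => by
    have h0 : z ≠ 0 := fun h => hz' (h ▸ zero_mem _)
    by_cases h5 : l z ≤ l e
    · rw [Submodule.eq_of_le_of_finrank_eq h5 (by
        rw [finrank_pair he (hy e he), finrank_pair h0 (hy z h0)])]
      exact h1 e
    · obtain ⟨x, hx, hx'⟩ := SetLike.not_le_iff_exists.1 h5
      obtain ⟨φ, h6, h7⟩ := exists_functional hx' 1
      exact h3 he h0 h7 (h7 z hz) h6 hx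
  obtain ⟨e, -, he⟩ := exists_not_mem_of_finrank_lt (U := ⊤) (W := (⊥ : Submodule F 𝐕))
    (by simp; omega)
  obtain ⟨e', -, he'⟩ := exists_not_mem_of_finrank_lt (U := ⊤) (W := l e)
    ((finrank_span_pair_le e (y e)).trans_lt (by simp; omega))
  have h0 : e' ≠ 0 := fun h => he' (h ▸ zero_mem _)
  by_cases h5 : y e ∈ l e' ⊔ F ∙ e
  · obtain ⟨z, hz, _, hc, h6⟩ := Submodule.mem_sup.1 h5
    obtain ⟨c, rfl⟩ := Submodule.mem_span_singleton.1 hc
    have h7 : z ∈ l e := by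
      rw [eq_sub_of_add_eq h6]; exact sub_mem (h2 e) (Submodule.smul_mem _ _ (h1 e))
    have h8 : z ∉ F ∙ e := fun h => hy e he (h6 ▸ add_mem h hc)
    have h9 : z ≠ 0 := fun h => h8 (h ▸ zero_mem _)
    have h10 : Submodule.span F {e, z} ≤ l z :=
      Submodule.span_le.2 (by rintro _ (rfl | rfl); exacts [h4 he h7 h8, h1 _])
    refine he' (Submodule.span_le.2 (by rintro _ (rfl | rfl); exacts [h1 _, h7]) (?_ :
      e' ∈ Submodule.span F {e, z}))
    by_cases h11 : z ∈ F ∙ e'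
    · obtain ⟨a, rfl⟩ := Submodule.mem_span_singleton.1 h11
      exact Submodule.mem_span_pair.2 ⟨0, a⁻¹, by simp [smul_smul, left_ne_zero_of_smul h9]⟩
    · rw [Submodule.eq_of_le_of_finrank_eq h10 (by
        rw [finrank_pair he h8, finrank_pair h9 (hy z h9)])]
      exact h4 h0 hz h11
  · obtain ⟨φ, h6, h7⟩ := exists_functional h5 1
    exact he' (h3 h0 he (fun w hw => h7 w (Submodule.mem_sup_left hw))
      (h7 e (Submodule.mem_sup_right (Submodule.mem_span_singleton_self e))) h6 (h2 e))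

variable [Finite F]

theorem card_ann (he : e ≠ 0) : Nat.card (ann e) = Nat.card F ^ (Fintype.card ι - 1) := by
  have := Subspace.finrank_add_finrank_dualAnnihilator_eq (F ∙ e)
  rw [finrank_span_singleton he, finrank_fintype_fun_eq_card] at this
  rw [show Nat.card (ann e) = _ from
    Module.natCard_eq_pow_finrank (K := F) (V := (F ∙ e).dualAnnihilator), ← this,
    Nat.add_sub_cancel_left]

theorem basic {P : Subgroup 𝐆} (hP : ∀ g ∈ P, ∃ c : F, c ≠ 0 ∧ g • e = c • e)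
    (hQ : ∀ φ : Dual F 𝐕, φ e = 0 → tt e φ ∈ P) : ∃ K : Subgroup 𝐆,
      K.relIndex P * (ws H e).relIndex (ann e) ≤ H.index ∧
        ∀ g ∈ K, ∃ χ : Dual F 𝐕, χ e = 0 ∧ g * tt e χ ∈ H := by
  obtain ⟨R, h1, h2⟩ := exists_img (tt e) (ann e) fun x hx y hy =>
    tt_add (mem_ann.1 hx) (mem_ann.1 hy)
  refine ⟨(H ⊓ P) ⊔ R, ?_, fun g hg => ?_⟩
  · rw [← h2 H (ws H e) fun x hx => and_iff_right (mem_ann.1 hx)]
    refine (relIndex_mul_le (fun g hg => ?_) le_sup_left le_sup_right).trans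
      ((relIndex_mono H le_top).trans (Subgroup.relIndex_top_right H).le)
    obtain ⟨x, hx, rfl⟩ := (h1 g).1 hg
    exact hQ x (mem_ann.1 hx)
  · obtain ⟨k, hk, t, ht, rfl⟩ := mem_sup_of_conj (H := H ⊓ P) (fun g hg n hn => by
      obtain ⟨x, hx, rfl⟩ := (h1 n).1 hn
      obtain ⟨c, hc, h3⟩ := hP g hg.2
      exact (h1 _).2 ⟨_, mem_ann.2 (conj_tt h3 hc (mem_ann.1 hx)).1,
        (conj_tt h3 hc (mem_ann.1 hx)).2.symm⟩) hg
    obtain ⟨x, hx, h3⟩ := (h1 _).1 (inv_mem ht)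
    exact ⟨x, mem_ann.1 hx, by simpa [h3] using hk.1⟩

theorem arith {q Q i κ κ' υ w : ℕ} (hq : 2 ≤ q) (h1 : (q * Q - q) * κ' ≤ κ * (q * υ - q))
    (h2 : κ * w ≤ i) (h3 : (i + 1) * (q - 1) ≤ q * Q - 1) (h4 : υ ≤ w) (h5 : κ' ≠ 0) (h6 : κ ≠ 0)
    (h7 : w ≠ 0) : κ' = 1 ∧ q ≤ υ := by
  rw [← Nat.mul_sub_one, ← Nat.mul_sub_one, mul_assoc, mul_left_comm κ] at h1
  have h8 := Nat.le_of_mul_le_mul_left h1 (by omega)
  obtain ⟨p, rfl⟩ : ∃ p, q = p + 1 := ⟨q - 1, by omega⟩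
  obtain ⟨Q, rfl⟩ : ∃ p, Q = p + 1 := ⟨Q - 1, by
    rcases Q with _ | Q
    · simp at h3; omega
    · rfl⟩
  obtain ⟨w, rfl⟩ : ∃ p, w = p + 1 := ⟨w - 1, by omega⟩
  simp only [Nat.add_sub_cancel] at h3 h8
  have h9 : i * p ≤ (p + 1) * Q := by
    have : (p + 1) * (Q + 1) - 1 = (p + 1) * Q + p := by rw [mul_add]; omega
    nlinarith
  have h10 : κ' * ((w + 1) * p) ≤ (p + 1) * (υ - 1) := Nat.le_of_mul_le_mul_left (by
    calc κ * (κ' * ((w + 1) * p)) = κ' * (κ * (w + 1) * p) := by ring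
      _ ≤ κ' * ((p + 1) * Q) := Nat.mul_le_mul_left _ ((Nat.mul_le_mul_right _ h2).trans h9)
      _ = (p + 1) * (Q * κ') := by ring
      _ ≤ (p + 1) * (κ * (υ - 1)) := Nat.mul_le_mul_left _ h8
      _ = κ * ((p + 1) * (υ - 1)) := by ring) (Nat.pos_of_ne_zero h6)
  obtain ⟨υ, rfl⟩ : ∃ p, υ = p + 1 := ⟨υ - 1, by
    rcases υ with _ | υ
    · simp at h10; omega
    · rfl⟩
  simp only [Nat.add_sub_cancel] at h10
  obtain rfl : κ' = 1 := by
    by_contra h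
    have : 2 * ((w + 1) * p) ≤ (p + 1) * w := (Nat.mul_le_mul_right _ (by omega)).trans
      (h10.trans (Nat.mul_le_mul_left _ (by omega)))
    nlinarith
  exact ⟨rfl, by nlinarith⟩

/-- The middle case. -/
theorem exists_line (hn : 3 ≤ Fintype.card ι)
    (hi : (H.index + 1) * (Nat.card F - 1) ≤ Nat.card F ^ Fintype.card ι - 1) (he : e ≠ 0)
    (h0 : ws H e ≠ ⊥) (h1 : ¬ ann e ≤ ws H e) :
    ∃ y ∉ F ∙ e, ∀ φ, φ ∈ ws H e ↔ φ e = 0 ∧ φ y = 0 := by
  have : Finite (Dual F 𝐕) := Module.finite_of_finite F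
  obtain ⟨ψ, -, hψ⟩ := exists_chK (A := (⊥ : AddSubgroup F)) bot_ne_top
  let β : 𝐕 →+ Dual F 𝐕 →+ F := AddMonoidHom.mk'
    (fun x => AddMonoidHom.mk' (fun φ : Dual F 𝐕 => φ x) fun _ _ => rfl) fun _ _ => by ext; simp
  have hβ : ∀ x φ, β x φ = φ x := fun _ _ => rfl
  have hd := fun {φ} => exists_dual β (fun x hx c => (exists_functional (W := ⊥) hx c).imp
    fun _ h => h.1) (by rw [Module.natCard_eq_pow_finrank (K := F),
      Module.natCard_eq_pow_finrank (K := F) (V := Dual F 𝐕), Subspace.dual_finrank_eq]) hψ (W := ws H e) (x := φ)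
  set Y := dl β (chK ψ) (ws H e)
  have h2 : (F ∙ e).toAddSubgroup ≤ Y := fun x hx φ hφ => by
    obtain ⟨a, rfl⟩ := Submodule.mem_span_singleton.1 hx
    simp [hβ, hφ.1]
  obtain ⟨K, h3, h4⟩ := basic (H := H) (P := stabilizer 𝐆 e)
    (fun g hg => ⟨1, one_ne_zero, by simpa using hg⟩) fun φ h => by simp [tt_smul h, h]
  have h5 : ∀ g ∈ K, g • e = e → ∀ y ∈ Y, g • y ∈ Y := fun g hg hg' y hy => by
    obtain ⟨χ, h5, h6⟩ := h4 g hg
    intro φ hφ
    simpa [hβ, mul_smul, tt_smul h5, sm, hg', hφ.1] using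
      hy _ (cp_mem_ws h6 (by simp [mul_smul, tt_smul h5, h5, hg']) hφ)
  have h6 : Nat.card (F ∙ e).toAddSubgroup = Nat.card F := by
    rw [show Nat.card (F ∙ e).toAddSubgroup = _ from
      Module.natCard_eq_pow_finrank (K := F) (V := F ∙ e), finrank_span_singleton he, pow_one]
  have h7 : ∀ y ∈ Y, y ∉ F ∙ e → stabilizer 𝐆 e ⊓ stabilizer 𝐆 y ≤ K ∧
      Nat.card F ≤ (F ∙ e).toAddSubgroup.relIndex Y := fun y hy hy' => by
    have h7 := ncard_mul_le K (stabilizer 𝐆 e) y (T := Set.univ \ (F ∙ e : Submodule F 𝐕))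
      (A := (Y : Set 𝐕) \ (F ∙ e : Submodule F 𝐕)) (Set.toFinite _) (fun z hz => by
        obtain ⟨g, h7, h8⟩ := exists_sl_pair hn he hy' he hz.2
        exact ⟨g, h7, h8⟩) fun g hg hg' => ⟨h5 g hg hg' y hy, fun h => hy' (by
          obtain ⟨a, ha⟩ := Submodule.mem_span_singleton.1 h
          rw [← mem_stabilizer_iff.1 hg', ← sm, smul_left_cancel_iff] at ha
          exact Submodule.mem_span_singleton.2 ⟨a, ha⟩)⟩
    have h8 := AddSubgroup.relIndex_mul_relIndex ⊥ _ _ bot_le h2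
    rw [AddSubgroup.relIndex_bot_left, AddSubgroup.relIndex_bot_left, h6] at h8
    obtain ⟨k, hk⟩ : ∃ k, Fintype.card ι = k + 1 := ⟨Fintype.card ι - 1, by omega⟩
    rw [Set.ncard_sdiff (show ((F ∙ e : Submodule F 𝐕) : Set 𝐕) ⊆ Y from h2),
      Set.ncard_sdiff (Set.subset_univ _), show ((F ∙ e : Submodule F 𝐕) : Set 𝐕).ncard = _ from h6,
      show (Y : Set 𝐕).ncard = _ from h8.symm, Set.ncard_univ, Nat.card_fun,
      Nat.card_eq_fintype_card (α := ι), hk, pow_succ'] at h7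
    rw [hk, pow_succ'] at hi
    exact (arith two_le_card_field h7 h3 hi (relIndex_le_of_pairing β hψ (fun x _ hx c => by
      obtain ⟨φ, h9, h10⟩ := exists_functional hx c
      exact ⟨φ, mem_ann.2 (h10 e (Submodule.mem_span_singleton_self e)), h9⟩)
        fun x hx φ hφ _ => hx φ hφ) (relIndex_ne_zero' _ _) (relIndex_ne_zero' _ _)
          AddSubgroup.index_ne_zero_of_finite).imp_left Subgroup.relIndex_eq_one.1
  have h8 : ∀ {c : F} {φ : Dual F 𝐕} {y}, φ ∈ ws H e → (∀ c : F, c • y ∈ Y) → φ y = 0 :=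
    fun {c φ y} hφ hy => by_contra fun h => hψ ((AddSubgroup.eq_top_iff' _).2 fun c => by
      simpa [hβ, h] using hy (c / φ y) φ hφ)
  have h9 : ∀ {y y' : 𝐕}, y ∈ Y → y ∉ F ∙ e → y' ∈ Y → y' ∉ Submodule.span F {e, y} →
      ∃ φ : Dual F 𝐕, φ y' = 1 ∧ φ y = 0 ∧ ∀ x, φ x = 0 → x ∈ Y := fun {y y'} hy h9 hy' h10 => by
    obtain ⟨φ, h11, h12, h13⟩ := exists_fun₂ h10
    refine ⟨φ, h11, h13, fun x hx => ?_⟩
    simpa [tt_smul hx, h11] using Y.sub_mem (h5 (tt x φ) ((h7 y hy h9).1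
      ⟨by simp [tt_smul hx, h12], by simp [tt_smul hx, h13]⟩) (by simp [tt_smul hx, h12]) y' hy') hy'
  obtain ⟨φ₀, h10, h11⟩ := SetLike.not_le_iff_exists.1 h1
  obtain ⟨y, hy, h12⟩ := hd h11
  have hy' : y ∉ F ∙ e := fun h => h12 (by
    obtain ⟨a, rfl⟩ := Submodule.mem_span_singleton.1 h
    simp [hβ, mem_ann.1 h10])
  have h13 : Y ≤ (Submodule.span F {e, y}).toAddSubgroup := fun y' h13 => by_contra fun h14 => by
    obtain ⟨φ, h15, -, h16⟩ := h9 hy hy' h13 h14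
    obtain ⟨φ', -, h17, h18⟩ := h9 h13 (fun h => h14 (Submodule.span_mono (by simp) h)) hy fun h => by
      obtain ⟨a, b, h⟩ := Submodule.mem_span_pair.1 h
      have hb : b ≠ 0 := fun hb => hy' (Submodule.mem_span_singleton.2 ⟨a, by simpa [hb] using h⟩)
      exact h14 (Submodule.mem_span_pair.2 ⟨-(a / b), b⁻¹, by
        rw [← h]; match_scalars <;> field_simp <;> ring⟩)
    refine h0 ((AddSubgroup.eq_bot_iff_forall _).2 fun χ hχ => LinearMap.ext fun x =>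
      h8 (c := 0) hχ fun c => ?_)
    simpa using Y.add_mem (h16 (c • x - φ (c • x) • y') (by simp [h15]))
      (h18 (φ (c • x) • y') (by simp [h17]))
  have h14 := AddSubgroup.relIndex_mul_relIndex _ _ _ h2 h13
  rw [relIndex_submodule (h2.trans h13), finrank_pair he hy', finrank_span_singleton he,
    show 2 - 1 = 1 from rfl, pow_one] at h14
  have h15 : Y.relIndex (Submodule.span F {e, y}).toAddSubgroup = 1 := by
    have h15 := (h7 y hy hy').2
    have h16 : 0 < Nat.card F := Nat.card_pos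
    rcases h : Y.relIndex (Submodule.span F {e, y}).toAddSubgroup with _ | _ | k
    · simp [h] at h14; omega
    · rfl
    · rw [h] at h14; nlinarith
  refine ⟨y, hy', fun φ => ⟨fun hφ => ⟨hφ.1, h8 (c := 0) hφ fun c => AddSubgroup.relIndex_eq_one.1 h15
    (Submodule.smul_mem _ c (Submodule.subset_span (by simp)))⟩, fun hφ => by_contra fun h => ?_⟩⟩
  obtain ⟨z, hz, hz'⟩ := hd h
  obtain ⟨a, b, rfl⟩ := Submodule.mem_span_pair.1 (h13 hz)
  simp [hβ, hφ.1, hφ.2] at hz'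

end Cfsg.Lib.Forms.MI.SL
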