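import Cfsg.Agent.Lib.MinIdx.L1

/-!
Minimal index of `SL_n(q)`, II: subgroups without transvections, and the main theorem.
-/

set_option autoImplicit false

namespace Cfsg.Lib.Forms.MI.SL

open Module MulAction Cfsg.Lib.Linear
open scoped LinearAlgebra.Projectivization

variable {ι : Type} [Fintype ι] [DecidableEq ι] {F : Type*} [Field F]
  {H : Subgroup (Matrix.SpecialLinearGroup ι F)} {e u v : ι → F} {φ ψ : Dual F (ι → F)}

local notation "𝐆" => Matrix.SpecialLinearGroup ι F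
local notation "𝐕" => ι → F

theorem exists_diag {a b : 𝐕} {α β : Dual F 𝐕} (h1 : α a = 1) (h2 : β b = 1) (h3 : α b = 0)
    (h4 : β a = 0) {t : F} (ht : t ≠ 0) :
    ∃ g : 𝐆, ∀ x, g • x = x + ((t - 1) * α x) • a + ((t⁻¹ - 1) * β x) • b := by
  refine ⟨tt a (t • β) * tt b (-t⁻¹ • α) * tt a (t • β) * (tt a (-β) * tt b α * tt a (-β)),
    fun x => ?_⟩
  have h5 : ∀ c : F, (c • β) a = 0 := fun c => by simp [h4]
  have h6 : ∀ c : F, (c • α) b = 0 := fun c => by simp [h3]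
  have h7 : (-β) a = 0 := by simp [h4]
  simp only [mul_smul, tt_smul (h5 _), tt_smul (h6 _), tt_smul h7, tt_smul h3, map_add, map_smul,
    LinearMap.smul_apply, LinearMap.neg_apply, h1, h2, h3, h4, smul_eq_mul]
  match_scalars <;> field_simp <;> ring

/-- `H` has no transvections and covers the Levi factor of the stabiliser of `e`. -/
structure Tr (H : Subgroup 𝐆) (e : 𝐕) (φ : Dual F 𝐕) : Prop where
  triv : ∀ v ≠ 0, ∀ χ ∈ ws H v, χ = 0
  lift : ∀ (g : 𝐆) (c : F), g • e = c • e → ∃ χ : Dual F 𝐕, χ e = 0 ∧ g * tt e χ ∈ H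
  e0 : e ≠ 0
  φe : φ e = 0
  φ0 : ∃ z, φ z = 1

/-- `ψ` gives the lift of the transvection `(u, φ)`. -/
def Lf (H : Subgroup 𝐆) (e : 𝐕) (φ : Dual F 𝐕) (u : 𝐕) (ψ : Dual F 𝐕) : Prop :=
  ψ e = 0 ∧ ∃ g ∈ H, ∀ x, g • x = x + ψ x • e + φ x • u

namespace Tr
variable (h : Tr H e φ)
include h

theorem exists_lf (hu : φ u = 0) : ∃ ψ, Lf H e φ u ψ :=
  (h.lift (tt u φ) 1 (by simp [tt_smul hu, h.φe])).imp fun ψ h1 => ⟨h1.1, _, h1.2, fun x => by
    simp [mul_smul, tt_smul hu, tt_smul h1.1, h.φe]⟩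

theorem uniq {ψ' : Dual F 𝐕} (h1 : Lf H e φ u ψ) (h2 : Lf H e φ u ψ') (x : 𝐕) : ψ x = ψ' x := by
  obtain ⟨h1, g, hg, h3⟩ := h1
  obtain ⟨h2, g', hg', h4⟩ := h2
  have h5 : (ψ - ψ') e = 0 := by simp [h1, h2]
  have h6 : g'⁻¹ * g = tt e (ψ - ψ') := sl_ext_smul fun x => by
    rw [mul_smul, inv_smul_eq_iff, tt_smul h5, h3, h4]
    simp only [map_add, map_smul, h2, h.φe, LinearMap.sub_apply]
    module
  simpa [sub_eq_zero] using DFunLike.congr_fun
    (h.triv e h.e0 _ ⟨h5, h6 ▸ H.mul_mem (H.inv_mem hg') hg⟩) x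

theorem mul {u' : 𝐕} {ψ' : Dual F 𝐕} (h1 : Lf H e φ u ψ) (h2 : Lf H e φ u' ψ') (hu : φ u' = 0) :
    Lf H e φ (u + u') (ψ + ψ' + ψ u' • φ) := by
  obtain ⟨h1, g, hg, h3⟩ := h1
  obtain ⟨h2, g', hg', h4⟩ := h2
  refine ⟨by simp [h1, h2, h.φe], _, H.mul_mem hg hg', fun x => ?_⟩
  simp only [mul_smul, h3, h4, map_add, map_smul, h1, hu, h.φe, LinearMap.add_apply,
    LinearMap.smul_apply]
  module

theorem comm (h1 : Lf H e φ u ψ) {g : 𝐆} {s a : F} (h2 : g • e = s • e) (h3 : g • u = a • u)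
    (h4 : ∀ x, φ (g • x) = a * φ x) {x : 𝐕} (hx : φ x = 0) : ψ (g • x) = s * ψ x := by
  obtain ⟨χ, h5, h6⟩ := h.lift g s h2
  have h7 : ∀ x, (g * tt e χ) • x = g • x + (χ x * s) • e := fun x => by
    rw [mul_smul, tt_smul h5, smul_add, sm, h2, smul_smul]
  obtain ⟨h8, t, ht, h9⟩ := id h1
  have h10 : s • ((g * tt e χ)⁻¹ • e) = e := by
    rw [← sm, inv_smul_eq_iff, h7, h2, h5]; simp
  have := h.uniq h1 (ψ' := cp (s • ψ + (χ u * s) • φ) (g * tt e χ)⁻¹) ⟨by
    by_cases hs : s = 0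
    · simp [hs]
    · refine (mul_eq_zero.1 ?_).resolve_left hs
      rw [cp_apply, ← smul_eq_mul, ← map_smul, h10]
      simp [h8, h.φe], _, H.mul_mem (H.mul_mem h6 ht) (H.inv_mem h6), fun y => by
    obtain ⟨y, rfl⟩ := MulAction.surjective (g * tt e χ) y
    rw [cp_apply, inv_smul_smul, mul_smul, inv_smul_smul, mul_smul _ t, h9, smul_add, smul_add, sm,
      sm]
    simp only [h7, h2, h3, h4, h5, h.φe, map_add, map_smul, LinearMap.add_apply,
      LinearMap.smul_apply]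
    generalize g • y = w
    module⟩ ((g * tt e χ) • x)
  rw [cp_apply, inv_smul_smul, h7] at this
  simpa [h8, hx] using this

theorem self (h1 : Lf H e φ u ψ) (hu : φ u = 0) (hu' : u ∉ F ∙ e) : ψ u = 0 := by
  obtain ⟨z, hz⟩ := h.φ0
  by_cases h2 : (2 : F) = 0
  · have h3 := h.uniq (h.mul h1 h1 hu) (ψ' := 0) ⟨rfl, 1, H.one_mem, fun x => by
      simp [← two_smul F u, h2]⟩ z
    simpa [hz, ← two_mul, h2] using h3
  · obtain ⟨α, h3, h4⟩ := exists_functional hu' 1
    have h5 := h4 e (Submodule.mem_span_singleton_self e)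
    obtain ⟨g, hg⟩ := exists_diag (b := z - α z • u) (β := φ) h3 (by simp [hz, hu])
      (by simp [h3]) hu (t := -1) (by simp)
    have := h.comm h1 (g := g) (s := 1) (a := -1) (by simp [hg, h5, h.φe])
      (by simp only [hg, h3, hu]; module) (fun x => by simp [hg, hz, hu]; ring) hu
    rw [hg] at this
    simp only [h3, hu, map_add, map_smul, smul_eq_mul] at this
    exact (mul_eq_zero.1 (by linear_combination -this)).resolve_left h2

theorem vanish [Finite F] (hn : Fintype.card ι = 4 → Nat.card F ≠ 2) (h1 : Lf H e φ u ψ)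
    (hu : φ u = 0) (hu' : u ∉ F ∙ e) {x : 𝐕} (hx : φ x = 0) : ψ x = 0 := by
  obtain ⟨z, hz⟩ := h.φ0
  have h2 := h.self h1 hu hu'
  by_cases h3 : x ∈ Submodule.span F {e, u}
  · obtain ⟨a, b, rfl⟩ := Submodule.mem_span_pair.1 h3
    simp [h1.1, h2]
  have h4 : ∀ c : F, c • u + x ∉ F ∙ e := fun c hc => h3 (by
    obtain ⟨a, ha⟩ := Submodule.mem_span_singleton.1 hc
    exact Submodule.mem_span_pair.2 ⟨a, -c, by rw [ha]; module⟩)
  by_cases h5 : (2 : F) = 0
  swap
  · obtain ⟨ψ', h6⟩ := h.exists_lf hx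
    have h7 := h.self h6 hx (by simpa using h4 0)
    have h8 := h.uniq (h.mul h1 h6 hx) (add_comm u x ▸ h.mul h6 h1 hu) z
    have h9 := h.self (h.mul h1 h6 hx) (by simp [hu, hx]) (by simpa using h4 1)
    simp only [LinearMap.add_apply, LinearMap.smul_apply, map_add, hz, hu, hx, h2, h7,
      smul_eq_mul] at h8 h9
    exact (mul_eq_zero.1 (by linear_combination h8 + h9)).resolve_left h5
  by_cases h6 : Nat.card F = 2
  · have h7 : finrank F (Submodule.span F {e, u} ⊔ F ∙ x : Submodule F 𝐕) = 3 := by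
      rw [Submodule.finrank_sup_span_singleton h3, finrank_pair h.e0 hu']
    have h8 : Submodule.span F {e, u} ⊔ F ∙ x < ⊤ := lt_top_iff_ne_top.2 fun h8 => by
      have : (⊤ : Submodule F 𝐕) ≤ LinearMap.ker φ := h8 ▸ sup_le (Submodule.span_le.2 (by
        rintro _ (rfl | rfl); exacts [h.φe, hu])) ((Submodule.span_singleton_le_iff_mem _ _).2 hx)
      simpa [hz] using this (Submodule.mem_top (x := z))
    have h9 := Submodule.finrank_lt_finrank_of_lt h8
    rw [finrank_top, finrank_fintype_fun_eq_card] at h9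
    obtain ⟨y, -, hy, hy'⟩ := exists_not_mem_kers ⊤ (Submodule.span F {e, u} ⊔ F ∙ x) [φ]
      (by have := mt hn (not_not.2 h6); simp; omega)
    obtain ⟨χ, h10, h11⟩ := exists_functional hy 1
    have h12 := h11 x (Submodule.mem_sup_right (Submodule.mem_span_singleton_self x))
    simpa [tt_smul h12, h10] using h.comm h1 (g := tt x χ) (s := 1) (a := 1)
      (by simp [tt_smul h12, h11 e (Submodule.mem_sup_left (Submodule.subset_span (by simp)))])
      (by simp [tt_smul h12, h11 u (Submodule.mem_sup_left (Submodule.subset_span (by simp)))])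
      (fun y => by simp [tt_smul h12, hx]) (hy' φ (by simp))
  obtain ⟨t, ht, ht'⟩ := Symp.exists_sq_ne_one (F := F)
    (Or.inr ⟨by have := two_le_card_field (F := F); omega, h5⟩)
  obtain ⟨ξ, h7, h8, h9⟩ := exists_fun₂ h3
  obtain ⟨ε, h10, h11, h12⟩ := exists_fun₂ (x := e) (e := u) (u := x) fun h10 => by
    obtain ⟨a, b, h10⟩ := Submodule.mem_span_pair.1 h10
    obtain rfl : b = 0 := by simpa [h7, h8, h9] using congrArg ξ h10
    have ha : a ≠ 0 := fun ha => h.e0 (by simpa [ha] using h10.symm)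
    exact hu' (Submodule.mem_span_singleton.2 ⟨a⁻¹, by simp [← h10, smul_smul, ha]⟩)
  obtain ⟨g, hg⟩ := exists_diag h7 h10 h8 h12 ht
  have := h.comm h1 (g := g) (s := t⁻¹) (a := 1) (by simp only [hg, h8, h10]; module)
    (by simp [hg, h9, h11]) (fun y => by simp [hg, hx, h.φe]) hx
  simp only [hg, h7, h12, map_add, map_smul, smul_eq_mul, h1.1] at this
  field_simp at this
  exact (mul_eq_zero.1 (by linear_combination this)).resolve_left (sub_ne_zero.2 ht')

theorem false [Finite F] (hn : Fintype.card ι = 4 → Nat.card F ≠ 2) (hu : φ u = 0)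
    (hu' : u ∉ F ∙ e) : False := by
  obtain ⟨z, hz⟩ := h.φ0
  obtain ⟨ψ, h1⟩ := h.exists_lf hu
  obtain ⟨h2, g, hg, h3⟩ := id h1
  have h4 : φ (u + ψ z • e) = 0 := by simp [hu, h.φe]
  have h5 : g = tt (u + ψ z • e) φ := sl_ext_smul fun x => by
    have := h.vanish hn h1 hu hu' (x := x - φ x • z) (by simp [hz])
    rw [map_sub, map_smul, sub_eq_zero] at this
    rw [h3, tt_smul h4, this]
    module
  have := h.triv _ (fun h6 => hu' (Submodule.mem_span_singleton.2 ⟨-ψ z, by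
    rw [eq_neg_of_add_eq_zero_left h6, neg_smul]⟩)) φ ⟨h4, h5 ▸ hg⟩
  simp [this] at hz

end Tr

variable [Finite F]

theorem card_le_index (hn : 3 ≤ Fintype.card ι) (hn' : Fintype.card ι = 4 → Nat.card F ≠ 2)
    (hH : H ≠ ⊤) : Nat.card (ℙ F 𝐕) ≤ H.index := by
  by_contra hi
  have hq := two_le_card_field (F := F)
  have h1 := fisher (Ω := ℙ F 𝐕) inferInstance (not_le.1 hi)
  have h2 : (H.index + 1) * (Nat.card F - 1) ≤ Nat.card F ^ Fintype.card ι - 1 := by
    rw [← Nat.card_eq_fintype_card, ← Nat.card_fun, Projectivization.card F 𝐕]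
    exact Nat.mul_le_mul_right _ (not_le.1 hi)
  have h3 : ∀ {e e' : 𝐕}, e ≠ 0 → e' ≠ 0 → ∃ g ∈ H, ∃ c : F, c ≠ 0 ∧ g • e = c • e' :=
    fun {e e'} he he' => by
      obtain ⟨g, hg⟩ := h1.exists_smul_eq (Projectivization.mk F e he) (Projectivization.mk F e' he')
      obtain ⟨c, hc⟩ := (Projectivization.mk_eq_mk_iff F _ _ _ _).1 hg
      exact ⟨g, g.2, c, c.ne_zero, hc.symm⟩
  have h4 : ∀ e : 𝐕, e ≠ 0 → ¬ ann e ≤ ws H e := fun e he h => hH (eq_top_of_ws fun e' he' φ hφ => by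
    obtain ⟨g, hg, c, hc, h4⟩ := h3 he he'
    convert conj_mem_ws hg h4 hc (h (mem_ann.2 (show (c⁻¹ • cp φ g) e = 0 by simp [h4, hφ])))
    ext x
    simp [cp, hc])
  by_cases h5 : ∀ v ≠ 0, ∀ χ ∈ ws H v, χ = 0
  swap
  · push Not at h5
    obtain ⟨v, hv, χ, h5, h6⟩ := h5
    refine not_lines hn fun e he => exists_line hn h2 he (fun h => h6 ?_) (h4 e he)
    obtain ⟨g, hg, c, hc, h7⟩ := h3 hv he
    have h8 := conj_mem_ws hg h7 hc h5
    rw [h, AddSubgroup.mem_bot] at h8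
    ext x
    simpa [hc] using DFunLike.congr_fun h8 (g • Pi.single x 1)
  obtain ⟨e, -, he⟩ := exists_not_mem_of_finrank_lt (U := ⊤) (W := (⊥ : Submodule F 𝐕))
    (by simp; omega)
  obtain ⟨u, -, hu⟩ := exists_not_mem_of_finrank_lt (U := ⊤) (W := F ∙ e)
    ((finrank_span_singleton_le e).trans_lt (by simp; omega))
  obtain ⟨z, φ, hz, hφ⟩ := exists_fun (W := Submodule.span F {e, u})
    ((finrank_span_pair_le e u).trans_lt (by omega))
  obtain ⟨K, h6, h7⟩ := basic (H := H) (e := e) (P := stabilizer 𝐆 (Projectivization.mk F e he))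
    (fun g hg => ((Projectivization.mk_eq_mk_iff F _ _ _ _).1 hg).elim fun c hc =>
      ⟨c, c.ne_zero, hc.symm⟩) fun φ h =>
      (Projectivization.mk_eq_mk_iff' F _ _ _ _).2 ⟨1, by simp [tt_smul h, h]⟩
  rw [(AddSubgroup.eq_bot_iff_forall _).2 (h5 e he), AddSubgroup.relIndex_bot_left,
    card_ann he] at h6
  have h8 : K.relIndex (stabilizer 𝐆 (Projectivization.mk F e he)) = 1 := by
    obtain ⟨k, hk⟩ : ∃ k, Fintype.card ι = k + 1 := ⟨Fintype.card ι - 1, by omega⟩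
    rw [hk, Nat.add_sub_cancel] at h6
    rw [hk, pow_succ] at h2
    have h8 := relIndex_ne_zero' K (stabilizer 𝐆 (Projectivization.mk F e he))
    by_contra h9
    have h10 : 2 * Nat.card F ^ k ≤ H.index := (Nat.mul_le_mul_right _ (by omega)).trans h6
    obtain ⟨p, hp⟩ : ∃ p, Nat.card F = p + 2 := ⟨Nat.card F - 2, by omega⟩
    generalize Nat.card F ^ k = Q at *
    rw [hp, show p + 2 - 1 = p + 1 from rfl] at h2
    have : (2 * Q + 1) * (p + 1) ≤ Q * (p + 2) :=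
      (Nat.mul_le_mul_right _ (by omega)).trans (h2.trans (Nat.sub_le _ _))
    nlinarith
  exact Tr.false (φ := φ) ⟨h5, fun g c hg => h7 g (Subgroup.relIndex_eq_one.1 h8
    ((Projectivization.mk_eq_mk_iff' F _ _ _ _).2 ⟨c, hg.symm⟩)), he,
      hφ e (Submodule.subset_span (by simp)), z, hz⟩ hn' (hφ u (Submodule.subset_span (by simp))) hu

theorem min_index (hn : 3 ≤ Fintype.card ι) (hn' : Fintype.card ι = 4 → Nat.card F ≠ 2) :
    (∀ H : Subgroup (Matrix.ProjectiveSpecialLinearGroup ι F), H ≠ ⊤ → Nat.card (ℙ F 𝐕) ≤ H.index) ∧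
      ∃ H : Subgroup (Matrix.ProjectiveSpecialLinearGroup ι F), H.index = Nat.card (ℙ F 𝐕) := by
  refine ⟨fun H hH => ?_, ?_⟩
  · have h1 := QuotientGroup.mk'_surjective (Subgroup.center 𝐆)
    rw [← Subgroup.index_comap_of_surjective H h1]
    exact card_le_index hn hn' fun h => hH (Subgroup.comap_injective h1 (by rw [h]; rfl))
  · have : Nonempty ι := Fintype.card_pos_iff.1 (by omega)
    exact ⟨_, index_stabilizer_of_transitive _ (Projectivization.mk F (1 : 𝐕) one_ne_zero)⟩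

end Cfsg.Lib.Forms.MI.SL
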