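import Cfsg.Agent.Lib.MinIdx.Fin

/-!
Minimal index of unitary groups, I: the local index inequalities at an isotropic point.
-/

set_option autoImplicit false

namespace Cfsg.Lib.Forms.MI

open Module Form

section Gen
variable {F : Type*} [Field F] {σ : F →+* F} {K : Kind σ} {V : Type*} [AddCommGroup V]
  [Module F V] {D : Form K V}

/-- Eichler elements at `e` with second vector in `W`. -/
def Qs {e : V} (he : D.Q e = 0) (W : AddSubgroup V) : Subgroup D.isom where
  carrier := {g | ∃ z ∈ W, ∃ d h, g = D.eich e z d h}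
  one_mem' := ⟨0, W.zero_mem, 0, ⟨he, by simp, by simp⟩, (D.eich_zero _).symm⟩
  mul_mem' := by
    rintro _ _ ⟨z, hz, d, h, rfl⟩ ⟨z', hz', d', h', rfl⟩
    exact ⟨_, W.add_mem hz hz', _, _, D.eich_mul h h'⟩
  inv_mem' := by
    rintro _ ⟨z, hz, d, h, rfl⟩
    exact ⟨_, W.neg_mem hz, _, _, D.eich_inv h⟩

theorem eich_mem_Qs {e z : V} (he : D.Q e = 0) {W : AddSubgroup V} (hz : z ∈ W) {d : F}
    (h : D.IsEich e z d) : D.eich e z d h ∈ Qs he W := ⟨z, hz, d, h, rfl⟩

theorem Qs_le_fix {e : V} (he : D.Q e = 0) (W : AddSubgroup V) :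
    Qs he W ≤ D.E ⊓ D.fix (F ∙ e) := by
  rintro _ ⟨z, -, d, h, rfl⟩
  exact ⟨eich_mem_E _ _ _ _, by simp [mem_fix_span, eich_apply_self]⟩

theorem Qs_le_stab {e : V} (he : D.Q e = 0) (W : AddSubgroup V) :
    Qs he W ≤ D.E ⊓ D.stab (F ∙ e) := (Qs_le_fix he W).trans (inf_le_inf_left _ (fix_le_stab _ _))

theorem exists_smul_of_stab {e : V} (h0 : e ≠ 0) {g : D.isom} (hg : g ∈ D.stab (F ∙ e)) :
    ∃ c : F, c ≠ 0 ∧ g.1 e = c • e := by
  obtain ⟨c, hc⟩ := Submodule.mem_span_singleton.1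
    (stab_mem hg (Submodule.mem_span_singleton_self e))
  exact ⟨c, fun h => h0 (by simpa [h] using hc.symm), hc.symm⟩

theorem conj_mem_Qs {e : V} (he : D.Q e = 0) {g k : D.isom} {c : F} (hg : g.1 e = c • e)
    (hk : k ∈ Qs he ⊤) : g * k * g⁻¹ ∈ Qs he ⊤ := by
  obtain ⟨z, -, d, h, rfl⟩ := hk
  have h1 : D.IsEich (c • e) (g.1 z) d := hg ▸ h.isom g
  by_cases hc : c = 0
  · rw [conj_eich, D.eich_congr _ (e' := 0) (by simpa [hc] using h1) (by simp [hg, hc]) rfl rfl,
      eich_zero_left]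
    exact Subgroup.one_mem _
  have h2 : D.IsEich e (g.1 z) d := by simpa [hc] using h1.smul_left c⁻¹
  have h3 : D.IsEich e (σ c • g.1 z) (c * σ c * d) := by
    simpa [K.σσ, mul_comm] using h2.smul (σ c)
  rw [conj_eich, D.eich_congr _ h1 hg rfl rfl, D.eich_smul_left c h3 h1]
  exact eich_mem_Qs he (AddSubgroup.mem_top _) _

/-- The stabiliser of an additive subgroup. -/
def astab (D : Form K V) [Finite V] (W : AddSubgroup V) : Subgroup D.isom :=
  have := finite_isom (D := D)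
  { carrier := {g | ∀ x ∈ W, g.1 x ∈ W}
    one_mem' := fun _ hx => hx
    mul_mem' := fun ha hb x hx => ha _ (hb x hx)
    inv_mem' := fun {g} hg x hx => by
      obtain ⟨y, hy, rfl⟩ := ((Set.toFinite (W : Set V)).injOn_iff_bijOn_of_mapsTo
        (f := g.1) hg).1 g.1.injective.injOn |>.surjOn hx
      simpa using hy }

theorem mem_astab [Finite V] {W : AddSubgroup V} {g : D.isom} :
    g ∈ astab D W ↔ ∀ x ∈ W, g.1 x ∈ W := Iff.rfl

/-- The hyperplane `e^⊥` as an additive group. -/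
abbrev pe (D : Form K V) (e : V) : AddSubgroup V := (D.perp (F ∙ e)).toAddSubgroup

theorem mem_pe {e x : V} : x ∈ pe D e ↔ D.B e x = 0 := D.mem_perp_span_singleton

theorem zSet_le_pe {H : Subgroup D.isom} {e : V} (he : D.Q e = 0) : zSet H e he ≤ pe D e :=
  fun _ h => mem_pe.2 (perp_of_mem_zSet h)

theorem Qs_le_astab [Finite V] {e : V} (he : D.Q e = 0) {W : AddSubgroup V} (h1 : W ≤ pe D e)
    (h2 : ∀ c : F, c • e ∈ W) : Qs he ⊤ ≤ astab D W := by
  rintro _ ⟨z, -, d, h, rfl⟩ x hx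
  rw [D.eich_apply_of_perp h (mem_pe.1 (h1 hx))]
  exact W.add_mem hx (h2 _)

variable [FiniteDimensional F V]

theorem sub_mem_of_eich_eq (hD : D.Nondeg) {e z z' : V} {d d' : F} {h : D.IsEich e z d}
    {h' : D.IsEich e z' d'} (h0 : e ≠ 0) (H : D.eich e z d h = D.eich e z' d' h') :
    z - z' ∈ F ∙ e := by
  obtain ⟨f, hf⟩ := hD.exists_isHyp h.Q_e h0
  have h1 := congrArg (fun g : D.isom => K.ε • g.1 f) H
  simp only [eich_apply, hf.B_ef, mul_one, smul_sub, smul_add, smul_smul, ← mul_assoc,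
    K.ε_mul, one_smul, one_mul] at h1
  refine Submodule.mem_span_singleton.2 ⟨K.ε * D.B z f - K.ε * D.B z' f - d + d', ?_⟩
  linear_combination (norm := module) h1

theorem card_pe [Finite F] (hD : D.Nondeg) {e : V} (h0 : e ≠ 0) :
    Nat.card (pe D e) = Nat.card F ^ (finrank F V - 1) := by
  have h1 := hD.finrank_perp (F ∙ e)
  rw [finrank_span_singleton h0] at h1
  rw [← h1, Nat.add_sub_cancel_left]
  exact Module.natCard_eq_pow_finrank (V := D.perp (F ∙ e))

theorem relIndex_le_Qs [Finite V] (hD : D.Nondeg) {e : V} (he : D.Q e = 0) (h0 : e ≠ 0)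
    {W : AddSubgroup V} (hW : ∀ c : F, c • e ∈ W) :
    W.relIndex (pe D e) ≤ (Qs he W).relIndex (Qs he ⊤) := by
  have := finite_isom (D := D)
  choose d hd using fun z : pe D e => exists_isEich he (mem_pe.1 z.2)
  have h1 := card_le_relIndex_mul (T := pe D e ⧸ W.addSubgroupOf (pe D e)) (Qs he W) (Qs he ⊤)
    (fun t => D.eich e _ _ (hd t.out)) (fun t => eich_mem_Qs he (AddSubgroup.mem_top _) _) (s := 1) fun t₀ => by
      refine (Set.ncard_le_one (Set.toFinite _)).2 ?_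
      suffices ∀ t, (D.eich e _ _ (hd t₀.out))⁻¹ * D.eich e _ _ (hd t.out) ∈ Qs he W → t₀ = t from
        fun a ha b hb => (this a ha).symm.trans (this b hb)
      rintro t ⟨z, hz, c, h, H⟩
      rw [eich_inv, eich_mul] at H
      obtain ⟨a, ha⟩ := Submodule.mem_span_singleton.1 (sub_mem_of_eich_eq hD h0 H)
      rw [← QuotientAddGroup.out_eq' t₀, ← QuotientAddGroup.out_eq' t, QuotientAddGroup.eq,
        AddSubgroup.mem_addSubgroupOf]
      simpa [ha] using W.add_mem (hW a) hz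
  rwa [mul_one] at h1

end Gen

variable {F : Type*} [Field F] {σ : F →+* F} {q : ℕ} {h : IsConj σ q} {V : Type*}
  [AddCommGroup V] [Module F V] {D : Form h.kind V} {H : Subgroup D.isom}

theorem isEich_zero {e : V} (he : D.Q e = 0) {d : F} (hd : d + σ d = 0) : D.IsEich e 0 d :=
  ⟨he, by simp, by simpa using hd⟩

/-- The unitary transvections at `e`, parametrised by `F`. -/
def tv {e : V} (he : D.Q e = 0) (x : F) : D.isom :=
  D.eich e 0 (x - σ x) (isEich_zero he (by simp [h.σσ]))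

theorem tv_add {e : V} (he : D.Q e = 0) (x y : F) : tv he (x + y) = tv he x * tv he y := by
  rw [tv, tv, tv, eich_mul]
  exact D.eich_congr _ _ rfl (by simp) (by simp; ring)

theorem tv_fixed {e : V} (he : D.Q e = 0) {x : F} (hx : σ x = x) : tv he x = 1 := by
  rw [tv, ← D.eich_zero (isEich_zero he (by simp))]
  exact D.eich_congr _ _ rfl rfl (by simp [hx])

theorem tv_mem_Qs {e : V} (he : D.Q e = 0) (W : AddSubgroup V) (x : F) : tv he x ∈ Qs he W :=
  eich_mem_Qs he W.zero_mem _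

theorem exists_tv {e : V} (he : D.Q e = 0) {d : F} (hd : D.IsEich e 0 d) :
    ∃ x, d = x - σ x ∧ D.eich e 0 d hd = tv he x := by
  obtain ⟨a, ha⟩ := Herm.comm (h := h) d (by simpa using hd.tr_d)
  exact ⟨a, by simpa using ha, D.eich_congr _ _ rfl rfl (by simpa using ha)⟩

theorem conj_tv {e : V} (he : D.Q e = 0) {g : D.isom} {c : F} (hg : g.1 e = c • e) (x : F) :
    g * tv he x * g⁻¹ = tv he (c * σ c * x) := isom_ext fun y => by
  rw [tv, conj_eich]
  simp only [tv, eich_apply, hg, map_zero, D.B_lin, map_mul, h.σσ, LinearMap.zero_apply]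
  module

/-- The parameters of the transvections at `e` in `H`. -/
def As (H : Subgroup D.isom) {e : V} (he : D.Q e = 0) : AddSubgroup F where
  carrier := {x | tv he x ∈ H}
  zero_mem' := by simp [tv_fixed he]
  add_mem' := fun ha hb => by simpa [tv_add] using H.mul_mem ha hb
  neg_mem' := fun {x} hx => by
    have : tv he (-x) = (tv he x)⁻¹ := by
      rw [eq_inv_iff_mul_eq_one, ← tv_add, tv_fixed he (by simp)]
    simpa [this] using hx

theorem mem_As {e : V} {he : D.Q e = 0} {x : F} : x ∈ As H he ↔ tv he x ∈ H := Iff.rfl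

theorem As_eq_top {e : V} (he : D.Q e = 0) : As H he = ⊤ ↔ D.At H ⊥ e := by
  refine ⟨fun h1 z hz d hd => ?_, fun h1 => eq_top_iff.2 fun x _ => h1 0 (by simp) _ _⟩
  obtain rfl : z = 0 := by simpa using hz
  obtain ⟨x, -, hx⟩ := exists_tv he hd
  exact hx ▸ (h1.ge trivial : x ∈ As H he)

theorem B_mem_As {e z z' : V} {he : D.Q e = 0} (hz : z ∈ zSet H e he) (hz' : z' ∈ zSet H e he) :
    D.B z z' ∈ As H he := by
  have := eich_zero_mem_of_zSet hz hz' (isEich_zero he (by simp [herm_symm]))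
  rwa [D.eich_congr _ (isEich_zero he (by simp [h.σσ])) rfl rfl
    (show _ = D.B z z' - σ (D.B z z') by rw [herm_symm])] at this

/-- The fixed field as an additive group. -/
def fx (σ : F →+* F) : AddSubgroup F where
  carrier := {x | σ x = x}
  zero_mem' := map_zero σ
  add_mem' := fun {a b} (ha : σ a = a) (hb : σ b = b) => show σ _ = _ by rw [map_add, ha, hb]
  neg_mem' := fun {a} (ha : σ a = a) => show σ _ = _ by rw [map_neg, ha]

theorem mem_fx {x : F} : x ∈ fx σ ↔ σ x = x := Iff.rfl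

theorem fx_le_As {e : V} (he : D.Q e = 0) : fx σ ≤ As H he := fun x hx => by
  rw [mem_As, tv_fixed he hx]; exact H.one_mem

theorem index_fx (h : IsConj σ q) : (fx σ).index = q := by
  have h1 := (fx σ).card_mul_index
  rw [show Nat.card (fx σ) = q from h.card_fixed, h.card, pow_two] at h1
  exact Nat.eq_of_mul_eq_mul_left (by have := h.two_le; omega) h1

theorem fx_ne_top (h : IsConj σ q) : fx σ ≠ ⊤ := fun H => by
  obtain ⟨x, hx⟩ := h.exists_not_fixed
  exact hx (H.ge trivial : x ∈ fx σ)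

/-- The fixed units. -/
def fu (σ : F →+* F) : Subgroup Fˣ where
  carrier := {x | σ x = x}
  one_mem' := map_one σ
  mul_mem' := fun {a b} (ha : σ a = a) (hb : σ b = b) =>
    show σ _ = _ by rw [Units.val_mul, map_mul, ha, hb]
  inv_mem' := fun {a} (ha : σ a = a) => show σ _ = _ by rw [Units.val_inv_eq_inv_val, map_inv₀, ha]

theorem card_fu (h : IsConj σ q) : Nat.card (fu σ) + 1 = q := by
  have h1 : Nat.card (fu σ) = q - 1 := h.card_fixed_ne_zero ▸ Nat.card_congr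
    ⟨fun x => ⟨x.1, x.1.ne_zero, x.2⟩, fun x => ⟨Units.mk0 x.1 x.2.1, x.2.2⟩,
      fun _ => by simp, fun _ => by simp⟩
  have := h.two_le
  omega

variable [Finite V] [FiniteDimensional F V]

/-- The basic inequality. -/
theorem basic (hD : D.Nondeg) {e : V} (he : D.Q e = 0) (h0 : e ≠ 0) {K P : Subgroup D.isom}
    (h1 : H ⊓ P ≤ K) (h2 : Qs he ⊤ ≤ K) (h3 : Qs he ⊤ ≤ P) :
    K.relIndex P * (zSet H e he).relIndex (pe D e) * (As H he).index ≤ H.relIndex P := by
  have := finite_isom (D := D)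
  refine le_trans ?_ (relIndex_mul_le h3 h1 h2)
  rw [mul_assoc]
  refine Nat.mul_le_mul_left _ ?_
  obtain ⟨R, h4, h5⟩ := exists_img (tv he) ⊤ fun x _ y _ => tv_add he x y
  have h6 : ∀ W, R ≤ Qs he W := fun W g hg => by
    obtain ⟨x, -, rfl⟩ := (h4 g).1 hg
    exact tv_mem_Qs he W x
  refine le_trans ?_ (relIndex_mul_le (K := Qs he (zSet H e he)) (h6 ⊤) ?_ (h6 _))
  · rw [h5 H (As H he) fun _ _ => Iff.rfl, AddSubgroup.relIndex_top_right]
    exact Nat.mul_le_mul_right _ (relIndex_le_Qs hD he h0 (smul_mem_zSet he))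
  · rintro _ ⟨hg, z, -, d, hd, rfl⟩
    exact eich_mem_Qs he (mem_zSet.2 ⟨d, hd, hg⟩) _

omit [Finite V] in
theorem exists_conj_tv (hD : D.Nondeg) (hn : 3 ≤ finrank F V) {e : V} (he : D.Q e = 0)
    (h0 : e ≠ 0) : ∀ c ∈ fu σ, ∃ g ∈ D.E ⊓ D.stab (F ∙ e),
      ∀ x, g * tv he x * g⁻¹ = tv he ((c : F) • x) := fun c hc => by
  obtain ⟨t, ht⟩ := h.exists_norm_eq hc
  have ht0 : t ≠ 0 := fun h => c.ne_zero (by simp [← ht, h])
  obtain ⟨g, hg, h1⟩ := Herm.exists_mem_E_map hD hn h0 (smul_ne_zero ht0 h0)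
    (by rw [he, D.Q_smul_of_Q he])
  refine ⟨g, ⟨hg, mem_stab_of_mapsTo _ fun x hx => ?_⟩, fun x => by rw [conj_tv he h1, ht]; rfl⟩
  obtain ⟨a, rfl⟩ := Submodule.mem_span_singleton.1 hx
  rw [map_smul, h1]
  exact Submodule.smul_mem _ _ (Submodule.smul_mem _ _ (Submodule.mem_span_singleton_self e))

omit [Finite V] [FiniteDimensional F V] in
theorem conj_tv_fix {e : V} (he : D.Q e = 0) : ∀ g ∈ D.E ⊓ D.fix (F ∙ e),
    ∀ x, g * tv he x * g⁻¹ = tv he x := fun g hg x => by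
  simpa using conj_tv he (c := 1) (by simpa [mem_fix_span] using hg.2) x

theorem basic_q (hD : D.Nondeg) (hn : 3 ≤ finrank F V) {e : V} (he : D.Q e = 0) (h0 : e ≠ 0)
    (hA : As H he ≠ ⊤) {K : Subgroup D.isom} (h1 : H ⊓ (D.E ⊓ D.fix (F ∙ e)) ≤ K)
    (h2 : Qs he ⊤ ≤ K) :
    q * (K.relIndex (D.E ⊓ D.fix (F ∙ e)) * (zSet H e he).relIndex (pe D e)) ≤
      H.relIndex (D.E ⊓ D.stab (F ∙ e)) := by
  have := finite_isom (D := D)
  have := h.finite
  have h3 := tau' (inf_le_inf_left _ (fix_le_stab _ _)) (tv he) hA (fun _ => Iff.rfl) (fu σ)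
    (exists_conj_tv hD hn he h0) (conj_tv_fix he) (basic hD he h0 h1 h2 (Qs_le_fix he _))
  rwa [card_fu h] at h3

theorem basic_q' (hD : D.Nondeg) (hn : 3 ≤ finrank F V) {e : V} (he : D.Q e = 0) (h0 : e ≠ 0)
    (hA : As H he ≠ ⊤) (hA' : ¬ As H he ≤ fx σ) {K : Subgroup D.isom}
    (h1 : H ⊓ (D.E ⊓ D.fix (F ∙ e)) ≤ K) (h2 : Qs he ⊤ ≤ K) :
    (q + 1) * (K.relIndex (D.E ⊓ D.fix (F ∙ e)) * (zSet H e he).relIndex (pe D e)) ≤
      H.relIndex (D.E ⊓ D.stab (F ∙ e)) := by
  have := finite_isom (D := D)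
  have := h.finite
  have h3 := tau (inf_le_inf_left _ (fix_le_stab _ _)) (tv he) hA (fun _ => Iff.rfl) (fu σ)
    (exists_conj_tv hD hn he h0) (conj_tv_fix he)
  have h4 := basic hD he h0 h1 h2 (Qs_le_fix he _)
  have h5 := AddSubgroup.relIndex_mul_index (fx_le_As (H := H) he)
  have h6 : (fx σ).relIndex (As H he) ≠ 1 := fun h => hA' (AddSubgroup.relIndex_eq_one.1 h)
  have h7 := addRelIndex_ne_zero' (fx σ) (As H he)
  have h8 := card_fu h
  have h9 : (As H he).index ≠ 1 := fun h => hA (AddSubgroup.index_eq_one.1 h)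
  have h10 : (As H he).index ≠ 0 := AddSubgroup.index_ne_zero_of_finite
  rw [index_fx h] at h5
  generalize K.relIndex _ * _ = X, (As H he).index = a, Nat.card (fu σ) = s,
    (fx σ).relIndex _ = r at *
  obtain ⟨j, rfl⟩ : ∃ j, a = j + 1 := ⟨a - 1, by omega⟩
  rw [Nat.add_sub_cancel] at h3
  refine Nat.le_of_mul_le_mul_right (c := j) ?_ (by omega)
  have h11 := Nat.mul_le_mul_left s h4
  have h12 : 2 * (j + 1) ≤ s + 1 := by nlinarith [Nat.mul_le_mul_right (j + 1) (show 2 ≤ r by omega)]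
  have h13 : (q + 1) * j ≤ s * (j + 1) := by nlinarith
  nlinarith [Nat.mul_le_mul_left X h13]

end Cfsg.Lib.Forms.MI
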