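import Cfsg.Agent.Lib.MinIdx.O6
import Cfsg.Agent.Lib.MinIdx.U1
import Cfsg.Agent.Lib.MinIdx.Dual

/-! Minimal index of `Ω₆⁻(q)`: orbits of the point stabiliser. -/

set_option autoImplicit false
set_option quotPrecheck false

namespace Cfsg.Lib.Forms.MI.M6

open Module Form

universe u

section Gen
variable {F : Type*} [Field F] {σ : F →+* F} {K : Kind σ} {V : Type*} [AddCommGroup V]
  [Module F V] {D : Form K V}

/-- Orbit counting for the twisted action of a point stabiliser. -/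
theorem ncard_mul_le_tw [Finite F] [Finite V] (H E : Subgroup D.isom) (e y : V) {T A : Set V}
    (hT : ∀ t ∈ T, ∃ g ∈ E, ∃ c : F, c ≠ 0 ∧ g.1 e = c • e ∧ g.1 y = c • t)
    (h : ∀ g ∈ H, g ∈ E → ∀ c : F, c ≠ 0 → g.1 e = c • e → c⁻¹ • g.1 y ∈ A) :
    T.ncard * H.relIndex (E ⊓ D.fix (F ∙ e) ⊓ D.fix (F ∙ y)) ≤
      H.relIndex (E ⊓ D.stab (F ∙ e)) * A.ncard := by
  have := finite_isom (D := D)
  have : FiniteDimensional F V := Module.Finite.of_finite
  let _ : MulAction (D.isom × Fˣ) V :=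
    { smul := fun p v => (p.2 : F) • p.1.1 v
      one_smul := fun v => one_smul F v
      mul_smul := fun p q v => by
        change ((p.2 * q.2 : Fˣ) : F) • p.1.1 (q.1.1 v) = (p.2 : F) • p.1.1 ((q.2 : F) • q.1.1 v)
        rw [map_smul, smul_smul, Units.val_mul] }
  have h0 : ∀ {p : D.isom × Fˣ}, p • e = e → p.1.1 e = (p.2 : F)⁻¹ • e := fun {p} hp => by
    rw [eq_inv_smul_iff₀ p.2.ne_zero]; exact hp
  have h1 := ncard_mul_le (H.comap (MonoidHom.fst _ Fˣ))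
    (E.comap (MonoidHom.fst _ Fˣ) ⊓ MulAction.stabilizer _ e) y
    (Set.toFinite A) (T := T) (fun t ht => by
      obtain ⟨g, hg, c, hc, h, h'⟩ := hT t ht
      refine ⟨(g, (Units.mk0 c hc)⁻¹), ⟨hg, ?_⟩, ?_⟩
      · change (((Units.mk0 c hc)⁻¹ : Fˣ) : F) • g.1 e = e
        simp [h, smul_smul, hc]
      · change (((Units.mk0 c hc)⁻¹ : Fˣ) : F) • g.1 y = t
        simp [h', smul_smul, hc]) fun p hp hp' => by
      have := h _ hp hp'.1 _ (inv_ne_zero p.2.ne_zero) (h0 hp'.2)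
      rwa [inv_inv] at this
  rw [Subgroup.relIndex_comap, Subgroup.relIndex_comap] at h1
  refine le_trans (Nat.mul_le_mul_left _ (relIndex_mono _ ?_))
    (h1.trans (Nat.mul_le_mul_right _ (relIndex_mono _ ?_)))
  · rintro g ⟨⟨h2, h3⟩, h4⟩
    exact ⟨(g, 1), ⟨⟨h2, (one_smul F _).trans (h3 e (Submodule.mem_span_singleton_self e))⟩,
      (one_smul F _).trans (h4 y (Submodule.mem_span_singleton_self y))⟩, rfl⟩
  · rintro _ ⟨p, ⟨h2, h3⟩, rfl⟩
    refine ⟨h2, mem_stab_of_mapsTo (W := F ∙ e) _ fun x hx => ?_⟩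
    obtain ⟨c, rfl⟩ := Submodule.mem_span_singleton.1 hx
    change p.1.1 _ ∈ _
    rw [map_smul, h0 h3]
    exact Submodule.smul_mem _ _ (smul_mem_span _ _)

theorem mul_le_ncard {α β : Type*} [Finite α] (φ : α → β) {S : Set β} {T : Set α} {n : ℕ}
    (h : ∀ b ∈ S, n ≤ {x | x ∈ T ∧ φ x = b}.ncard) (hS : S.Finite) : S.ncard * n ≤ T.ncard := by
  classical
  rw [Set.ncard_eq_toFinset_card S hS, Set.ncard_eq_toFinset_card T, mul_comm]
  refine (Finset.mul_card_image_le_card_of_maps_to (f := φ) (s := (Set.toFinite T).toFinset.filter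
    fun x => φ x ∈ S) (fun a ha => by simpa using (Finset.mem_filter.1 ha).2) _ fun b hb => ?_).trans
      (Finset.card_filter_le _ _)
  rw [Set.Finite.mem_toFinset] at hb
  refine (h b hb).trans (le_of_eq ?_)
  rw [← Set.ncard_coe_finset]
  congr 1
  ext x
  simp only [Set.mem_ofPred_eq, Finset.coe_filter, Finset.mem_filter, Set.Finite.mem_toFinset]
  exact ⟨fun h => ⟨⟨h.1, h.2 ▸ hb⟩, h.2⟩, fun h => ⟨h.1.1, h.2⟩⟩

end Gen

variable {F : Type*} [Field F] {V : Type u} [AddCommGroup V] [Module F V]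
  {D : Form (quadKind F) V} {H : Subgroup D.isom} {e : V}

local notation "𝐪" => Nat.card F

variable (D) in
/-- The vectors of `e^⊥ \ ⟨e⟩` of norm `c`. -/
def lev (e : V) (c : F) : Set V := {z | D.B e z = 0 ∧ z ∉ F ∙ e ∧ D.Q z = c}

theorem not_mem_of_Q (he : D.Q e = 0) {z : V} (hz : D.Q z ≠ 0) : z ∉ F ∙ e := fun h => by
  obtain ⟨c, rfl⟩ := Submodule.mem_span_singleton.1 h
  exact hz (D.Q_smul_of_Q he c)

/-- The group `Q_e`. -/
noncomputable def qe (D : Form (quadKind F) V) (e : V) : Subgroup D.isom :=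
  (exists_qg e (pe D e) fun _ => mem_pe.1).choose

theorem mem_qe {g : D.isom} : g ∈ qe D e ↔ ∃ z, D.B e z = 0 ∧ sg D e z = g :=
  ((exists_qg e (pe D e) fun _ => mem_pe.1).choose_spec.1 g).trans
    (exists_congr fun _ => and_congr_left' mem_pe)

theorem relIndex_qe (H : Subgroup D.isom) : H.relIndex (qe D e) = (zs H e).relIndex (pe D e) :=
  (exists_qg e (pe D e) fun _ => mem_pe.1).choose_spec.2 H

theorem sg_mem_fix {a z x : V} (h1 : D.B a x = 0) (h2 : D.B z x = 0) : sg D a z ∈ D.fix (F ∙ x) := by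
  simpa [mem_fix_span] using sg_fix h1 h2

theorem qe_le_fix : qe D e ≤ D.E ⊓ D.fix (F ∙ e) := fun g hg => by
  obtain ⟨z, -, rfl⟩ := mem_qe.1 hg
  exact ⟨sg_mem_E _ _, by simpa [mem_fix_span] using sg_self e z⟩

theorem qe_le : qe D e ≤ D.E ⊓ D.stab (F ∙ e) :=
  qe_le_fix.trans (inf_le_inf_left _ (fix_le_stab _ _))

/-- The group `(H ∩ P_e) Q_e`. -/
noncomputable def ke (H : Subgroup D.isom) (e : V) : Subgroup D.isom :=
  H ⊓ (D.E ⊓ D.stab (F ∙ e)) ⊔ qe D e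

theorem exists_of_ke (he : D.Q e = 0) (h0 : e ≠ 0) {k : D.isom} (hk : k ∈ ke H e) :
    ∃ g ∈ H, ∃ z, D.B e z = 0 ∧ k = g * sg D e z := by
  obtain ⟨g, hg, n, hn, rfl⟩ := mem_sup_of_conj (fun g hg n hn => by
    obtain ⟨z, hz, rfl⟩ := mem_qe.1 hn
    obtain ⟨c, hc, h⟩ := exists_smul_of_stab h0 hg.2.2
    have h1 : D.B e (g.1 z) = 0 := by simpa [h, hz, hc] using B_isom g e z
    rw [conj_sg, h, sg_smul_left he h1]
    exact mem_qe.2 ⟨_, by simp [h1], rfl⟩) hk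
  obtain ⟨z, hz, rfl⟩ := mem_qe.1 hn
  exact ⟨g, hg.1, z, hz, rfl⟩

theorem ke_zs (he : D.Q e = 0) (h0 : e ≠ 0) {k : D.isom} (hk : k ∈ ke H e) {c : F} (hc : c ≠ 0)
    (h : k.1 e = c • e) {z : V} (hz : z ∈ zs H e) : c • k.1 z ∈ zs H e := by
  obtain ⟨g, hg, y, hy, rfl⟩ := exists_of_ke he h0 hk
  rw [isom_mul_apply, sg_self] at h
  rw [isom_mul_apply, sg_apply_perp he hy hz.1, ← mem_zs_smul he hc, ← h]
  exact map_mem_zs (add_mem hz (smul_mem_zs he _)) hg

variable [Finite F] [FiniteDimensional F V]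

theorem exists_map_tw (hD : D.Nondeg) (hn : 6 ≤ finrank F V) (he : D.Q e = 0) (h0 : e ≠ 0) {d : F}
    {x z : V} (hx : x ∈ lev D e d) (hz : z ∈ lev D e d) {c : F} (hc : c ≠ 0) :
    ∃ g ∈ D.E, g.1 e = c • e ∧ g.1 x = z := by
  obtain ⟨f, hf⟩ := hD.exists_isHyp he h0
  obtain ⟨g, hg, h1⟩ := Quad.trans hD (by omega) e (c • e) h0 (smul_ne_zero hc h0)
    (by rw [he, D.Q_smul_of_Q he])
  have key : ∀ y ∈ lev D e d, ∃ a : F, ∃ w : D.hp e f, y = a • e + w ∧ w ≠ 0 ∧ D.Q w = d := by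
    rintro y ⟨h1, h2, h3⟩
    obtain ⟨w, hw, h4⟩ := hf.exists_comb y
    rw [h1, zero_smul, add_zero] at h4
    refine ⟨_, ⟨w, hw⟩, h4, fun h => h2 ?_, ?_⟩
    · rw [h4, show w = 0 from congrArg Subtype.val h, add_zero]
      exact smul_mem_span _ _
    · rw [← h3, h4]
      simp [quad_Q_add, quad_Q_smul, he, ((mem_hp D).1 hw).1]
  obtain ⟨a, w, h2, h3, h4⟩ := key (g.1 x) ⟨by simpa [h1, hx.1, hc] using B_isom g e x, fun h => by
    obtain ⟨b, hb⟩ := Submodule.mem_span_singleton.1 h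
    refine hx.2.1 (Submodule.mem_span_singleton.2 ⟨b / c, g.1.injective ?_⟩)
    rw [map_smul, h1, smul_smul, div_mul_cancel₀ _ hc, hb], by simpa using hx.2.2⟩
  obtain ⟨b, w', rfl, h5, h6⟩ := key z hz
  have := hf.finrank_hp
  obtain ⟨k, hk, h7⟩ := Quad.trans (hf.nondeg_hp hD) (by omega) w w' h3 h5 (h4.trans h6.symm)
  obtain ⟨y, hy, h8⟩ := hf.exists_B_ne_zero hD w'.2 fun h => h5 (Subtype.ext h)
  have h9 := ((mem_hp D).1 hy).1
  have h10 : (extend hf.isOrthCompl.symm k).1 e = e := extend_apply_right _ _ left_mem_ln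
  refine ⟨sg D e (((b - a) / D.B y w') • y) * (extend hf.isOrthCompl.symm k * g),
    mul_mem (sg_mem_E _ _) (mul_mem (extend_mem_E _ hk) hg), ?_, ?_⟩
  · rw [isom_mul_apply, isom_mul_apply, h1, map_smul, h10, map_smul, sg_self]
  · rw [isom_mul_apply, isom_mul_apply, h2, map_add, map_smul, h10, extend_apply_left, h7,
      sg_apply_perp he (by simp [h9]) (by simp [hf.B_ee, ((mem_hp D).1 w'.2).1])]
    simp only [map_add, map_smul, LinearMap.smul_apply, smul_eq_mul, D.eq_zero_symm h9,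
      RingHom.id_apply]
    match_scalars <;> field_simp <;> ring

theorem le_ncard_lev {f : V} (hf : D.IsHyp e f) (c : F) :
    𝐪 * {w : D.hp e f | w ≠ 0 ∧ D.Q w = c}.ncard ≤ (lev D e c).ncard := by
  have := Module.finite_of_finite F (M := V)
  rw [← Nat.card_coe_set_eq, ← Nat.card_coe_set_eq, ← Nat.card_prod]
  have key : ∀ (a : F) (w : D.hp e f), D.B f (a • e + w) = a := fun a w => by
    simpa using hf.B_f_comb a 0 w.2
  refine Nat.card_le_card_of_injective (β := lev D e c)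
    (fun p => ⟨p.1 • e + p.2.1.1, by simpa using hf.B_e_comb p.1 0 p.2.1.2, fun H => p.2.2.1 ?_,
      by simpa using (hf.Q_comb p.1 0 p.2.1.2).trans (by simpa using p.2.2.2)⟩) fun a b H => ?_
  · obtain ⟨c, hc⟩ := Submodule.mem_span_singleton.1 H
    have := key p.1 p.2.1
    rw [← hc, ← add_zero (c • e), ← Submodule.coe_zero (p := D.hp e f), key] at this
    exact Subtype.ext (by simpa [this] using hc.symm)
  · have H' : a.1 • e + a.2.1.1 = b.1 • e + b.2.1.1 := congrArg Subtype.val H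
    have := key a.1 a.2.1
    rw [H', key] at this
    exact Prod.ext this.symm (Subtype.ext (Subtype.ext (by simpa [this] using H')))

theorem card_sub (S : Submodule F V) : Nat.card S.toAddSubgroup = 𝐪 ^ finrank F S :=
  Module.natCard_eq_pow_finrank (V := S)

theorem ncard_span (h0 : e ≠ 0) : ((F ∙ e : Submodule F V) : Set V).ncard = 𝐪 :=
  (card_sub (F ∙ e)).trans (by rw [finrank_span_singleton h0, pow_one])

/-- The hypotheses on a counterexample. -/
structure Bad (H : Subgroup D.isom) : Prop where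
  nd : D.Nondeg
  hn : finrank F V = 6
  hm : ¬ D.HasTS 3
  h1 : ¬ D.E ≤ H
  h2 : H.relIndex D.E < (𝐪 + 1) * (𝐪 ^ 3 + 1)

namespace Bad
variable (hb : Bad H)
include hb

omit [Finite F] in
theorem exists_ns {U : Submodule F V} (hU : 3 ≤ finrank F U) : ∃ z ∈ U, D.Q z ≠ 0 := by
  by_contra! h
  exact hb.hm (HasTS.mono ⟨U, rfl, isTS_quad h⟩ hU)

omit [Finite F] in
theorem mem_ln {u y : V} (h : Fl D e u) (hy : D.Q y = 0) (hy' : y ∈ D.hp e u) : y ∈ ln F e u := by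
  by_contra h1
  obtain ⟨z, hz, h2⟩ := hb.exists_ns (U := ln F e u ⊔ F ∙ y) (by
    rw [Submodule.finrank_sup_span_singleton h1, h.finrank_ln])
  obtain ⟨a, ha, b, hb', rfl⟩ := Submodule.mem_sup.1 hz
  obtain ⟨c, rfl⟩ := Submodule.mem_span_singleton.1 hb'
  exact h2 (by simp [quad_Q_add, quad_Q_smul, hy, h.isTS.1 a ha, hy' a ha])

theorem nsv_eq : nsv D = (𝐪 + 1) * (𝐪 ^ 3 + 1) * (𝐪 - 1) := by
  rw [nsv_minus hb.nd (m := 2) hb.hn hb.hm, mul_comm (𝐪 + 1), mul_assoc, ← Nat.sq_sub_sq]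

theorem not_nsv : ¬ nsv D ≤ H.relIndex D.E * (𝐪 - 1) := fun h => by
  rw [hb.nsv_eq] at h
  exact hb.h2.not_ge (Nat.le_of_mul_le_mul_right h (Nat.sub_pos_of_lt two_le_card))

theorem not_le_stab_ts {S : Submodule F V} (hS : D.IsTS S) (h0 : S ≠ ⊥) : ¬ H ≤ D.stab S := by
  intro hH
  have := Module.finite_of_finite F (M := V)
  have := finite_isom (D := D)
  have hn := hb.hn
  obtain ⟨k, hk⟩ : ∃ k, finrank F S = k + 1 :=
    ⟨_, (Nat.succ_pred_eq_of_pos (Submodule.one_le_finrank_iff.2 h0)).symm⟩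
  have h7 : ¬ 3 ≤ k + 1 := fun h => hb.hm (HasTS.mono ⟨S, hk, hS⟩ h)
  obtain ⟨U, h1, h2, T, h3, h4, h5⟩ := iota_rec hb.nd (by omega) hS hk
  have h6 := le_iota k h1 h3 h4 (by omega)
  refine hb.not_nsv (le_trans ?_ (Nat.mul_le_mul_right _ (relIndex_anti _ (inf_le_left.trans hH))))
  refine Nat.le_of_mul_le_mul_right ?_
    (Nat.sub_pos_of_lt (Nat.one_lt_pow k.succ_ne_zero (two_le_card (F := F))))
  calc _ ≤ nsv D * (iota (D.restrict U) T * (𝐪 - 1)) := Nat.mul_le_mul_left _ h6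
    _ ≤ _ := by
      rw [← mul_assoc, mul_right_comm (iota D S)]
      exact Nat.mul_le_mul_right _ h5

theorem exists_B_ne (he : D.Q e = 0) (h0 : e ≠ 0) : ∃ g ∈ H, D.B e (g.1 e) ≠ 0 := by
  by_contra! h
  let s : Set V := {x | ∃ g ∈ H, g.1 e = x}
  have hB : ∀ x ∈ s, ∀ y ∈ s, D.B x y = 0 := by
    rintro _ ⟨g, hg, rfl⟩ _ ⟨k, hk, rfl⟩
    rw [B_isom_left]
    exact h (g⁻¹ * k) (H.mul_mem (H.inv_mem hg) hk)
  have hB' : Submodule.span F s ≤ D.perp (Submodule.span F s) :=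
    Submodule.span_le.2 fun x hx => (mem_perp_span D).2 fun y hy => hB y hy x hx
  refine hb.not_le_stab_ts (S := Submodule.span F s) (isTS_quad fun x hx => ?_) (fun h1 => h0 ?_)
    fun g hg => mem_stab_of_mapsTo _ fun x hx => ?_
  · induction hx using Submodule.span_induction with
    | mem x hx => obtain ⟨g, -, rfl⟩ := hx; simpa using he
    | zero => exact D.Q_zero
    | add x y hx hy h1 h2 => rw [quad_Q_add, h1, h2, hB' hy x hx]; simp
    | smul c x _ h1 => exact D.Q_smul_of_Q h1 c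
  · exact (Submodule.span_eq_bot.1 h1) e ⟨1, H.one_mem, rfl⟩
  · refine Submodule.span_le.2 (show s ⊆ (Submodule.span F s).comap (g.1 : V →ₗ[F] V) from ?_) hx
    rintro _ ⟨k, hk, rfl⟩
    exact Submodule.subset_span ⟨g * k, H.mul_mem hg hk, rfl⟩

theorem not_at (he : D.Q e = 0) (h0 : e ≠ 0) : ¬ D.At H ⊤ e := fun h => by
  obtain ⟨g, hg, h1⟩ := hb.exists_B_ne he h0
  exact hb.h1 (h.E_le_of_map hb.nd he hg h1)

theorem not_le_stab_ns {v : V} (hv : D.Q v ≠ 0) : ¬ H ≤ D.stab (F ∙ v) := fun h => by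
  classical
  obtain ⟨w, hw, h1⟩ := nsBound_of_le_stab hb.nd (by have := hb.hn; omega) hv h
  rw [Quad.card_Q_eq_minus hb.nd (m := 2) hb.hn hb.hm hw, show 2 + 1 = 3 from rfl] at h1
  have h2 := hb.h2
  have hq := two_le_card (F := F)
  split_ifs at h1 with h3
  · exact (h2.trans_le (Nat.mul_le_mul_right _ (show _ ≤ 𝐪 ^ 2 by nlinarith))).not_ge
      (by simpa using h1)
  · obtain ⟨r, hr⟩ := odd_card_iff.2 h3
    have h4 : 2 * (𝐪 + 1) ≤ 𝐪 ^ 2 := by nlinarith [show 3 ≤ 𝐪 by omega]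
    have := Nat.mul_le_mul_right (𝐪 ^ 3 + 1) h4
    rw [mul_assoc] at this
    omega

theorem basic (e : V) : (ke H e).relIndex (D.E ⊓ D.stab (F ∙ e)) * (zs H e).relIndex (pe D e) <
    (𝐪 + 1) * (𝐪 ^ 3 + 1) := by
  have := Module.finite_of_finite F (M := V)
  have := finite_isom (D := D)
  rw [← relIndex_qe]
  exact ((relIndex_mul_le qe_le le_sup_left le_sup_right).trans
    (relIndex_mono _ inf_le_left)).trans_lt hb.h2

theorem card_zs (h0 : e ≠ 0) : Nat.card (zs H e) * (zs H e).relIndex (pe D e) = 𝐪 ^ 5 := by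
  have h1 := AddSubgroup.relIndex_mul_relIndex ⊥ (zs H e) (pe D e) bot_le fun _ h => mem_pe.2 h.1
  rwa [AddSubgroup.relIndex_bot_left, AddSubgroup.relIndex_bot_left, card_pe hb.nd h0, hb.hn] at h1

theorem le_lev (he : D.Q e = 0) (h0 : e ≠ 0) {c : F} (hc : c ≠ 0) :
    𝐪 * (𝐪 * (𝐪 ^ 2 + 1)) ≤ (lev D e c).ncard := by
  obtain ⟨f, hf⟩ := hb.nd.exists_isHyp he h0
  refine le_trans (le_of_eq ?_) (le_ncard_lev hf c)
  have := hf.finrank_hp
  have h1 := Quad.card_Q_eq_minus (hf.nondeg_hp hb.nd) (m := 1) (by have := hb.hn; omega)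
    (fun h => hb.hm ((hf.hasTS_succ_iff hb.nd).2 h)) hc
  rw [pow_one] at h1
  rw [← h1, show {w : D.hp e f | w ≠ 0 ∧ D.Q w = c} = {w | (D.restrict (D.hp e f)).Q w = c} from
    Set.ext fun w => and_iff_right_of_imp fun h h' => hc (by rw [← h, h']; exact D.Q_zero)]
  rfl

theorem le_lev' (he : D.Q e = 0) (h0 : e ≠ 0) (c : F) : 𝐪 * 𝐪 ^ 2 ≤ (lev D e c).ncard := by
  have hq := two_le_card (F := F)
  by_cases hc : c = 0
  · obtain ⟨f, hf⟩ := hb.nd.exists_isHyp he h0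
    refine le_trans (Nat.mul_le_mul_left _ ?_) (le_ncard_lev hf c)
    have := hf.finrank_hp
    have h1 := nsv_minus (hf.nondeg_hp hb.nd) (m := 1) (by have := hb.hn; omega)
      (fun h => hb.hm ((hf.hasTS_succ_iff hb.nd).2 h))
    subst hc
    refine le_trans ?_ h1.ge
    rw [pow_one]
    exact (Nat.le_succ _).trans (Nat.le_mul_of_pos_right _ (by omega))
  · exact le_trans (Nat.mul_le_mul_left _ (by nlinarith)) (hb.le_lev he h0 hc)

end Bad

end Cfsg.Lib.Forms.MI.M6
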