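import Cfsg.Agent.Lib.MinIdx.M1

/-! Minimal index of `Ω₆⁻(q)`: the local analysis, counting. -/

set_option autoImplicit false
set_option quotPrecheck false

namespace Cfsg.Lib.Forms.MI.M6

open Module Form

universe u

variable {F : Type*} [Field F] {V : Type u} [AddCommGroup V] [Module F V]
  {D : Form (quadKind F) V} {H : Subgroup D.isom} {e v : V} {A : AddSubgroup F}

local notation "𝐪" => Nat.card F

/-- The bilinear form as a biadditive map. -/
def bA (D : Form (quadKind F) V) : V →+ V →+ F :=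
  AddMonoidHom.mk' (fun x => (D.B x).toAddMonoidHom) fun x y => by ext; simp

@[simp] theorem bA_apply (x y : V) : bA D x y = D.B x y := rfl

/-- The dual group. -/
def yy (H : Subgroup D.isom) (e : V) (A : AddSubgroup F) : AddSubgroup V := dl (bA D) A (zs H e)

theorem mem_yy {y : V} : y ∈ yy H e A ↔ ∀ z ∈ zs H e, D.B y z ∈ A := Iff.rfl

theorem yy_perp (he : D.Q e = 0) (hA : A ≠ ⊤) {y : V} (hy : y ∈ yy H e A) : D.B e y = 0 :=
  D.eq_zero_symm (by_contra fun hb => hA ((AddSubgroup.eq_top_iff' A).2 fun c => by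
    simpa [hb] using hy _ (smul_mem_zs he (c / D.B y e))))

theorem span_le_yy : (F ∙ e).toAddSubgroup ≤ yy H e A := fun x hx z hz => by
  obtain ⟨a, rfl⟩ := Submodule.mem_span_singleton.1 hx
  simp [hz.1]

theorem ke_yy (he : D.Q e = 0) (h0 : e ≠ 0) {k : D.isom} (hk : k ∈ ke H e) {c : F} (hc : c ≠ 0)
    (h : k.1 e = c • e) {y : V} (hy : y ∈ yy H e A) : c⁻¹ • k.1 y ∈ yy H e A := fun z hz => by
  have h1 : (k⁻¹).1 e = c⁻¹ • e := by
    rw [eq_inv_smul_iff₀ hc, ← map_smul, ← h]; simp [isom_inv_apply]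
  simpa [B_isom_left] using hy _ (ke_zs he h0 (inv_mem hk) (inv_ne_zero hc) h1 hz)

theorem not_mem_ln (he : D.Q e = 0) (hev : D.B e v = 0) (hv : D.Q v ≠ 0) {a : V} (ha : D.Q a = 0)
    (h : a ∉ F ∙ e) : a ∉ ln F e v := fun h1 => by
  obtain ⟨s, t, rfl⟩ := Submodule.mem_span_pair.1 h1
  obtain rfl : t = 0 := by simpa [quad_Q_add, quad_Q_smul, he, hev, hv] using ha
  exact h (by simpa using smul_mem_span s e)

variable [Finite F] [FiniteDimensional F V]

theorem pow_pred {c : F} (hc : c ≠ 0) {n : ℕ} (h : 𝐪 = n + 1) : c ^ n = 1 := by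
  have := Fintype.ofFinite F
  have h1 := FiniteField.pow_card_sub_one_eq_one c hc
  rwa [← Nat.card_eq_fintype_card, h] at h1

theorem card_le_sq {W : AddSubgroup V} (h : ∀ x ∈ W, x ∈ ln F e v) : Nat.card W ≤ 𝐪 ^ 2 :=
  have := Module.finite_of_finite F (M := V)
  (AddSubgroup.card_le_of_le (K := (ln F e v).toAddSubgroup) h).trans ((card_sub _).trans_le
    (Nat.pow_le_pow_right Nat.card_pos (finrank_span_pair_le _ _)))

theorem ncard_le {W : AddSubgroup V} (h0 : e ≠ 0) (h : (F ∙ e).toAddSubgroup ≤ W) {S T : Set V}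
    (h1 : S ⊆ W) (h2 : T ⊆ W) (h3 : ∀ x ∈ S, x ∉ F ∙ e ∧ x ∉ T) (h4 : ∀ x ∈ T, x ∉ F ∙ e) :
    S.ncard + T.ncard + 𝐪 ≤ Nat.card W := by
  have := Module.finite_of_finite F (M := V)
  rw [← ncard_span h0, ← Set.ncard_union_eq (Set.disjoint_left.2 fun x hx => (h3 x hx).2),
    ← Set.ncard_union_eq (Set.disjoint_left.2 fun x hx => hx.elim (fun h => (h3 x h).1) (h4 x))]
  exact Set.ncard_le_ncard (Set.union_subset (Set.union_subset h1 h2) h)

namespace Bad
variable (hb : Bad H) (he : D.Q e = 0) (h0 : e ≠ 0)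
include hb he h0

theorem triv_of_le (h : 𝐪 ^ 3 ≤ (zs H e).relIndex (pe D e)) : Triv H e := fun x hx => by
  by_contra hx'
  have := Module.finite_of_finite F (M := V)
  have := finite_isom (D := D)
  have hq := two_le_card (F := F)
  have h1 := ncard_mul_le_vec (ke H e) (D.E ⊓ D.fix (F ∙ e)) x (T := lev D e (D.Q x))
    (A := {z | z ∈ zs H e ∧ z ∉ F ∙ e}) (fun y hy => by
      obtain ⟨g, hg, h1, h2⟩ := exists_map_tw hb.nd hb.hn.ge he h0 ⟨hx.1, hx', rfl⟩ hy one_ne_zero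
      exact ⟨g, ⟨hg, by simpa [mem_fix_span] using h1⟩, h2⟩) fun g hg hg' =>
    ⟨by simpa using ke_zs he h0 hg one_ne_zero (by simpa [mem_fix_span] using hg'.2) hx,
      fun h => hx' ((fix_le_stab _ _ hg'.2 x).2 h)⟩
  have h2 := ncard_le (W := zs H e) h0 (fun x hx => by
    obtain ⟨a, rfl⟩ := Submodule.mem_span_singleton.1 hx
    exact smul_mem_zs he a) (S := {z | z ∈ zs H e ∧ z ∉ F ∙ e}) (T := ∅) (fun _ h => h.1)
    (Set.empty_subset _) (fun _ h => ⟨h.2, id⟩) fun _ h => h.elim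
  have h3 := ((hb.le_lev' he h0 _).trans (Nat.le_mul_of_pos_right _
    (Nat.pos_of_ne_zero (relIndex_ne_zero' _ _)))).trans (h1.trans (Nat.mul_le_mul_right _
      (relIndex_mono _ (inf_le_inf_left _ (fix_le_stab _ _)))))
  have h4 := (Nat.mul_le_mul_left _ h).trans_lt (hb.basic e)
  have h5 := (Nat.mul_le_mul_left _ h).trans_eq (hb.card_zs h0)
  have h6 : Nat.card (zs H e) ≤ 𝐪 ^ 2 := Nat.le_of_mul_le_mul_right (h5.trans_eq (by ring))
    (pow_pos (by omega) 3)
  have h7 : (ke H e).relIndex (D.E ⊓ D.stab (F ∙ e)) ≤ 𝐪 + 1 := by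
    by_contra! h7
    have := (Nat.mul_le_mul_right _ h7).trans_lt h4
    nlinarith [Nat.mul_le_mul_left (𝐪 * 𝐪) hq, Nat.mul_le_mul_left 𝐪 hq]
  have := h3.trans (Nat.mul_le_mul_right _ h7)
  rw [Set.ncard_empty] at h2
  nlinarith [Nat.mul_le_mul_left (𝐪 + 1) (h2.trans h6)]

omit he in
theorem card_yy (hA : A ≠ ⊤) : Nat.card (yy H e A) ≤ 𝐪 * (zs H e).relIndex (pe D e) := by
  have := Module.finite_of_finite F (M := V)
  have h1 := relIndex_le_of_pairing (bA D) hA (R := (F ∙ e).toAddSubgroup) (W := yy H e A)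
    (L := pe D e) (W' := zs H e) (fun x _ hx c => hb.nd.exists_perp_B_eq' hx c)
    fun x hx z hz _ => hx z hz
  have h2 := AddSubgroup.relIndex_mul_relIndex ⊥ _ (yy H e A) bot_le span_le_yy
  rw [AddSubgroup.relIndex_bot_left, AddSubgroup.relIndex_bot_left, card_sub,
    finrank_span_singleton h0, pow_one] at h2
  exact h2.ge.trans (Nat.mul_le_mul_left _ h1)

theorem count (hA : A ≠ ⊤) (hv : v ∈ yy H e A) (hQ : D.Q v ≠ 0) :
    Nat.card (sqs F) * (𝐪 * (𝐪 * (𝐪 ^ 2 + 1))) *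
      (ke H e).relIndex (D.E ⊓ D.fix (F ∙ e) ⊓ D.fix (F ∙ v)) ≤
      (ke H e).relIndex (D.E ⊓ D.stab (F ∙ e)) *
        {z | z ∈ yy H e A ∧ ∃ c : F, c ≠ 0 ∧ D.Q z = c ^ 2 * D.Q v}.ncard := by
  have := Module.finite_of_finite F (M := V)
  refine le_trans (Nat.mul_le_mul_right _ ?_) (ncard_mul_le_tw (ke H e) D.E e v
    (T := {z | ∃ c : F, c ≠ 0 ∧ z ∈ lev D e (c ^ 2 * D.Q v)}) ?_ fun g hg _ c hc h =>
      ⟨ke_yy he h0 hg hc h hv, _, inv_ne_zero hc, by simp [quad_Q_smul]⟩)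
  · refine le_trans (Nat.mul_le_mul_right _ ?_) (mul_le_ncard D.Q
      (S := {d | ∃ c : F, c ≠ 0 ∧ d = c ^ 2 * D.Q v}) ?_ (Set.toFinite _))
    · refine Nat.card_le_card_of_injective (β := {d | ∃ c : F, c ≠ 0 ∧ d = c ^ 2 * D.Q v})
        (fun s => ⟨s.1 * D.Q v, by
          obtain ⟨c, hc⟩ := s.2
          exact ⟨c, c.ne_zero, by rw [← hc]; simp⟩⟩) fun a b h => ?_
      exact Subtype.ext (Units.ext (mul_right_cancel₀ hQ (congrArg Subtype.val h)))
    · rintro _ ⟨c, hc, rfl⟩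
      exact (hb.le_lev he h0 (mul_ne_zero (pow_ne_zero _ hc) hQ)).trans
        (Set.ncard_le_ncard fun x hx => ⟨⟨c, hc, hx⟩, hx.2.2⟩)
  · rintro t ⟨c, hc, h1, h2, h3⟩
    obtain ⟨g, hg, h⟩ := exists_map_tw hb.nd hb.hn.ge he h0 (z := c⁻¹ • t)
      ⟨yy_perp he hA hv, not_mem_of_Q he hQ, rfl⟩ ⟨by simp [h1],
        (Submodule.smul_mem_iff _ (inv_ne_zero hc)).not.2 h2, by
          rw [quad_Q_smul, h3]; field_simp⟩ (inv_ne_zero hc)
    exact ⟨g, hg, _, inv_ne_zero hc, h⟩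

theorem sg_mem_ke (hA : A ≠ ⊤) (hv : v ∈ yy H e A) (hQ : D.Q v ≠ 0) (hT : ¬ Triv H e) {a n : V}
    (ha : a ∈ D.hp e v) (hn : n ∈ D.hp e v) (han : D.B a n = 0) : sg D a n ∈ ke H e := by
  by_contra h
  have := Module.finite_of_finite F (M := V)
  have := finite_isom (D := D)
  have hq := two_le_card (F := F)
  obtain ⟨h1, h2⟩ := (mem_hp D).1 ha
  obtain ⟨h3, h4⟩ := (mem_hp D).1 hn
  have h5 := zs_le (D := D) (e := a) (Z := (F ∙ n).toAddSubgroup) (fun z hz => by
    obtain ⟨c, rfl⟩ := Submodule.mem_span_singleton.1 hz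
    simp [han]) (ke H e) (P := D.E ⊓ D.fix (F ∙ e) ⊓ D.fix (F ∙ v)) fun z hz => by
      obtain ⟨c, rfl⟩ := Submodule.mem_span_singleton.1 hz
      exact ⟨⟨sg_mem_E _ _, sg_mem_fix (D.eq_zero_symm h1) (by simp [D.eq_zero_symm h3])⟩,
        sg_mem_fix (D.eq_zero_symm h2) (by simp [D.eq_zero_symm h4])⟩
  have h6 := AddSubgroup.relIndex_dvd_card (zs (ke H e) a) (F ∙ n).toAddSubgroup
  have h7 : (zs (ke H e) a).relIndex (F ∙ n).toAddSubgroup ≠ 1 := fun h' =>
    h (AddSubgroup.relIndex_eq_one.1 h' (Submodule.mem_span_singleton_self n)).2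
  rw [card_sub] at h6
  have h8 : (zs (ke H e) a).relIndex (F ∙ n).toAddSubgroup ≠ 0 := fun h' => by
    rw [h', zero_dvd_iff] at h6
    exact pow_ne_zero _ (by omega) h6
  have h9 := (Nat.mul_le_mul_left _ h5).trans (hb.count he h0 hA hv hQ)
  have h10 := hb.basic e
  have h11 := hb.card_yy h0 hA
  have h12 : (zs H e).relIndex (pe D e) < 𝐪 ^ 3 := not_le.1 fun h => hT (hb.triv_of_le he h0 h)
  have h13 := Dvd.intro_left _ (hb.card_zs h0)
  set S := {z | z ∈ yy H e A ∧ ∃ c : F, c ≠ 0 ∧ D.Q z = c ^ 2 * D.Q v}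
  have hS : ∀ x ∈ S, x ∉ F ∙ e := fun x ⟨_, c, hc, h⟩ =>
    not_mem_of_Q he (h ▸ mul_ne_zero (pow_ne_zero _ hc) hQ)
  have h14 := (ncard_le h0 span_le_yy (S := S) (T := ∅) (fun _ h => h.1) (Set.empty_subset _)
    (fun x h => ⟨hS x h, id⟩) fun _ h => h.elim)
  rw [Set.ncard_empty, add_zero] at h14
  generalize (zs (ke H e) a).relIndex (F ∙ n).toAddSubgroup = j at *
  generalize (ke H e).relIndex (D.E ⊓ D.stab (F ∙ e)) = κ at *
  generalize (zs H e).relIndex (pe D e) = w at *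
  have h15 : κ * S.ncard < 𝐪 * ((𝐪 + 1) * (𝐪 ^ 3 + 1)) := by
    refine lt_of_le_of_lt ?_ (Nat.mul_lt_mul_of_pos_left h10 (by omega))
    rw [mul_left_comm]
    exact Nat.mul_le_mul_left _ (by omega)
  by_cases hodd : Odd 𝐪
  · have h16 := (card_sqs F).1 hodd
    have h17 : 3 ≤ j := by
      obtain ⟨r, hr⟩ := (hodd.pow).of_dvd_nat h6
      omega
    replace h9 := (Nat.mul_le_mul_left _ h17).trans h9
    generalize Nat.card (sqs F) = s at *
    by_cases h18 : s = 1
    · subst h18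
      have h2F := odd_card_iff.1 hodd
      obtain ⟨i, hi, rfl⟩ := (Nat.dvd_prime_pow Nat.prime_three).1 (h16 ▸ h13)
      have h19 : S.ncard + 5 ≤ Nat.card (yy H e A) ∨ Nat.card (yy H e A) ≤ 9 := by
        by_cases h19 : ∃ y ∈ yy H e A, y ∉ F ∙ e ∧ D.Q y ≠ D.Q v
        · obtain ⟨y, hy, h19, h20⟩ := h19
          have h21 := ncard_le h0 span_le_yy (S := S) (T := {y, -y}) (fun _ h => h.1)
            (by rintro _ (rfl | rfl); exacts [hy, neg_mem hy]) (fun x h => ⟨hS x h, by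
              obtain ⟨-, c, hc, h⟩ := h
              rw [pow_pred hc h16, one_mul] at h
              rintro (rfl | rfl)
              exacts [h20 h, h20 (D.Q_neg y ▸ h)]⟩)
            (by rintro _ (rfl | rfl); exacts [h19, fun h => h19 (neg_mem_iff.1 h)])
          rw [Set.ncard_pair fun h => h19 (by
            rw [eq_neg_iff_add_eq_zero, ← two_smul F, smul_eq_zero_iff_right h2F] at h
            exact h ▸ zero_mem _)] at h21
          omega
        · push Not at h19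
          refine Or.inr ((card_le_sq (F := F) (e := e) (v := v) fun y hy => ?_).trans (by rw [h16]; rfl))
          by_contra h20
          have h21 := h19 _ hy fun h => h20 (span_le_ln h)
          have h22 := h19 _ (add_mem hv hy) fun h => h20 (by
            simpa using sub_mem (span_le_ln h) (right_mem_ln (b := v)))
          have h23 := h19 _ (sub_mem hv hy) fun h => h20 (by
            simpa using sub_mem (right_mem_ln (b := v)) (span_le_ln h))
          rw [quad_Q_add] at h22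
          rw [quad_Q_sub] at h23
          exact mul_ne_zero h2F hQ (by linear_combination h22 + h23 - 2 * h21)
      rw [h16] at h9 h10 h11 h12 h14
      interval_cases i <;> rcases h19 with h19 | h19 <;> first | omega | nlinarith |
        linarith [Nat.mul_le_mul (show κ ≤ 12 by omega) (show S.ncard ≤ 22 by omega)]
    · obtain ⟨r, rfl⟩ : ∃ r, s = r + 2 := ⟨s - 2, by omega⟩
      have := h9.trans_lt h15
      rw [h16, mul_assoc, mul_assoc, mul_left_comm, Nat.mul_lt_mul_left (by omega)] at this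
      ring_nf at this
      omega
  · have h16 := (card_sqs F).2 hodd
    replace h9 := (Nat.mul_le_mul_left _ (show 2 ≤ j by omega)).trans h9
    generalize Nat.card (sqs F) = s at *
    by_cases h18 : s = 1
    · subst h18
      obtain ⟨i, hi, rfl⟩ := (Nat.dvd_prime_pow Nat.prime_two).1 (h16 ▸ h13)
      rw [h16] at h9 h10 h11 h12 h14
      interval_cases i <;> first | omega | nlinarith
    · obtain ⟨r, rfl⟩ : ∃ r, s = r + 2 := ⟨s - 2, by omega⟩
      have := h9.trans_lt h15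
      rw [h16, mul_assoc, mul_assoc, mul_left_comm, Nat.mul_lt_mul_left (by omega)] at this
      ring_nf at this
      omega

end Bad

end Cfsg.Lib.Forms.MI.M6
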