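import Cfsg.Agent.Lib.MinIdx.M2

/-! Minimal index of `Ω₆⁻(q)`: the local structure. -/

set_option autoImplicit false
set_option quotPrecheck false

namespace Cfsg.Lib.Forms.MI.M6

open Module Form

universe u

variable {F : Type*} [Field F] {V : Type u} [AddCommGroup V] [Module F V]
  {D : Form (quadKind F) V} {H : Subgroup D.isom} {e v : V} {A : AddSubgroup F}
  [Finite F] [FiniteDimensional F V]

local notation "𝐪" => Nat.card F

theorem eq_one_of_two (h : 𝐪 = 2) {c : F} (hc : c ≠ 0) : c = 1 := by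
  simpa using pow_pred hc (n := 1) h

theorem eq_zero_of_two (h : 𝐪 = 2) (hA : A ≠ ⊤) {c : F} (hc : c ∈ A) : c = 0 :=
  by_contra fun h0 => hA ((AddSubgroup.eq_top_iff' A).2 fun d => by
    by_cases hd : d = 0
    · exact hd ▸ A.zero_mem
    · rwa [eq_one_of_two h hd, ← eq_one_of_two h h0])

theorem ncard_pair_le {α : Type*} (a b : α) : ({a, b} : Set α).ncard ≤ 2 :=
  (Set.ncard_insert_le _ _).trans (by simp)

theorem exists_ne_two (h : 𝐪 ≠ 2) (c : F) : ∃ t : F, t ≠ 0 ∧ t ≠ c := by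
  by_contra! h1
  have h2 : (Set.univ : Set F).ncard ≤ ({0, c} : Set F).ncard :=
    Set.ncard_le_ncard fun t _ => (eq_or_ne t 0).imp id (h1 t)
  have := ncard_pair_le (0 : F) c
  have := two_le_card (F := F)
  rw [Set.ncard_univ] at h2
  omega

namespace Bad
variable (hb : Bad H) (he : D.Q e = 0) (h0 : e ≠ 0)
include hb he h0

section Ns
variable (hev : D.B e v = 0) (hQ : D.Q v ≠ 0)
include hev hQ

omit hev in
theorem finrank_hp : finrank F (D.hp e v) = 4 := by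
  have h1 := hb.nd.finrank_perp (ln F e v)
  rw [ln, Submodule.span_insert, Submodule.finrank_sup_span_singleton (not_mem_of_Q he hQ),
    finrank_span_singleton h0, ← Submodule.span_insert, hb.hn] at h1
  change 1 + 1 + finrank F (D.hp e v) = 6 at h1
  omega

theorem exists_sing : ∃ a ∈ D.hp e v, D.Q a = 0 ∧ a ∉ ln F e v := by
  obtain ⟨a, h1, h2, h3, -⟩ := (Quad.sing D).exists_not_mem (D.hp e v) (F ∙ e) [] (by
    rw [hb.finrank_hp he h0 hQ, finrank_span_singleton h0]; rfl)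
  exact ⟨a, h1, h3, not_mem_ln he hev hQ h3 h2⟩

theorem hp_le {U : Submodule F V} (h : ∀ x ∈ D.hp e v, D.Q x = 0 → x ∉ ln F e v → x ∈ U) :
    D.hp e v ≤ U := by
  obtain ⟨a, h1, h2, h3⟩ := hb.exists_sing he h0 hev hQ
  exact le_of_singular h1 h2 (Fl.perp_hp hb.nd ▸ h3) (Fl.perp_hp hb.nd ▸ h)

theorem mem_ln_of_forall {x : V} (h : ∀ a ∈ D.hp e v, D.Q a = 0 → a ∉ ln F e v → D.B x a = 0) :
    x ∈ ln F e v :=
  Fl.perp_hp hb.nd ▸ (D.mem_perp').2 (hb.hp_le he h0 hev hQ (U := LinearMap.ker (D.B x)) h)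

omit hev hQ in
theorem all_of_step {P : V → Prop} {a : V} (h1 : a ∈ D.hp e v) (h2 : D.Q a = 0)
    (h3 : a ∉ ln F e v) (h : P a) (hP : ∀ a ∈ D.hp e v, ∀ b ∈ D.hp e v, D.Q b = 0 → D.B b a ≠ 0 →
      P a → P b) : ∀ b ∈ D.hp e v, D.Q b = 0 → b ∉ ln F e v → P b := fun b h4 h5 h6 => by
  by_cases h7 : D.B b a = 0
  · obtain ⟨a', h8, h9⟩ := exists_isHyp_mem h1 h2 (Fl.perp_hp hb.nd ▸ h3)
    refine hP a' h8 b h4 h5 (fun h10 => h6 ?_) (hP a h1 a' h8 h9.Q_f (by simp [h9.B_fe]) h)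
    obtain ⟨s, t, rfl⟩ := Submodule.mem_span_pair.1 (hb.mem_ln ⟨he, h2, ((mem_hp D).1 h1).1, h0,
      fun h => h3 (span_le_ln h)⟩ h5 ((mem_hp D).2 ⟨((mem_hp D).1 h4).1, D.eq_zero_symm h7⟩))
    obtain rfl : t = 0 := by simpa [((mem_hp D).1 h8).1, h9.B_ef] using h10
    simpa using Submodule.smul_mem _ s left_mem_ln
  · exact hP a h1 b h4 h5 h7 h

end Ns

variable (hA : A ≠ ⊤) (hv : v ∈ yy H e A) (hQ : D.Q v ≠ 0) (hT : ¬ Triv H e)
include hA hv hQ hT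

theorem delta {a n x : V} (ha : a ∈ D.hp e v) (hn : n ∈ D.hp e v) (hQa : D.Q a = 0)
    (han : D.B a n = 0) (hx : x ∈ zs H e) (t : F) :
    (t * D.B n x) • a - D.B a x • (t • n + (t ^ 2 * D.Q n) • a) ∈ zs H e := by
  have h1 : D.B a (t • n) = 0 := by simp [han]
  have h2 := sub_mem (ke_zs he h0 (hb.sg_mem_ke he h0 hA hv hQ hT ha (Submodule.smul_mem _ t hn) h1)
    one_ne_zero (by
      rw [one_smul, sg_fix (D.eq_zero_symm ((mem_hp D).1 ha).1)]
      simp [D.eq_zero_symm ((mem_hp D).1 hn).1]) hx) hx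
  rw [one_smul, sg_apply hQa h1, quad_Q_smul] at h2
  convert h2 using 1
  simp only [map_smul, LinearMap.smul_apply, smul_eq_mul]
  module

theorem exists_B : ∃ x ∈ zs H e, ∃ a ∈ D.hp e v, D.Q a = 0 ∧ a ∉ ln F e v ∧ D.B a x ≠ 0 := by
  by_contra! h
  refine hT (hb.triv_of_le he h0 (Nat.le_of_mul_le_mul_left ?_ (pow_pos (Nat.card_pos (α := F)) 2)))
  rw [← pow_add, ← hb.card_zs h0]
  exact Nat.mul_le_mul_right _ (card_le_sq fun x hx => hb.mem_ln_of_forall he h0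
    (yy_perp he hA hv) hQ fun a h1 h2 h3 => D.eq_zero_symm (h x hx a h1 h2 h3))

theorem step_odd (h2 : (2 : F) ≠ 0) {a x : V} (ha : a ∈ D.hp e v) (hQa : D.Q a = 0)
    (hx : x ∈ zs H e) (h : D.B a x ≠ 0) : a ∈ subCore F (zs H e) := fun c => by
  obtain ⟨n, ⟨h1, h3⟩, h4⟩ := hb.exists_ns (U := D.hp e v ⊓ LinearMap.ker (D.B a)) (by
    have := finrank_le_inf_ker (D.hp e v) (D.B a)
    rw [hb.finrank_hp he h0 hQ] at this
    omega)
  have h5 := hb.delta he h0 hA hv hQ hT ha h1 hQa h3 hx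
  set d := -c / (2 * D.B a x * D.Q n) with hd
  convert sub_mem (add_mem (h5 ((d + 1) / 2)) (h5 (-((d + 1) / 2))))
    (add_mem (h5 ((d - 1) / 2)) (h5 (-((d - 1) / 2)))) using 1
  match_scalars
  · rw [hd]; field_simp; ring
  · ring

theorem loc_odd (h2 : (2 : F) ≠ 0) : D.hp e v ≤ subCore F (zs H e) := by
  obtain ⟨x, hx, a, h1, h3, h4, h5⟩ := hb.exists_B he h0 hA hv hQ hT
  exact hb.hp_le he h0 (yy_perp he hA hv) hQ (hb.all_of_step he h0 h1 h3 h4
    (hb.step_odd he h0 hA hv hQ hT h2 h1 h3 hx h5) fun a _ b h6 h7 h8 h9 =>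
      hb.step_odd he h0 hA hv hQ hT h2 h6 h7 (mem_of_subCore h9) h8)

theorem step_even (h2 : (2 : F) = 0) : ∀ a ∈ D.hp e v, D.Q a = 0 → a ∉ ln F e v →
    ∀ β t : F, β • (t • v + (t ^ 2 * D.Q v) • a) ∈ zs H e := by
  obtain ⟨x, hx, a, h1, h3, h4, h5⟩ := hb.exists_B he h0 hA hv hQ hT
  have hvv : D.B v v = 0 := by rw [quad_B_self, h2, zero_mul]
  have h6 : v ∈ D.hp e v := (mem_hp D).2 ⟨yy_perp he hA hv, hvv⟩
  have h7 : ∀ {b y}, b ∈ D.hp e v → D.Q b = 0 → y ∈ zs H e → D.B v y = 0 → ∀ t : F,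
      D.B b y • (t • v + (t ^ 2 * D.Q v) • b) ∈ zs H e := fun h8 h9 h10 h11 t => by
    have := hb.delta he h0 hA hv hQ hT h8 h6 h9 (D.eq_zero_symm ((mem_hp D).1 h8).2) h10 t
    rwa [h11, mul_zero, zero_smul, zero_sub, neg_mem_iff] at this
  have h8 : ∀ a ∈ D.hp e v, ∀ b ∈ D.hp e v, D.Q b = 0 → D.B b a ≠ 0 →
      (∃ α : F, α ≠ 0 ∧ ∀ t : F, α • (t • v + (t ^ 2 * D.Q v) • a) ∈ zs H e) →
      ∀ β t : F, β • (t • v + (t ^ 2 * D.Q v) • b) ∈ zs H e := by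
    rintro a h8 b h9 h10 h11 ⟨α, h12, h13⟩ β t
    obtain ⟨s, hs⟩ := isSquare_of_two_eq_zero h2 (β / (α * D.Q v * D.B b a))
    convert h7 h9 h10 (h13 s) (by simp [hvv, ((mem_hp D).1 h8).2]) t using 2
    simp only [map_add, map_smul, smul_eq_mul, D.eq_zero_symm ((mem_hp D).1 h9).2, sq, ← hs]
    field_simp
    ring
  obtain ⟨t, h9, h10⟩ : ∃ t : F, t ≠ 0 ∧ t ≠ D.B v x / (D.B a x * D.Q v) := by
    by_cases h : 𝐪 = 2
    · exact ⟨1, one_ne_zero, by simp [show D.B v x = 0 from eq_zero_of_two h hA (hv x hx)]⟩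
    · exact exists_ne_two h _
  obtain ⟨a', h11, h12⟩ := exists_isHyp_mem h1 h3 (Fl.perp_hp hb.nd ▸ h4)
  have h13 := h7 h11 h12.Q_f (hb.delta he h0 hA hv hQ hT h1 h6 h3
    (D.eq_zero_symm ((mem_hp D).1 h1).2) hx t) (by simp [hvv, ((mem_hp D).1 h1).2])
  refine hb.all_of_step he h0 h1 h3 h4 (h8 a' h11 a h1 h3 (by simp [h12.B_ef]) ⟨_, fun h => h10 ?_,
    h13⟩) fun a h14 b h15 h16 h17 h18 => h8 a h14 b h15 h16 h17 ⟨1, one_ne_zero, h18 1⟩
  simp only [map_add, map_sub, map_smul, smul_eq_mul, D.eq_zero_symm ((mem_hp D).1 h11).2,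
    h12.B_fe, quadKind_ε] at h
  field_simp
  exact mul_left_cancel₀ h9 (by linear_combination -h)

theorem loc_two (h : 𝐪 = 2) : (D.hp e v).toAddSubgroup ≤ zs H e := by
  have := Module.finite_of_finite F (M := V)
  have := finite_isom (D := D)
  have h2 : (2 : F) = 0 := by_contra fun h2 => by
    have := odd_card_iff.2 h2
    rw [h] at this
    exact absurd this (by decide)
  have hev := yy_perp he hA hv
  have h1 := (Nat.le_mul_of_pos_right _ (Nat.pos_of_ne_zero (relIndex_ne_zero' _ _))).trans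
    ((hb.count he h0 hA hv hQ).trans (Nat.mul_le_mul_left _ ((Set.ncard_le_ncard (t := {v, v + e})
      ?_).trans (ncard_pair_le _ _))))
  · have h3 := (card_sqs F).2 (by rw [h]; decide)
    have h4 := hb.basic e
    have h5 := hb.card_zs h0
    refine (AddSubgroup.eq_of_le_of_card_ge (H := zs H e) (fun z hz => (mem_hp D).2 ⟨hz.1,
      eq_zero_of_two h hA (hv z hz)⟩) ?_).ge
    rw [card_sub, hb.finrank_hp he h0 hQ, h]
    rw [show Nat.card (sqs F) = 1 by omega, h] at h1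
    rw [h] at h4 h5
    have h6 : (zs H e).relIndex (pe D e) ≤ 2 := by nlinarith
    nlinarith
  rintro y ⟨hy, c, hc, h3⟩
  have h4 : D.Q y ≠ 0 := h3 ▸ mul_ne_zero (pow_ne_zero _ hc) hQ
  have h5 : ∀ a ∈ D.hp e v, D.Q a = 0 → a ∉ ln F e v → D.B y a = D.B y v := fun a h5 h6 h7 => by
    have := eq_zero_of_two h hA (hy _ (hb.step_even he h0 hA hv hQ hT h2 a h5 h6 h7 1 1))
    simp only [eq_one_of_two h hQ, one_smul, bA_apply, map_add, one_pow, mul_one] at this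
    linear_combination this - D.B y v * h2
  by_cases h6 : D.B y v = 0
  · obtain ⟨s, t, rfl⟩ := Submodule.mem_span_pair.1
      (hb.mem_ln_of_forall he h0 hev hQ fun a h7 h8 h9 => (h5 a h7 h8 h9).trans h6)
    obtain rfl : t = 1 := eq_one_of_two h fun ht => h4 (by simp [ht, quad_Q_smul, he])
    by_cases hs : s = 0
    · simp [hs]
    · simp [eq_one_of_two h hs, add_comm]
  · obtain ⟨a, h7, h8, h9⟩ := hb.exists_sing he h0 hev hQ
    obtain ⟨a', h10, h11⟩ := exists_isHyp_mem h7 h8 (Fl.perp_hp hb.nd ▸ h9)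
    have h12 := (h5 a h7 h8 h9).trans (eq_one_of_two h h6)
    have h13 := (h5 a' h10 h11.Q_f (Fl.perp_hp hb.nd ▸ h11.not_mem_perp' h7)).trans
      (eq_one_of_two h h6)
    obtain ⟨s, t, h14⟩ := Submodule.mem_span_pair.1 (hb.mem_ln ⟨he, h8, ((mem_hp D).1 h7).1, h0,
      fun h => h9 (span_le_ln h)⟩ (y := y + (a + a')) (by
        rw [quad_Q_add, quad_Q_add, map_add, h12, h13, h8, h11.Q_f, h11.B_ef, eq_one_of_two h h4]
        linear_combination 2 * h2) ((mem_hp D).2 ⟨by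
        simp [yy_perp he hA hy, ((mem_hp D).1 h7).1, ((mem_hp D).1 h10).1], by
        rw [map_add, map_add, quad_symm D a y, h12, h11.B_ee, h11.B_ef]
        linear_combination h2⟩))
    have := congrArg (D.B v) h14
    simp only [map_add, map_smul, ((mem_hp D).1 h7).2, ((mem_hp D).1 h10).2, D.eq_zero_symm hev,
      smul_zero, add_zero] at this
    exact absurd (D.eq_zero_symm this.symm) h6

theorem loc_ns : (D.hp e v).toAddSubgroup ≤ zs H e := by
  by_cases h : 𝐪 = 2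
  · exact hb.loc_two he h0 hA hv hQ hT h
  by_cases h2 : (2 : F) = 0
  swap
  · exact fun z hz => mem_of_subCore (hb.loc_odd he h0 hA hv hQ hT h2 hz)
  refine fun z hz => mem_of_subCore (hb.hp_le he h0 (yy_perp he hA hv) hQ
    (U := subCore F _) (fun a h1 h3 h4 c => ?_) hz)
  have h5 := hb.step_even he h0 hA hv hQ hT h2 a h1 h3 h4
  obtain ⟨t, h6, h7⟩ := exists_ne_two h (-(c / D.Q v))
  have h8 : t + c / D.Q v ≠ 0 := fun h => h7 (eq_neg_of_add_eq_zero_left h)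
  convert sub_mem (h5 (t + c / D.Q v)⁻¹ (t + c / D.Q v)) (h5 t⁻¹ t) using 1
  generalize hs : t + c / D.Q v = s at h8
  match_scalars
  · field_simp
    rw [← hs]; field_simp; ring
  · field_simp; ring

omit hA hv hQ in
theorem loc : ∃ v, D.B e v = 0 ∧ v ∉ F ∙ e ∧ (D.hp e v).toAddSubgroup ≤ zs H e := by
  have := Module.finite_of_finite F (M := V)
  obtain ⟨ψ, -, hψ⟩ := exists_chK (A := (⊥ : AddSubgroup F)) bot_ne_top
  have hd : ∀ {x}, x ∉ zs H e → ∃ y ∈ yy H e (chK ψ), D.B y x ∉ chK ψ := exists_dual (bA D)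
    (fun x hx c => (hb.nd.exists_perp_B_eq' (H := ⊥) hx c).imp fun _ h => h.2) rfl hψ
  by_cases h : ∃ v ∈ yy H e (chK ψ), D.Q v ≠ 0
  · obtain ⟨v, hv, hQ⟩ := h
    exact ⟨v, yy_perp he hψ hv, not_mem_of_Q he hQ, hb.loc_ns he h0 hψ hv hQ hT⟩
  push Not at h
  obtain ⟨x, h1, h2⟩ : ∃ x, D.B e x = 0 ∧ x ∉ zs H e := by
    by_contra! h1
    exact hb.not_at he h0 (at_of_zs fun z _ => h1 z)
  obtain ⟨u, hu, h3⟩ := hd h2
  have h4 : u ∉ F ∙ e := fun h => by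
    obtain ⟨c, rfl⟩ := Submodule.mem_span_singleton.1 h
    exact h3 (by simp [h1])
  refine ⟨u, yy_perp he hψ hu, h4, fun z hz => by_contra fun h5 => ?_⟩
  obtain ⟨y, hy, h6⟩ := hd h5
  have h7 := hb.mem_ln ⟨he, h u hu, yy_perp he hψ hu, h0, h4⟩ (h y hy) ((mem_hp D).2
    ⟨yy_perp he hψ hy, by simpa [quad_Q_add, h u hu, h y hy] using h _ (add_mem hu hy)⟩)
  exact h6 (by simp [show D.B y z = 0 from hz y h7])

end Bad

end Cfsg.Lib.Forms.MI.M6
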