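import Cfsg.Agent.Lib.MinIdx.M3

/-! Minimal index of `Ω₆⁻(q)`: no Siegel elements in a counterexample. -/

set_option autoImplicit false
set_option quotPrecheck false

namespace Cfsg.Lib.Forms.MI.M6

open Module Form

universe u

variable {F : Type*} [Field F] {V : Type u} [AddCommGroup V] [Module F V]
  {D : Form (quadKind F) V} {H : Subgroup D.isom} {e b v : V}

local notation "𝐪" => Nat.card F

/-- `H ∩ Q_e` contains the hyperplane determined by `v`. -/
def Al (H : Subgroup D.isom) (e v : V) : Prop := ∀ z, D.B e z = 0 → D.B v z = 0 → z ∈ zs H e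

theorem Al.map (h : Al H e v) {g : D.isom} (hg : g ∈ H) : Al H (g.1 e) (g.1 v) := fun z h1 h2 => by
  simpa [isom_inv_apply] using map_mem_zs (h ((g⁻¹).1 z) (by rwa [B_isom_left] at h1)
    (by rwa [B_isom_left] at h2)) hg

theorem Al.sub (h : Al H e v) (c : F) : Al H e (v - c • e) := fun z h1 h2 =>
  h z h1 (by simpa [h1] using h2)

theorem Al.of_smul (he : D.Q e = 0) {c : F} (hc : c ≠ 0) (h : Al H (c • e) v) : Al H e v :=
  fun z h1 h2 => by
    simpa [smul_smul, hc] using (mem_zs_smul he hc).1 (h (c⁻¹ • z) (by simp [h1]) (by simp [h2]))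

theorem Al.at (h : Al H e v) : D.At H (D.perp (F ∙ v)) e :=
  at_of_zs fun z hz h1 => h z h1 ((mem_perp_span_singleton D).1 hz)

variable [Finite F] [FiniteDimensional F V]

namespace Bad
variable (hb : Bad H)
include hb

theorem mem_of_al (he : D.Q e = 0) (h0 : e ≠ 0) {v' : V} (h : Al H e v) (h' : Al H e v') :
    v ∈ ln F e v' := by_contra fun h1 => hb.not_at he h0 (at_of_zs fun z _ hz => by
  obtain ⟨y, hy, h2⟩ := hb.nd.exists_perp_B_eq' h1 (D.B v z)
  obtain ⟨h3, h4⟩ := (mem_perp_span_pair D).1 hy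
  simpa using add_mem (h (z - y) (by simp [hz, h3]) (by simp [h2])) (h' y h3 h4))

theorem exists_full (he : D.Q e = 0) (h0 : e ≠ 0) (hT : ¬ Triv H e) :
    ∃ w, w ≠ 0 ∧ D.B w e = 0 ∧ e ∉ F ∙ w ∧
      ∀ x, D.Q x = 0 → D.B w x = 0 → x ∉ F ∙ w → Al H x w := by
  obtain ⟨v, h1, h2, h3⟩ := hb.loc he h0 hT
  replace h3 : Al H e v := fun z h h' => h3 ((mem_hp D).2 ⟨h, h'⟩)
  obtain ⟨g, hg, h4⟩ := hb.exists_B_ne he h0
  have h5 := (h3.map hg).sub (D.B e (g.1 v) / D.B e (g.1 e))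
  have h6 : D.B (g.1 e) (g.1 v) = 0 := by simpa using h1
  have hf : D.Q (g.1 e) = 0 := by simpa using he
  generalize g.1 e = f at *
  generalize g.1 v = v' at *
  have h7 := D.ne_zero_symm h4
  replace h3 := h3.sub (D.B f v / D.B f e)
  have hee := D.B_self_of_Q he
  have hff := D.B_self_of_Q hf
  have h8 : D.B e (v - (D.B f v / D.B f e) • e) = 0 := by simp [h1, hee]
  have h9 : D.B f (v - (D.B f v / D.B f e) • e) = 0 := by simp [h7]
  have h10 : D.B e (v' - (D.B e v' / D.B e f) • f) = 0 := by simp [h4]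
  have h11 : D.B f (v' - (D.B e v' / D.B e f) • f) = 0 := by simp [h6, hff]
  have h12 : v - (D.B f v / D.B f e) • e ≠ 0 := fun h => h2 (sub_eq_zero.1 h ▸ smul_mem_span _ _)
  generalize v - (D.B f v / D.B f e) • e = w at *
  generalize v' - (D.B e v' / D.B e f) • f = w' at *
  have h13 : w ∈ F ∙ w' := by
    obtain ⟨U, -, h13, h14⟩ := exists_le_kers ⊤ [D.B e, D.B w, D.B w']
    obtain ⟨z', h15, h16⟩ := hb.exists_ns (U := U) (by
      rw [finrank_top, hb.hn] at h13; simpa using h13)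
    simp only [h14, Submodule.mem_top, true_and, List.forall_mem_cons] at h15
    obtain ⟨z, h17, h18, h19, h20, h21⟩ : ∃ z, D.B e z = 0 ∧ D.B f z = 0 ∧ D.B w z = 0 ∧
        D.B w' z = 0 ∧ D.Q z ≠ 0 := ⟨z' - (D.B f z' / D.B f e) • e, by simp [h15.1, hee],
      by simp [h7], by simp [h15.2.1, D.eq_zero_symm h8], by simp [h15.2.2.1, D.eq_zero_symm h10],
      by simpa [quad_Q_sub, quad_Q_smul, he, D.eq_zero_symm h15.1] using h16⟩
    have h22 := h3.map (h5 z h18 h20).2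
    have h23 := h5.map (h3 (-(D.B f e * D.Q z)⁻¹ • z) (by simp [h17]) (by simp [h19])).2
    rw [sg_fix h9 (D.eq_zero_symm h19)] at h22
    rw [sg_fix h10 (by simp [D.eq_zero_symm h20]), show (sg D e (-(D.B f e * D.Q z)⁻¹ • z)).1 f =
      -(D.B f e * D.Q z)⁻¹ • (sg D f z).1 e by
        rw [sg_apply he (by simp [h17]), sg_apply hf h18, quad_Q_smul, quad_symm D e f]
        simp only [map_smul, LinearMap.smul_apply, D.eq_zero_symm h17, D.eq_zero_symm h18]
        match_scalars <;> field_simp <;> ring] at h23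
    obtain ⟨s, t, h24⟩ := Submodule.mem_span_pair.1 (hb.mem_of_al (by simpa using he)
      (by simpa using h0) h22 (h23.of_smul (by simpa using he) (by simp [h7, h21])))
    have h25 := congrArg (D.B f) h24
    rw [sg_apply hf h18] at h25
    obtain rfl : s = 0 := by simpa [h9, h11, h18, hff, h7] using h25
    simpa [← h24] using smul_mem_span t w'
  obtain ⟨c, rfl⟩ := Submodule.mem_span_singleton.1 h13
  have hc : c ≠ 0 := fun h => h12 (by simp [h])
  have h14 := h3.at.full (Al.at fun z h h' => h5 z h (by simpa [hc] using h'))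
    ((mem_perp_span_singleton D).2 (D.eq_zero_symm h8))
    ((mem_perp_span_singleton D).2 (D.eq_zero_symm h9)) he hf h4
  refine ⟨_, h12, D.eq_zero_symm h8, fun h => ?_, fun x h15 h16 h17 z h18 h19 => zs_of_at (h14 x
    ((mem_perp_span_singleton D).2 h16) (by rwa [hb.nd.perp_perp])) h15
      ((mem_perp_span_singleton D).2 h19) h18⟩
  obtain ⟨d, rfl⟩ := Submodule.mem_span_singleton.1 h
  exact h7 (by rw [map_smul, h9, smul_zero])

theorem triv (he : D.Q e = 0) (h0 : e ≠ 0) : Triv H e := by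
  by_contra hT
  obtain ⟨w, h1, h2, h3, h4⟩ := hb.exists_full he h0 hT
  by_cases hw : D.Q w = 0
  · refine hb.not_at hw h1 (at_of_zs fun z _ hz => mem_of_subCore (le_of_singular
      (A := subCore F _) ((mem_perp_span_singleton D).2 h2) he (by rwa [hb.nd.perp_perp])
      (fun x h5 h6 h7 t => ?_) ((mem_perp_span_singleton D).2 hz)))
    by_cases ht : t = 0
    · simp [ht]
    · rw [mem_perp_span_singleton] at h5
      exact swap_mem_zs h6 hw ht (h4 x h6 h5 (by rwa [hb.nd.perp_perp] at h7) _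
        (by simp [D.eq_zero_symm h5]) (by simp [D.B_self_of_Q hw]))
  refine hb.not_le_stab_ns hw fun g hg => mem_stab_of_mapsTo (W := F ∙ w) _ fun y hy => ?_
  obtain ⟨c, rfl⟩ := Submodule.mem_span_singleton.1 hy
  rw [map_smul]
  refine Submodule.smul_mem _ _ (by_contra fun h5 => ?_)
  have hn := hb.hn
  obtain ⟨x, h6, h7, h8, h9, h10⟩ : ∃ x, x ≠ 0 ∧ D.Q x = 0 ∧ D.B w x = 0 ∧ D.B (g.1 w) x = 0 ∧
      x ∉ ln F w (g.1 w) := by
    obtain ⟨r, -, h6, h7, h8⟩ := (Quad.sing D).exists ⊤ [D.B w, D.B (g.1 w)] (by simp; omega)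
    simp only [List.forall_mem_cons] at h8
    by_cases h9 : r ∈ ln F w (g.1 w)
    swap
    · exact ⟨r, h6, h7, h8.1, h8.2.1, h9⟩
    obtain ⟨x, -, h10, h11, h12⟩ := (Quad.sing D).exists_not_mem ⊤ (F ∙ r) [D.B w, D.B (g.1 w)]
      (by simp [finrank_span_singleton h6]; omega)
    simp only [List.forall_mem_cons] at h12
    refine ⟨x, fun h => h10 (by simp [h]), h11, h12.1, h12.2.1, fun h => hw ?_⟩
    have h13 : Fl D r x := ⟨h7, h11, (mem_perp_span_pair D).2 ⟨h12.1, h12.2.1⟩ r h9, h6, h10⟩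
    refine h13.isTS.1 w ((Submodule.eq_of_le_of_finrank_le (S₂ := ln F w (g.1 w))
      (Submodule.span_le.2 ?_) ((finrank_span_pair_le _ _).trans h13.finrank_ln.ge)).ge left_mem_ln)
    rintro _ (rfl | rfl)
    exacts [h9, h]
  have h11 : ∀ y, D.Q y = 0 → y ≠ 0 → y ∉ F ∙ w := fun y h h' h'' => by
    obtain ⟨c, rfl⟩ := Submodule.mem_span_singleton.1 h''
    exact h' (by simpa [quad_Q_smul, hw, h1] using h)
  have h14 := (Q_isom g⁻¹ x).trans h7
  have h12 := (h4 ((g⁻¹).1 x) h14 (by rwa [B_isom_left] at h9)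
    (h11 _ h14 (by simpa using h6))).map hg
  rw [show g.1 ((g⁻¹).1 x) = x by simp [isom_inv_apply]] at h12
  obtain ⟨s, t, h13⟩ := Submodule.mem_span_pair.1
    (hb.mem_of_al h7 h6 h12 (h4 x h7 h8 (h11 x h7 h6)))
  by_cases hs : s = 0
  · rw [hs, zero_smul, zero_add] at h13
    exact h5 (by rw [← h13]; exact smul_mem_span t w)
  · refine h10 ((Submodule.smul_mem_iff _ hs).1 ?_)
    rw [eq_sub_of_add_eq h13]
    exact sub_mem right_mem_ln (Submodule.smul_mem _ _ left_mem_ln)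

theorem le_relIndex (he : D.Q e = 0) (h0 : e ≠ 0) : 𝐪 ^ 4 ≤ (zs H e).relIndex (pe D e) := by
  have := Module.finite_of_finite F (M := V)
  refine Nat.le_of_mul_le_mul_left ?_ (Nat.card_pos (α := F))
  rw [← pow_succ', ← hb.card_zs h0]
  exact Nat.mul_le_mul_right _ ((AddSubgroup.card_le_of_le (K := (F ∙ e).toAddSubgroup)
    (hb.triv he h0)).trans_eq (ncard_span h0))

theorem exists_lift (h : Fl D e b) {z : V} (hz : z ∈ D.hp e b) :
    ∃ y, D.B e y = 0 ∧ sg D e y * sg D b z ∈ H := by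
  have := Module.finite_of_finite F (M := V)
  have := finite_isom (D := D)
  have h1 := (Nat.mul_le_mul_left _ (hb.le_relIndex h.he h.ne)).trans_lt (hb.basic e)
  have h2 := relIndex_ne_zero' (ke H e) (D.E ⊓ D.stab (F ∙ e))
  have hq := two_le_card (F := F)
  have h3 : (ke H e).relIndex (D.E ⊓ D.stab (F ∙ e)) = 1 := by
    by_contra h3
    have := (Nat.mul_le_mul_right _ (show 2 ≤ _ by omega)).trans_lt h1
    nlinarith [Nat.mul_le_mul_left (𝐪 ^ 3) hq, Nat.mul_le_mul_left (𝐪 ^ 2) hq,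
      Nat.mul_le_mul_left 𝐪 hq]
  obtain ⟨g, hg, y, h4, h5⟩ := exists_of_ke h.he h.ne (Subgroup.relIndex_eq_one.1 h3
    ⟨sg_mem_E b z, fix_le_stab _ _ (sg_mem_fix h.be (D.eq_zero_symm ((mem_hp D).1 hz).1))⟩)
  refine ⟨(sg D b z).1 (-y), by rw [h.B_sg hz]; simp [h4], ?_⟩
  rwa [← Fl.sg_comm _ h.be hz, h5, sg_neg h4, mul_inv_cancel_right]

theorem exists_ww (h : Fl D e b) {z : V} (hz : z ∈ D.hp e b) : ∃ y, (y, z) ∈ ww H h := by
  by_cases h1 : z ∈ ln F e b
  · exact ⟨0, ln_mem_ww h (zero_mem _) h1⟩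
  obtain ⟨z', hz', h2⟩ := exists_not_mem_of_finrank_lt (U := D.hp e b) (W := ln F e b ⊔ F ∙ z) (by
    have := h.finrank_hp hb.nd
    rw [Submodule.finrank_sup_span_singleton h1, h.finrank_ln]
    rw [hb.hn] at this
    omega)
  obtain ⟨y, h7, h3⟩ := hb.exists_lift h hz
  obtain ⟨y', h8, h6⟩ := hb.exists_lift h hz'
  refine ⟨y, (mem_hp D).2 ⟨h7, by_contra fun h9 => h2 ?_⟩, hz, 0, by simpa using h3⟩
  have h4 := H.mul_mem (H.mul_mem h3 h6) (H.inv_mem (H.mul_mem h6 h3))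
  have h10 : D.B e (y + (sg D b z).1 y') = 0 := by rw [map_add, h.B_sg hz, h7, h8, add_zero]
  have h11 : D.B e (y' + (sg D b z').1 y) = 0 := by rw [map_add, h.B_sg hz', h7, h8, add_zero]
  rw [h.sg_mul h7 h8 hz hz', h.sg_mul h8 h7 hz' hz, add_comm z', mul_inv_rev, mul_assoc,
    mul_inv_cancel_left, ← sg_neg h11, ← sg_add h10 (by rw [map_neg, h11, neg_zero])] at h4
  have h5 := span_le_ln (b := b) (hb.triv h.he h.ne _ ⟨by rw [map_add, map_neg, h10, h11]; simp, h4⟩)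
  rw [sg_apply h.hb ((mem_hp D).1 hz).2, sg_apply h.hb ((mem_hp D).1 hz').2] at h5
  rw [← Submodule.smul_mem_iff _ h9]
  convert add_mem (Submodule.mem_sup_left (sub_mem h5 (Submodule.smul_mem _ (D.B z y' - D.B z' y -
    D.B b y' * D.Q z + D.B b y * D.Q z') right_mem_ln)))
    (Submodule.mem_sup_right (smul_mem_span (D.B b y') z)) using 1
  module

theorem exists_fl : ∃ e b, Fl D e b := by
  have hn := hb.hn
  obtain ⟨e, h0, he⟩ := Quad.exists_singular D (by omega)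
  obtain ⟨b, -, h1, h2, h3⟩ := (Quad.sing D).exists_not_mem ⊤ (F ∙ e) [D.B e]
    (by simp [finrank_span_singleton h0]; omega)
  exact ⟨e, b, he, h2, h3 _ (by simp), h0, h1⟩

theorem two_ne_zero : (2 : F) ≠ 0 := fun h2 => by
  obtain ⟨e, b, h⟩ := hb.exists_fl
  have h1 := h.finrank_hp hb.nd
  have hn := hb.hn
  obtain ⟨z, hz, h3⟩ := exists_not_mem_of_finrank_lt (U := D.hp e b) (W := ln F e b) (by
    rw [h.finrank_ln]; omega)
  obtain ⟨y, hy⟩ := hb.exists_ww h hz
  have h4 := hb.nd.finrank_perp (ln F e b ⊔ F ∙ z)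
  have h5 : finrank F ↥(ln F e b ⊔ F ∙ z) = 3 := by
    rw [Submodule.finrank_sup_span_singleton h3, h.finrank_ln]
  have h6 := (Submodule.eq_of_le_of_finrank_le (S₁ := ln F e b ⊔ F ∙ z) (sup_le (fun x hx =>
    perp_sup_span.2 ⟨h.le_hp hx, D.eq_zero_symm (hz x hx)⟩)
    ((Submodule.span_singleton_le_iff_mem _ _).2 (perp_sup_span.2
      ⟨hz, by rw [quad_B_self, h2, zero_mul]⟩))) (by omega)).ge
    (perp_sup_span.2 ⟨hy.1, (hb.triv h.he h.ne).B_eq_zero h h2 hy⟩)
  obtain ⟨l, hl, _, h7, h8⟩ := Submodule.mem_sup.1 h6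
  obtain ⟨s, rfl⟩ := Submodule.mem_span_singleton.1 h7
  exact h3 (snd_mem_ln h (hb.triv (h.add_smul s).hb (h.add_smul s).b_ne) hy
    (eq_sub_of_add_eq h8 ▸ hl))

end Bad

end Cfsg.Lib.Forms.MI.M6
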