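import Cfsg.Agent.Lib.MinIdx.M4

/-! Minimal index of `Ω₆⁻(q)`: the line stabiliser and the main theorem. -/

set_option autoImplicit false
set_option quotPrecheck false

namespace Cfsg.Lib.Forms.MI.M6

open Module Form

universe u

variable {F : Type*} [Field F] {V : Type u} [AddCommGroup V] [Module F V]
  {D : Form (quadKind F) V} {H : Subgroup D.isom} {e b f b' : V}

local notation "𝐪" => Nat.card F

theorem sg_comb (h : Fl D e b) {z : V} (hz : z ∈ D.hp e b) (c d : F) :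
    sg D (c • e + d • b) z = sg D e (c • z + (c * d * D.Q z) • b) * sg D b (d • z) :=
  isom_ext fun x => by
  obtain ⟨h1, h2⟩ := (mem_hp D).1 hz
  rw [isom_mul_apply, sg_apply h.hb (by simp [h2]), sg_apply h.he (by simp [h1, h.heb]),
    sg_apply (by simp [quad_Q_add, quad_Q_smul, h.he, h.hb, h.heb]) (by simp [h1, h2])]
  simp only [map_add, map_sub, map_smul, LinearMap.add_apply, LinearMap.smul_apply, smul_eq_mul,
    quad_Q_add, quad_Q_smul, h.hb, h.heb, h.bb, h1, h2, D.eq_zero_symm h2, quad_B_self D z]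
  module

theorem conj_mem_ww (h : Fl D e b) {g : D.isom} (hg : g ∈ H) (h1 : g ∈ tr2 D (ln F e b) (D.hp e b))
    {α β γ δ : F} (h2 : g.1 e = α • e + β • b) (h3 : g.1 b = γ • e + δ • b) {y z : V}
    (hp : (y, z) ∈ ww H h) : (α • y + γ • z, β • y + δ • z) ∈ ww H h := by
  obtain ⟨h4, h5, t, h6⟩ := hp
  have h7 : ∀ x ∈ D.hp e b, g.1 x ∈ D.hp e b := fun x hx => by
    simpa using add_mem (h.le_hp (h1.2 x hx)) hx
  have h8 := h7 _ (add_mem h4 (Submodule.smul_mem _ t (h.le_hp right_mem_ln)))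
  have h9 := h7 _ h5
  have h10 := H.mul_mem (H.mul_mem hg h6) (H.inv_mem hg)
  rw [show ∀ a c : D.isom, g * (a * c) * g⁻¹ = g * a * g⁻¹ * (g * c * g⁻¹) from fun a c => by group,
    conj_sg, conj_sg, h2, h3, sg_comb h h8, sg_comb h h9, h.sg_mul
      (by simp only [map_add (D.B e), map_smul (D.B e), ((mem_hp D).1 h8).1, h.heb]; simp)
      (by simp [((mem_hp D).1 h9).1, h.heb]) (Submodule.smul_mem _ _ h8) (Submodule.smul_mem _ _ h9),
    sg_apply_perp h.hb ((mem_hp D).1 (Submodule.smul_mem _ _ h8)).2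
      (by simp [((mem_hp D).1 h9).2, h.bb])] at h10
  have h11 : g.1 (y + t • b) - y ∈ ln F e b := by
    convert add_mem (h1.2 y h4) (stab_mem h1.1 (Submodule.smul_mem _ t right_mem_ln)) using 1
    rw [map_add]; abel
  have h12 := h1.2 z h5
  generalize g.1 (y + t • b) = y' at *
  generalize g.1 z = z' at *
  have h13 : (α • y' + γ • z', β • y' + δ • z') ∈ ww H h :=
    ⟨add_mem (Submodule.smul_mem _ _ h8) (Submodule.smul_mem _ _ h9),
      add_mem (Submodule.smul_mem _ _ h8) (Submodule.smul_mem _ _ h9),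
      α * β * D.Q y' + γ * δ * D.Q z' + D.B (β • y') (γ • z' + (γ * δ * D.Q z') • b), by
        convert h10 using 3; module⟩
  convert sub_mem h13 (ln_mem_ww h (add_mem (Submodule.smul_mem _ α h11) (Submodule.smul_mem _ γ h12))
    (add_mem (Submodule.smul_mem _ β h11) (Submodule.smul_mem _ δ h12))) using 1
  ext <;> simp only [Prod.fst_sub, Prod.snd_sub] <;> module

variable (D) in
/-- An alternating form. -/
def om (f b' u v : V) : F := D.B f u * D.B b' v - D.B b' u * D.B f v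

variable (D) in
/-- The isometries acting on `L` with determinant one. -/
def sl (L : Submodule F V) (f b' : V) : Subgroup D.isom where
  carrier := {g | g ∈ D.stab L ∧ ∀ u ∈ L, ∀ v ∈ L, om D f b' (g.1 u) (g.1 v) = om D f b' u v}
  one_mem' := ⟨one_mem _, fun _ _ _ _ => rfl⟩
  mul_mem' := fun hg hk => ⟨mul_mem hg.1 hk.1, fun u hu v hv =>
    (hg.2 _ (stab_mem hk.1 hu) _ (stab_mem hk.1 hv)).trans (hk.2 u hu v hv)⟩
  inv_mem' := fun {g} hg => ⟨inv_mem hg.1, fun u hu v hv => by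
    simpa [isom_inv_apply] using (hg.2 _ (stab_inv_mem hg.1 hu) _ (stab_inv_mem hg.1 hv)).symm⟩

variable (D) in
/-- The group `Q_ℓ SL₂(q)`. -/
def t1 (e b f b' : V) : Subgroup D.isom :=
  D.E ⊓ (tr2 D (ln F e b) (D.hp e b) ⊓ sl D (ln F e b) f b')

variable [FiniteDimensional F V]

theorem sg_mem_t1 (h : Fl D e b) {u y : V} (hu : u ∈ ln F e b) (hy : D.B u y = 0) :
    sg D u y ∈ t1 D e b f b' := by
  have h1 : ∀ x ∈ D.hp e b, (sg D u y).1 x = x + D.B y x • u := fun x hx =>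
    sg_apply_perp (h.isTS.1 u hu) hy (hx u hu)
  have h2 := mem_tr2_of_le h.le_hp (g := sg D u y) fun x hx => by
    simpa [h1 x hx] using Submodule.smul_mem _ _ hu
  refine ⟨sg_mem_E _ _, h2, h2.1, fun x hx x' hx' => ?_⟩
  rw [h1 x (h.le_hp hx), h1 x' (h.le_hp hx')]
  obtain ⟨a, a', rfl⟩ := Submodule.mem_span_pair.1 hu
  obtain ⟨c, c', rfl⟩ := Submodule.mem_span_pair.1 hx
  obtain ⟨d, d', rfl⟩ := Submodule.mem_span_pair.1 hx'
  rw [quad_symm] at hy
  simp only [om, map_add, map_smul, smul_eq_mul] at hy ⊢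
  linear_combination (c * d' - c' * d) * (D.B f e * D.B b' b - D.B b' e * D.B f b) * hy

theorem t1_trans (hD : D.Nondeg) (h : Fl D e b) {u v : V} (hu : u ∈ ln F e b) (hv : v ∈ ln F e b)
    (h0 : u ≠ 0) (h0' : v ≠ 0) : ∃ g ∈ t1 D e b f b', g.1 u = v := by
  have key : ∀ {u v}, u ∈ ln F e b → v ∈ ln F e b → u ≠ 0 → v ∉ F ∙ u →
      ∃ g ∈ t1 D e b f b', g.1 u = v := fun {u v} hu hv h0 h1 => by
    obtain ⟨y, hy, h2⟩ := hD.exists_perp_B_eq (H := F ∙ (v - u)) (a := u) (fun h2 => by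
      obtain ⟨c, hc⟩ := Submodule.mem_span_singleton.1 h2
      refine h1 ((Submodule.smul_mem_iff _ (show c ≠ 0 from fun h => h0 (by rw [← hc, h, zero_smul]))).1 ?_)
      rw [smul_sub, sub_eq_iff_eq_add] at hc
      rw [hc]
      exact add_mem (Submodule.mem_span_singleton_self u) (smul_mem_span _ _)) 1
    rw [mem_perp_span_singleton] at hy
    refine ⟨_, sg_mem_t1 h (sub_mem hv hu) hy, ?_⟩
    rw [sg_apply_perp (h.isTS.1 _ (sub_mem hv hu)) hy (h.isTS.2 _ (sub_mem hv hu) _ hu), h2]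
    simp
  by_cases h1 : v ∈ F ∙ u
  · obtain ⟨w, hw, h2⟩ := exists_not_mem_of_finrank_lt (U := ln F e b) (W := F ∙ u) (by
      rw [h.finrank_ln, finrank_span_singleton h0]; omega)
    obtain ⟨g, hg, h3⟩ := key hu hw h0 h2
    obtain ⟨k, hk, h4⟩ := key hw hv (fun h => h2 (by simp [h])) fun h4 => by
      obtain ⟨c, rfl⟩ := Submodule.mem_span_singleton.1 h4
      exact h2 ((Submodule.smul_mem_iff _ fun h => h0' (by simp [h])).1 h1)
    exact ⟨k * g, mul_mem hk hg, by rw [isom_mul_apply, h3, h4]⟩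
  · exact key hu hv h0 h1

variable [Finite F]

theorem ncard_level {α β γ c : F} (hc : c ≠ 0)
    (h : ∀ s t, α * s ^ 2 + β * s * t + γ * t ^ 2 = 0 → s = 0 ∧ t = 0) :
    {p : F × F | α * p.1 ^ 2 + β * p.1 * p.2 + γ * p.2 ^ 2 = c}.ncard ≤ 𝐪 + 1 := by
  have h1 : α ≠ 0 := fun h1 => one_ne_zero (h 1 0 (by simp [h1])).1
  rw [← Quad.card_Q_eq_of_aniso (D := fBin (β / α) (γ / α)) (fBin_aniso_iff.2 fun s t h2 => h s t
    (by field_simp at h2; linear_combination h2)) (by simp) (div_ne_zero hc h1)]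
  refine Nat.card_le_card_of_injective (β := {x // (fBin (β / α) (γ / α)).Q x = c / α})
    (fun p => ⟨![p.1.1, p.1.2], by
      have : _ = c := p.2
      rw [fBin_Q]; field_simp; simp; linear_combination this⟩) fun p p' h2 => ?_
  have h3 := congrArg Subtype.val h2
  exact Subtype.ext (Prod.ext (congrFun h3 0) (congrFun h3 1))

theorem Bad.false (hb : Bad H) : False := by
  have := Module.finite_of_finite F (M := V)
  have := finite_isom (D := D)
  obtain ⟨e, b, h⟩ := hb.exists_fl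
  have hn := h.finrank_hp hb.nd
  rw [hb.hn] at hn
  obtain ⟨x₀, h1, h2⟩ := exists_not_mem_of_finrank_lt (U := D.hp e b) (W := ln F e b) (by
    rw [h.finrank_ln]; omega)
  have h3 := Submodule.finrank_sup_span_singleton h2
  rw [h.finrank_ln] at h3
  obtain ⟨x₁, h4, h5⟩ := exists_not_mem_of_finrank_lt (U := D.hp e b) (W := ln F e b ⊔ F ∙ x₀)
    (by omega)
  have h6 : ∀ z ∈ D.hp e b, ∃ s t : F, z - (s • x₀ + t • x₁) ∈ ln F e b := fun z hz => by
    obtain ⟨_, h6, _, h7, rfl⟩ := Submodule.mem_sup.1 ((Submodule.eq_of_le_of_finrank_le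
      (S₁ := (ln F e b ⊔ F ∙ x₀) ⊔ F ∙ x₁) (sup_le (sup_le h.le_hp
        ((Submodule.span_singleton_le_iff_mem _ _).2 h1))
        ((Submodule.span_singleton_le_iff_mem _ _).2 h4))
      (by rw [Submodule.finrank_sup_span_singleton h5]; omega)).ge hz)
    obtain ⟨l, hl, _, h8, rfl⟩ := Submodule.mem_sup.1 h6
    obtain ⟨s, rfl⟩ := Submodule.mem_span_singleton.1 h8
    obtain ⟨t, rfl⟩ := Submodule.mem_span_singleton.1 h7
    exact ⟨s, t, by simpa [add_assoc] using hl⟩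
  have h7 : ∀ {z w a : V}, z - w ∈ ln F e b → a ∈ D.hp e b → D.B z a = D.B w a :=
    fun h7 ha => sub_eq_zero.1 (by simpa using ha _ h7)
  have h8 : ∀ z ∈ D.hp e b, D.B z x₀ = 0 → D.B z x₁ = 0 → z ∈ ln F e b := fun z hz h8 h9 => by
    rw [← Fl.perp_hp hb.nd]
    intro w hw
    obtain ⟨s, t, h10⟩ := h6 w hw
    simp [h7 h10 hz, D.eq_zero_symm h8, D.eq_zero_symm h9]
  obtain ⟨y₀, h9⟩ := hb.exists_ww h h1
  obtain ⟨y₁, h10⟩ := hb.exists_ww h h4
  have hT := hb.triv h.he h.ne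
  have h11 : ∀ {y z}, (y, z) ∈ ww H h → D.B y x₀ = D.B z y₀ ∧ D.B y x₁ = D.B z y₁ := fun hp =>
    ⟨(quad_symm _ _ _).trans (hT.B_eq h h9 hp), (quad_symm _ _ _).trans (hT.B_eq h h10 hp)⟩
  obtain ⟨α, β, γ, h12⟩ : ∃ α β γ : F, ∀ s t : F, α * s ^ 2 + β * s * t + γ * t ^ 2 =
      D.B (s • x₀ + t • x₁) y₀ * D.B (s • x₀ + t • x₁) x₁ -
        D.B (s • x₀ + t • x₁) x₀ * D.B (s • x₀ + t • x₁) y₁ :=
    ⟨D.B x₀ y₀ * D.B x₀ x₁ - D.B x₀ x₀ * D.B x₀ y₁, D.B x₀ y₀ * D.B x₁ x₁ + D.B x₁ y₀ * D.B x₀ x₁ -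
      D.B x₀ x₀ * D.B x₁ y₁ - D.B x₁ x₀ * D.B x₀ y₁, D.B x₁ y₀ * D.B x₁ x₁ - D.B x₁ x₀ * D.B x₁ y₁,
      fun s t => by simp; ring⟩
  have h13 : ∀ s t, α * s ^ 2 + β * s * t + γ * t ^ 2 = 0 → s = 0 ∧ t = 0 := fun s t h13 => by
    have h14 := add_mem (Submodule.smul_mem _ s h1) (Submodule.smul_mem _ t h4)
    rw [h12] at h13
    have h15 : s • x₀ + t • x₁ ∈ ln F e b := by
      generalize s • x₀ + t • x₁ = z at *
      obtain ⟨y, hy⟩ := hb.exists_ww h h14
      rw [← (h11 hy).1, ← (h11 hy).2] at h13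
      have h15 : ∀ r : F, D.B y x₀ = r * D.B z x₀ → D.B y x₁ = r * D.B z x₁ → z ∈ ln F e b :=
        fun r h15 h16 => snd_mem_ln h (hb.triv (h.add_smul r).hb (h.add_smul r).b_ne) hy
          (h8 _ (sub_mem hy.1 (Submodule.smul_mem _ _ h14)) (by simp [h15]) (by simp [h16]))
      by_cases h16 : D.B z x₀ = 0
      · by_cases h17 : D.B z x₁ = 0
        · exact h8 z h14 h16 h17
        · exact h15 (D.B y x₁ / D.B z x₁) (by simpa [h16, h17] using h13) (by simp [h17])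
      · exact h15 (D.B y x₀ / D.B z x₀) (by simp [h16]) (by field_simp; linear_combination -h13)
    obtain rfl : t = 0 := by_contra fun ht => h5 ((Submodule.smul_mem_iff _ ht).1 (by
      simpa using sub_mem (Submodule.mem_sup_left h15)
        (Submodule.mem_sup_right (smul_mem_span s x₀))))
    exact ⟨by_contra fun hs => h2 ((Submodule.smul_mem_iff _ hs).1 (by simpa using h15)), rfl⟩
  obtain ⟨f, h14, h15⟩ := hb.nd.exists_perp_B_eq h.symm.nb 1
  obtain ⟨b', h16, h17⟩ := hb.nd.exists_perp_B_eq h.nb 1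
  rw [mem_perp_span_singleton, quad_symm] at h14 h16
  have h18 : ∀ r s t u : F, om D f b' (r • e + s • b) (t • e + u • b) = r * u - s * t :=
    fun r s t u => by simp [om, h14, h15, h16, h17]
  have h19 : α ≠ 0 := fun h19 => one_ne_zero (h13 1 0 (by simp [h19])).1
  have h20 : ∀ r s : F, r • e + s • b ∈ ln F e b := fun r s => Submodule.mem_span_pair.2 ⟨r, s, rfl⟩
  have h21 : om D f b' (D.B y₀ x₀ • e + D.B x₀ x₀ • b) (D.B y₀ x₁ • e + D.B x₀ x₁ • b) = α := by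
    simpa [h18, (h11 h9).1, (h11 h9).2] using (h12 1 0).symm
  have h22 : D.B y₀ x₀ • e + D.B x₀ x₀ • b ≠ 0 := fun h => h19 (by rw [← h21, h]; simp [om])
  have h23 := ncard_mul_le_vec H (t1 D e b f b') _ (T := {x | x ≠ 0 ∧ x ∈ ln F e b})
    (A := (fun p : F × F => D.B (p.1 • x₀ + p.2 • x₁) y₀ • e + D.B (p.1 • x₀ + p.2 • x₁) x₀ • b) ''
      {p | α * p.1 ^ 2 + β * p.1 * p.2 + γ * p.2 ^ 2 = α})
    (fun y hy => t1_trans hb.nd h (h20 _ _) hy.2 h22 hy.1) fun g hg hg' => by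
      obtain ⟨r, s, h23⟩ := Submodule.mem_span_pair.1 (stab_mem hg'.2.1.1 left_mem_ln)
      obtain ⟨t, u, h24⟩ := Submodule.mem_span_pair.1 (stab_mem hg'.2.1.1 right_mem_ln)
      have h25 := conj_mem_ww h hg hg'.2.1 h23.symm h24.symm h9
      have h26 : ∀ x, g.1 (D.B y₀ x • e + D.B x₀ x • b) =
          D.B (r • y₀ + t • x₀) x • e + D.B (s • y₀ + u • x₀) x • b := fun x => by
        simp only [map_add, map_smul, ← h23, ← h24, LinearMap.add_apply, LinearMap.smul_apply]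
        module
      obtain ⟨c, d, h27⟩ := h6 _ h25.2.1
      refine ⟨(c, d), ?_, by rw [h26, (h11 h25).1, h7 h27 h9.1, h7 h27 h1]⟩
      rw [Set.mem_ofPred_eq, h12, ← h21, ← hg'.2.2.2 _ (h20 _ _) _ (h20 _ _), h26, h26, h18,
        (h11 h25).1, (h11 h25).2, h7 h27 h9.1, h7 h27 h10.1, h7 h27 h1, h7 h27 h4]
  have h24 := (hb.le_relIndex (h.isTS.1 _ (h20 _ _)) h22).trans (zs_le (fun _ => mem_pe.1) H
    (P := t1 D e b f b' ⊓ D.fix (F ∙ _)) fun z hz => ⟨sg_mem_t1 h (h20 _ _) (mem_pe.1 hz),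
      by simpa [mem_fix_span] using sg_self _ z⟩)
  have h25 := (Nat.mul_le_mul_left _ h24).trans (h23.trans (Nat.mul_le_mul
    ((relIndex_mono _ inf_le_left).trans hb.h2.le)
    ((Set.ncard_image_le (Set.toFinite _)).trans (ncard_level h19 h13))))
  rw [ncard_sub_ne_zero, h.finrank_ln] at h25
  obtain ⟨r, hr⟩ := odd_card_iff.2 hb.two_ne_zero
  obtain ⟨k, hk⟩ : ∃ k, 𝐪 = k + 3 := ⟨𝐪 - 3, by have := two_le_card (F := F); omega⟩
  rw [hk, show (k + 3) ^ 2 - 1 = (k + 2) * (k + 4) by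
    rw [Nat.sub_eq_iff_eq_add (Nat.one_le_pow _ _ (by omega))]; ring] at h25
  ring_nf at h25
  omega

theorem min_index (hD : D.Nondeg) (hn : finrank F V = 6) (hm : ¬ D.HasTS 3) {P : Type*} [Group P]
    (φ : P ≃* commutator D.isom ⧸ Subgroup.center (commutator D.isom)) :
    (∀ H : Subgroup P, H ≠ ⊤ → (𝐪 + 1) * (𝐪 ^ 3 + 1) ≤ H.index) ∧
      ∃ H : Subgroup P, H.index = (𝐪 + 1) * (𝐪 ^ 3 + 1) := by
  obtain ⟨e, f, h⟩ := Quad.exists_isHyp hD (by omega)
  have h5 := finrank_span_singleton (K := F) h.e_ne_zero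
  refine min_index_proj hD (Or.inr (by omega)) h (hD.commutator_eq_E (good_of_finrank (by omega))
    (by omega)) φ (fun H hH => not_lt.1 fun h => Bad.false ⟨hD, hn, hm, hH, h⟩)
    (Quad.not_E_le_stab hD (by omega) (W := F ∙ e) (by simpa using h.e_ne_zero) fun h => by
      rw [h, finrank_top] at h5; omega) (Nat.le_of_mul_le_mul_right ?_
        (Nat.sub_pos_of_lt (two_le_card (F := F)))) (mem_stab_of_smul _)
  rw [mul_comm (𝐪 + 1), mul_assoc, ← Nat.sq_sub_sq]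
  exact le_trans (relIndex_stab_le _ h.e_ne_zero (T := {x | x ≠ 0 ∧ D.Q x = 0}) fun g _ c hc =>
    ⟨by simp [hc, h.e_ne_zero], D.Q_smul_of_Q (by simpa using h.Q_e) c⟩)
      (nsv_minus hD (m := 2) hn hm).le

end Cfsg.Lib.Forms.MI.M6
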