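import Cfsg.Agent.Lib.MinIdx.Core

/-!
Minimal index of orthogonal groups, I: Siegel elements, stabilisers of totally singular subspaces.
-/

set_option autoImplicit false

namespace Cfsg.Lib.Forms.MI

open Module Form

universe u

variable {F : Type*} [Field F] {V : Type u} [AddCommGroup V] [Module F V]
  {D : Form (quadKind F) V} {H : Subgroup D.isom}

open Classical in
variable (D) in
/-- The Eichler (Siegel) element, as a total function. -/
noncomputable def sg (e z : V) : D.isom :=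
  if h : D.Q e = 0 ∧ D.B e z = 0 then D.eich e z (D.Q z) (isEich_quad h.1 h.2) else 1

theorem sg_eq {e z : V} (he : D.Q e = 0) (hz : D.B e z = 0) :
    sg D e z = D.eich e z _ (isEich_quad he hz) := dif_pos ⟨he, hz⟩

theorem eich_eq_sg {e z : V} {d : F} (h : D.IsEich e z d) : D.eich e z d h = sg D e z := by
  rw [sg_eq h.Q_e h.B_ez]
  exact eich_congr _ _ _ rfl rfl h.quad_eq

theorem sg_apply {e z : V} (he : D.Q e = 0) (hz : D.B e z = 0) (x : V) :
    (sg D e z).1 x = x + D.B z x • e - D.B e x • (z + D.Q z • e) := by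
  simp [sg_eq he hz, eich_apply]

theorem sg_apply_perp {e z x : V} (he : D.Q e = 0) (hz : D.B e z = 0) (hx : D.B e x = 0) :
    (sg D e z).1 x = x + D.B z x • e := by simp [sg_apply he hz, hx]

theorem sg_fix {e z x : V} (hx : D.B e x = 0) (hx' : D.B z x = 0) : (sg D e z).1 x = x := by
  unfold sg
  split_ifs with h
  · exact eich_apply_of_perp_perp _ _ hx hx'
  · rfl

theorem sg_self (e z : V) : (sg D e z).1 e = e := by
  unfold sg
  split_ifs with h
  · exact eich_apply_self _ _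
  · rfl

theorem sg_mem_E (e z : V) : sg D e z ∈ D.E := by
  unfold sg
  split_ifs
  exacts [eich_mem_E _ _ _ _, D.E.one_mem]

theorem conj_sg (g : D.isom) (e z : V) : g * sg D e z * g⁻¹ = sg D (g.1 e) (g.1 z) := by
  by_cases h : D.Q e = 0 ∧ D.B e z = 0
  · rw [sg_eq h.1 h.2, conj_eich, eich_eq_sg]
  · simp [sg, h]

theorem sg_add {e z z' : V} (hz : D.B e z = 0) (hz' : D.B e z' = 0) :
    sg D e (z + z') = sg D e z * sg D e z' := by
  by_cases he : D.Q e = 0
  · rw [sg_eq he hz, sg_eq he hz', eich_mul, eich_eq_sg]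
  · simp [sg, he]

theorem sg_zero (e : V) : sg D e 0 = 1 := isom_ext fun x => by
  by_cases he : D.Q e = 0
  · simp [sg_apply he (D.B_zero_right e), Q_zero]
  · simp [sg, he]

theorem sg_neg {e z : V} (hz : D.B e z = 0) : sg D e (-z) = (sg D e z)⁻¹ := by
  rw [eq_inv_iff_mul_eq_one, ← sg_add (by simp [hz]) hz, neg_add_cancel, sg_zero]

theorem sg_smul_left {e z : V} (he : D.Q e = 0) (hz : D.B e z = 0) (c : F) :
    sg D (c • e) z = sg D e (c • z) := isom_ext fun x => by
  rw [sg_apply (D.Q_smul_of_Q he c) (by simp [hz]), sg_apply he (by simp [hz])]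
  simp only [quad_Q_smul, map_smul, LinearMap.smul_apply, smul_eq_mul]
  module

theorem sg_add_smul {e : V} (he : D.Q e = 0) (z : V) (c : F) : sg D e (z + c • e) = sg D e z := by
  have h0 := D.B_self_of_Q he
  by_cases hz : D.B e z = 0
  · refine isom_ext fun x => ?_
    rw [sg_apply he hz, sg_apply he (by simp [hz, h0])]
    simp only [quad_Q_add, quad_Q_smul, he, map_add, map_smul, LinearMap.add_apply,
      LinearMap.smul_apply, smul_eq_mul, D.eq_zero_symm hz]
    module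
  · simp [sg, hz, h0]

theorem sg_smul_self {e : V} (he : D.Q e = 0) (c : F) : sg D e (c • e) = 1 := by
  simpa [sg_zero] using sg_add_smul he 0 c

theorem sg_swap {e b : V} (he : D.Q e = 0) (hb : D.Q b = 0) (h : D.B e b = 0) (t : F) :
    sg D e (t • b) = sg D b (-(t • e)) := isom_ext fun x => by
  rw [sg_apply he (by simp [h]), sg_apply hb (by simp [D.eq_zero_symm h])]
  simp only [quad_Q_smul, Q_neg, he, hb, map_smul, map_neg, LinearMap.smul_apply,
    LinearMap.neg_apply, smul_eq_mul]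
  module

/-- The subgroup `H ∩ Q_e`, as a set of vectors. -/
def zs (H : Subgroup D.isom) (e : V) : AddSubgroup V where
  carrier := {z | D.B e z = 0 ∧ sg D e z ∈ H}
  zero_mem' := ⟨by simp, by simp [sg_zero]⟩
  add_mem' := fun h h' => ⟨by simp [h.1, h'.1], sg_add h.1 h'.1 ▸ H.mul_mem h.2 h'.2⟩
  neg_mem' := fun h => ⟨by simp [h.1], sg_neg h.1 ▸ H.inv_mem h.2⟩

theorem mem_zs {e z : V} : z ∈ zs H e ↔ D.B e z = 0 ∧ sg D e z ∈ H := Iff.rfl

theorem smul_mem_zs {e : V} (he : D.Q e = 0) (c : F) : c • e ∈ zs H e :=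
  ⟨by simp [D.B_self_of_Q he], by simp [sg_smul_self he]⟩

theorem map_mem_zs {e z : V} (hz : z ∈ zs H e) {g : D.isom} (hg : g ∈ H) :
    g.1 z ∈ zs H (g.1 e) :=
  ⟨by simp [hz.1], conj_sg g e z ▸ H.mul_mem (H.mul_mem hg hz.2) (H.inv_mem hg)⟩

theorem map_mem_zs' {e z : V} (hz : z ∈ zs H e) {g : D.isom} (hg : g ∈ H) (he : g.1 e = e) :
    g.1 z ∈ zs H e := by simpa [he] using map_mem_zs hz hg

theorem mem_zs_smul {e z : V} (he : D.Q e = 0) {c : F} (hc : c ≠ 0) :
    z ∈ zs H (c • e) ↔ c • z ∈ zs H e := by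
  simp only [mem_zs, map_smul, LinearMap.smul_apply, smul_eq_mul, mul_eq_zero, hc, false_or]
  exact and_congr_right fun h => by rw [sg_smul_left he h]

theorem swap_mem_zs {e b : V} (he : D.Q e = 0) (hb : D.Q b = 0) {t : F} (ht : t ≠ 0)
    (h : t • b ∈ zs H e) : t • e ∈ zs H b := by
  have h1 : D.B e b = 0 := by simpa [ht] using h.1
  rw [← neg_mem_iff]
  exact ⟨by simp [D.eq_zero_symm h1], sg_swap he hb h1 t ▸ h.2⟩

theorem mem_zSet_iff {e z : V} (he : D.Q e = 0) : z ∈ zSet H e he ↔ z ∈ zs H e :=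
  ⟨fun ⟨_, h, hH⟩ => ⟨h.B_ez, eich_eq_sg h ▸ hH⟩, fun h => ⟨_, _, sg_eq he h.1 ▸ h.2⟩⟩

theorem at_of_zs {e : V} {U : Submodule F V} (h : ∀ z ∈ U, D.B e z = 0 → z ∈ zs H e) :
    D.At H U e := fun z hz _ h' => eich_eq_sg h' ▸ (h z hz h'.B_ez).2

theorem zs_of_at {e z : V} {U : Submodule F V} (h : D.At H U e) (he : D.Q e = 0) (hz : z ∈ U)
    (hez : D.B e z = 0) : z ∈ zs H e := (mem_zSet_iff he).1 (h.mem_zSet he hz hez)

/-- The group `{sg e z : z ∈ Z}`. -/
theorem exists_qg (e : V) (Z : AddSubgroup V) (hZ : ∀ z ∈ Z, D.B e z = 0) :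
    ∃ R : Subgroup D.isom, (∀ g, g ∈ R ↔ ∃ z ∈ Z, sg D e z = g) ∧
      ∀ H : Subgroup D.isom, H.relIndex R = (zs H e).relIndex Z := by
  obtain ⟨R, h1, h2⟩ := exists_img (sg D e) Z fun x hx y hy => sg_add (hZ x hx) (hZ y hy)
  exact ⟨R, h1, fun H => h2 H _ fun x hx => and_iff_right (hZ x hx)⟩

theorem zs_le [Finite V] {e : V} {Z : AddSubgroup V} (hZ : ∀ z ∈ Z, D.B e z = 0)
    (H : Subgroup D.isom) {P : Subgroup D.isom} (hP : ∀ z ∈ Z, sg D e z ∈ P) :
    (zs H e).relIndex Z ≤ H.relIndex P :=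
  have := finite_isom (D := D)
  img_le (sg D e) Z (fun x hx y hy => sg_add (hZ x hx) (hZ y hy))
    (fun x hx => and_iff_right (hZ x hx)) hP

variable [Finite F] [FiniteDimensional F V]

theorem exists_torus_sq (hD : D.Nondeg) (hn : 5 ≤ finrank F V) {e f : V} (h : D.IsHyp e f) {c : F}
    (hc : c ≠ 0) : ∃ g ∈ D.E, g.1 e = (c ^ 2) • e ∧ g.1 f = (c ^ 2)⁻¹ • f ∧
      ∀ w ∈ D.hp e f, g.1 w = w := by
  have h1 : D.Q (e + f) = 1 := by simpa using h.Q_smul_add 1 1
  have h2 : D.Q (e + (c ^ 2) • f) = c ^ 2 := by simpa using h.Q_smul_add 1 (c ^ 2)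
  have h3 := h.B_fe
  refine ⟨D.refl (e + f) * D.refl (e + (c ^ 2) • f), ?_, ?_, ?_, fun w hw => ?_⟩
  · rw [← hD.commutator_eq_E (good_of_finrank (by omega)) (by omega)]
    exact hD.refl_mul_refl_mem_commutator (by simp [h1]) hc (by simp [h1, h2])
  · simp [isom_mul_apply, refl_apply, h1, h2, h.B_ee, h.B_ff, h.B_ef, h3, hc]
  · simp only [isom_mul_apply, refl_apply, h1, h2, map_add, map_sub, map_smul,
      LinearMap.add_apply, LinearMap.smul_apply, h.B_ee, h.B_ff, h.B_ef, h3, quadKind_ε]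
    match_scalars <;> field_simp <;> ring
  · simp [isom_mul_apply, refl_apply, (mem_hp D).1 hw]

/-- The number of non-zero singular vectors. -/
noncomputable abbrev nsv (D : Form (quadKind F) V) : ℕ := {x | x ≠ 0 ∧ D.Q x = 0}.ncard

omit [Finite F] [FiniteDimensional F V] in
theorem nsv_add_one [Finite V] (D : Form (quadKind F) V) :
    nsv D + 1 = Nat.card {x // D.Q x = 0} := card_ne_zero_Q_eq_zero D

theorem nsv_odd (hD : D.Nondeg) {m : ℕ} (hn : finrank F V = 2 * m + 1) :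
    nsv D = (Nat.card F ^ m - 1) * (Nat.card F ^ m + 1) := by
  have := Module.finite_of_finite F (M := V)
  have h1 := nsv_add_one D
  rw [Quad.card_Q_eq_zero_odd hD hn, mul_comm, pow_mul] at h1
  rw [mul_comm, ← Nat.sq_sub_sq]
  omega

theorem nsv_plus (hD : D.Nondeg) {m : ℕ} (hn : finrank F V = 2 * (m + 1)) (h : D.HasTS (m + 1)) :
    nsv D = (Nat.card F ^ (m + 1) - 1) * (Nat.card F ^ m + 1) := by
  have := Module.finite_of_finite F (M := V)
  have h1 := nsv_add_one D
  rw [Quad.card_Q_eq_zero_plus hD hn h] at h1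
  omega

theorem nsv_minus (hD : D.Nondeg) {m : ℕ} (hn : finrank F V = 2 * (m + 1))
    (h : ¬ D.HasTS (m + 1)) : nsv D = (Nat.card F ^ (m + 1) + 1) * (Nat.card F ^ m - 1) := by
  have := Module.finite_of_finite F (M := V)
  have h1 := nsv_add_one D
  rw [Quad.card_Q_eq_zero_minus hD hn h] at h1
  omega

theorem le_nsv (hD : D.Nondeg) {k j : ℕ} (hk : D.HasTS k)
    (hj : j < k ∨ (j ≤ k ∧ 2 * k < finrank F V)) :
    (Nat.card F ^ k - 1) * (Nat.card F ^ j + 1) ≤ nsv D := by
  have h1 := hk.two_mul_le hD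
  have hq : ∀ {a b}, a ≤ b → Nat.card F ^ a ≤ Nat.card F ^ b := Nat.pow_le_pow_right Nat.card_pos
  obtain ⟨m, hm | hm⟩ := Nat.even_or_odd' (finrank F V)
  · obtain ⟨m, rfl⟩ : ∃ l, m = l + 1 := ⟨m - 1, by omega⟩
    by_cases h : D.HasTS (m + 1)
    · rw [nsv_plus hD hm h]
      exact Nat.mul_le_mul (Nat.sub_le_sub_right (hq (by omega)) 1)
        (Nat.succ_le_succ (hq (by omega)))
    · have : k ≠ m + 1 := fun h' => h (h' ▸ hk)
      rw [nsv_minus hD hm h, mul_comm (_ + 1)]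
      exact Nat.mul_le_mul (Nat.sub_le_sub_right (hq (by omega)) 1)
        (Nat.succ_le_succ (hq (by omega)))
  · rw [nsv_odd hD hm]
    exact Nat.mul_le_mul (Nat.sub_le_sub_right (hq (by omega)) 1)
      (Nat.succ_le_succ (hq (by omega)))

theorem ncard_sub_ne_zero (S : Submodule F V) :
    {x | x ≠ 0 ∧ x ∈ S}.ncard = Nat.card F ^ finrank F S - 1 := by
  have := Module.finite_of_finite F (M := V)
  rw [← Module.natCard_eq_pow_finrank (V := S), show {x | x ≠ 0 ∧ x ∈ S} = (S : Set V) \ {0} by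
    ext; simp [and_comm], Set.ncard_sdiff_singleton_of_mem S.zero_mem]
  rfl

theorem nsv_mul_le (hD : D.Nondeg) (hn : 3 ≤ finrank F V) (H : Subgroup D.isom) {e : V}
    (he : D.Q e = 0) (h0 : e ≠ 0) {A : Set V}
    (h : ∀ g ∈ H, g ∈ D.E → ∀ c : F, c ≠ 0 → c • g.1 e ∈ A) :
    nsv D * H.relIndex (D.E ⊓ D.stab (F ∙ e)) ≤ H.relIndex D.E * A.ncard :=
  have := Module.finite_of_finite F (M := V)
  ncard_mul_le_pt H D.E e (fun _ hy => hD.exists_mem_map_smul (fun _ _ _ _ => eich_mem_E _ _ _ _)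
    (Or.inr hn) he h0 hy.2 hy.1) h

/-- The index of the stabiliser of a subspace. -/
noncomputable abbrev iota (D : Form (quadKind F) V) (S : Submodule F V) : ℕ :=
  (D.stab S).relIndex D.E

theorem iota_le {e f : V} (h : D.IsHyp e f) (S : Submodule F V) :
    iota (D.restrict (D.hp e f)) (S.comap (D.hp e f).subtype) ≤
      (D.stab S).relIndex (D.E ⊓ D.fix (F ∙ e)) := by
  have := Module.finite_of_finite F (M := V)
  have := finite_isom (D := D)
  have := finite_isom (D := D.restrict (D.hp e f))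
  refine (relIndex_anti (H := (D.stab S).comap (extend h.isOrthCompl.symm)) _ ?_).trans ?_
  · rintro g ⟨hg, -⟩ x
    rw [Submodule.mem_comap, Submodule.mem_comap, hg, Submodule.subtype_apply, extend_apply_left]
    rfl
  · rw [Subgroup.relIndex_comap]
    refine relIndex_mono _ ?_
    rintro _ ⟨g, hg, rfl⟩
    exact ⟨extend_mem_E _ hg, by
      simpa [mem_fix_span] using extend_apply_right _ g (Submodule.subset_span (by simp))⟩

omit [Finite F] in
theorem finrank_comap_hp {e f : V} (hf : D.IsHyp e f) {S : Submodule F V} (hS : D.IsTS S)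
    (he : e ∈ S) : finrank F (S.comap (D.hp e f).subtype) + 1 = finrank F S := by
  have h1 : S ⊓ D.hp e f = S ⊓ LinearMap.ker (D.B f) := by
    ext x
    exact and_congr_right fun hx => (mem_hp D).trans (and_iff_right (hS.2 e he x hx))
  have h2 := finrank_le_inf_ker S (D.B f)
  have h3 : finrank F ↥(S ⊓ LinearMap.ker (D.B f)) < finrank F S :=
    Submodule.finrank_lt_finrank_of_lt (lt_of_le_of_ne inf_le_left fun h => by
      have := (h.ge he).2
      simp [hf.B_fe] at this)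
  rw [← Submodule.finrank_map_subtype_eq, Submodule.map_comap_subtype, inf_comm, h1]
  omega

theorem iota_rec (hD : D.Nondeg) (hn : 3 ≤ finrank F V) {S : Submodule F V} (hS : D.IsTS S) {k : ℕ}
    (hk : finrank F S = k + 1) : ∃ U : Submodule F V, (D.restrict U).Nondeg ∧
      finrank F U + 2 = finrank F V ∧ ∃ T, (D.restrict U).IsTS T ∧ finrank F T = k ∧
        nsv D * iota (D.restrict U) T ≤ iota D S * (Nat.card F ^ (k + 1) - 1) := by
  have := Module.finite_of_finite F (M := V)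
  have := finite_isom (D := D)
  obtain ⟨e, he, h0⟩ := exists_ne_zero_of_finrank_pos (U := S) (by omega)
  obtain ⟨f, hf⟩ := hD.exists_isHyp (hS.1 e he) h0
  refine ⟨_, hf.nondeg_hp hD, hf.finrank_hp, _, hS.comap (isIsometry_comap _ _), ?_, ?_⟩
  · have := finrank_comap_hp hf hS he
    omega
  · rw [← hk, ← ncard_sub_ne_zero]
    refine le_trans (Nat.mul_le_mul_left _ ((iota_le hf S).trans (relIndex_mono _
      (inf_le_inf_left _ (fix_le_stab _ _))))) (nsv_mul_le hD hn _ (hS.1 e he) h0 ?_)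
    exact fun g hg _ c hc => ⟨by simp [hc, h0], S.smul_mem _ (stab_mem hg he)⟩

theorem iota_rec' (hD : D.Nondeg) (hn : 3 ≤ finrank F V) {S : Submodule F V} (hS : D.IsTS S)
    {k j : ℕ} (hk : finrank F S = k + 1) (hj : j ≤ k ∨ (j ≤ k + 1 ∧ 2 * k + 2 < finrank F V)) :
    ∃ U : Submodule F V, (D.restrict U).Nondeg ∧ finrank F U + 2 = finrank F V ∧
      ∃ T, (D.restrict U).IsTS T ∧ finrank F T = k ∧
        (Nat.card F ^ j + 1) * iota (D.restrict U) T ≤ iota D S := by
  obtain ⟨U, h1, h2, T, h3, h4, h5⟩ := iota_rec hD hn hS hk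
  refine ⟨U, h1, h2, T, h3, h4, Nat.le_of_mul_le_mul_right ?_
    (Nat.sub_pos_of_lt (Nat.one_lt_pow k.succ_ne_zero (two_le_card (F := F))))⟩
  refine le_trans ?_ h5
  rw [mul_right_comm, mul_comm (_ + 1)]
  exact Nat.mul_le_mul_right _ (le_nsv hD ⟨S, hk, hS⟩ (by omega))

theorem one_le_iota (S : Submodule F V) : 1 ≤ iota D S :=
  have := Module.finite_of_finite F (M := V)
  have := finite_isom (D := D)
  Nat.pos_of_ne_zero (relIndex_ne_zero' _ _)

theorem iota_three (hD : D.Nondeg) {S : Submodule F V} (hS : D.IsTS S) (hk : finrank F S = 3) :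
    (Nat.card F ^ 2 + 1) * (Nat.card F + 1) ≤ iota D S := by
  have := hS.two_mul_finrank_le hD
  obtain ⟨U, h1, h2, T, h3, h4, h5⟩ := iota_rec' hD (by omega) hS hk (j := 2) (by omega)
  obtain ⟨U', -, -, T', -, -, h6⟩ := iota_rec' h1 (by omega) h3 h4 (j := 1) (by omega)
  refine le_trans (Nat.mul_le_mul_left _ (le_trans ?_ h6)) h5
  simpa using Nat.mul_le_mul_left (Nat.card F + 1) (one_le_iota T')

theorem le_iota (k : ℕ) : ∀ {V : Type u} [AddCommGroup V] [Module F V] [FiniteDimensional F V]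
    {D : Form (quadKind F) V} (_ : D.Nondeg) {S : Submodule F V} (_ : D.IsTS S)
    (_ : finrank F S = k) (_ : 3 ≤ k ∨ 2 * k < finrank F V),
    Nat.card F ^ (k + 1) - 1 ≤ iota D S * (Nat.card F - 1) := by
  have hq := two_le_card (F := F)
  induction k with
  | zero =>
    intro V _ _ _ D _ S _ _ _
    simpa using Nat.mul_le_mul_right (Nat.card F - 1) (one_le_iota S)
  | succ k ih =>
    intro V _ _ _ D hD S hS hk h
    have h0 := hS.two_mul_finrank_le hD
    by_cases h3 : k = 2 ∧ finrank F V = 6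
    · refine le_trans (le_of_eq ?_) (Nat.mul_le_mul_right _ (iota_three hD hS (by omega)))
      obtain ⟨r, hr⟩ : ∃ r, Nat.card F = r + 1 := ⟨Nat.card F - 1, by omega⟩
      rw [h3.1, hr, Nat.sub_eq_iff_eq_add (Nat.one_le_pow _ _ (by omega)), Nat.add_sub_cancel]
      ring
    · obtain ⟨U, h1, h2, T, h3, h4, h5⟩ := iota_rec' hD (by omega) hS hk (j := max k 1) (by omega)
      have h6 := ih h1 h3 h4 (by omega)
      have h7 : Nat.card F ≤ Nat.card F ^ max k 1 := Nat.le_self_pow (by omega) _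
      refine le_trans ?_ (Nat.mul_le_mul_right _ h5)
      rw [mul_assoc]
      refine le_trans ?_ (Nat.mul_le_mul (Nat.succ_le_succ h7) h6)
      obtain ⟨y, hy⟩ : ∃ y, Nat.card F ^ (k + 1) = y + 1 :=
        ⟨_, (Nat.sub_add_cancel (Nat.one_le_pow _ _ (by omega))).symm⟩
      have h8 : Nat.card F ≤ Nat.card F ^ (k + 1) := Nat.le_self_pow (by omega) _
      rw [pow_succ _ (k + 1), hy, Nat.add_sub_cancel, Nat.sub_le_iff_le_add]
      rw [hy] at h8
      simp only [Nat.succ_eq_add_one]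
      nlinarith

/-- Stabilisers of totally singular subspaces. -/
theorem nsv_le_of_isTS (hD : D.Nondeg) (hn : 7 ≤ finrank F V) {S : Submodule F V} (hS : D.IsTS S)
    (h0 : S ≠ ⊥) (hH : H ≤ D.stab S) : nsv D ≤ H.relIndex D.E * (Nat.card F - 1) := by
  have := Module.finite_of_finite F (M := V)
  have := finite_isom (D := D)
  obtain ⟨k, hk⟩ : ∃ k, finrank F S = k + 1 :=
    ⟨_, (Nat.succ_pred_eq_of_pos (Submodule.one_le_finrank_iff.2 h0)).symm⟩
  obtain ⟨U, h1, h2, T, h3, h4, h5⟩ := iota_rec hD (by omega) hS hk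
  have h6 := le_iota k h1 h3 h4 (by omega)
  refine le_trans ?_ (Nat.mul_le_mul_right _ (relIndex_anti _ (inf_le_left.trans hH)))
  refine Nat.le_of_mul_le_mul_right ?_
    (Nat.sub_pos_of_lt (Nat.one_lt_pow k.succ_ne_zero (two_le_card (F := F))))
  calc _ ≤ nsv D * (iota (D.restrict U) T * (Nat.card F - 1)) := Nat.mul_le_mul_left _ h6
    _ ≤ _ := by
      rw [← mul_assoc, mul_right_comm (iota D S)]
      exact Nat.mul_le_mul_right _ h5

theorem nsv_le_of_perp (hD : D.Nondeg) (hn : 7 ≤ finrank F V) {e : V} (he : D.Q e = 0) (h0 : e ≠ 0)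
    (h : ∀ g ∈ H, D.B e (g.1 e) = 0) : nsv D ≤ H.relIndex D.E * (Nat.card F - 1) := by
  let s : Set V := {x | ∃ g ∈ H, g.1 e = x}
  have hB : ∀ x ∈ s, ∀ y ∈ s, D.B x y = 0 := by
    rintro _ ⟨g, hg, rfl⟩ _ ⟨k, hk, rfl⟩
    rw [B_isom_left]
    exact h (g⁻¹ * k) (H.mul_mem (H.inv_mem hg) hk)
  have hB' : Submodule.span F s ≤ D.perp (Submodule.span F s) :=
    Submodule.span_le.2 fun x hx => (mem_perp_span D).2 fun y hy => hB y hy x hx
  refine nsv_le_of_isTS hD hn (S := Submodule.span F s) (isTS_quad fun x hx => ?_) (fun h1 => h0 ?_)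
    fun g hg => mem_stab_of_mapsTo _ fun x hx => ?_
  · induction hx using Submodule.span_induction with
    | mem x hx => obtain ⟨g, -, rfl⟩ := hx; simpa using he
    | zero => exact D.Q_zero
    | add x y hx hy h1 h2 => rw [quad_Q_add, h1, h2, hB' hy x hx]; simp
    | smul c x _ h1 => exact D.Q_smul_of_Q h1 c
  · exact (Submodule.span_eq_bot.1 h1) e ⟨1, H.one_mem, rfl⟩
  · refine Submodule.span_le.2 (show s ⊆ (Submodule.span F s).comap (g.1 : V →ₗ[F] V) from ?_) hx
    rintro _ ⟨k, hk, rfl⟩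
    exact Submodule.subset_span ⟨g * k, H.mul_mem hg hk, rfl⟩

end Cfsg.Lib.Forms.MI
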