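import Cfsg.Agent.Lib.MinIdx.O1

/-!
Minimal index of orthogonal groups, II: subgroups containing many root elements.
-/

set_option autoImplicit false

namespace Cfsg.Lib.Forms.MI

open Module Form

universe u

section Gen
variable {F : Type*} [Field F] {σ : F →+* F} {K : Kind σ} {V : Type*} [AddCommGroup V]
  [Module F V] {D : Form K V} [FiniteDimensional F V]

theorem wide_of_rad {Y : Submodule F V} {k : ℕ}
    (h : k + finrank F ↥(Y ⊓ D.perp Y) ≤ finrank F Y) : D.Wide Y k := by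
  obtain ⟨C, hC⟩ := (Y ⊓ D.perp Y).exists_isCompl
  have h1 : Y ≤ (Y ⊓ D.perp Y) ⊔ (C ⊓ Y) := by
    rw [← sup_inf_assoc_of_le _ inf_le_left, hC.sup_eq_top, top_inf_eq]
  refine ⟨C ⊓ Y, inf_le_right, Submodule.disjoint_def.2 fun x hx hx' => ?_, ?_⟩
  · refine Submodule.disjoint_def.1 hC.disjoint x ⟨hx.2, D.perp_anti h1 ?_⟩ hx.1
    rw [perp_sup]
    exact ⟨fun w hw => D.eq_zero_symm (hw.2 x hx.2), hx'⟩
  · have := (Submodule.finrank_mono h1).trans (Submodule.finrank_add_le_finrank_add_finrank _ _)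
    omega

theorem wide_of_le (hD : D.Nondeg) {Y Z : Submodule F V} (h : Y ≤ Z) (hZ : Disjoint Z (D.perp Z))
    {k : ℕ} (hk : k + finrank F Z ≤ 2 * finrank F Y) : D.Wide Y k := by
  have h1 := Submodule.finrank_sup_add_finrank_inf_eq (Y ⊓ D.perp Y) (D.perp Z)
  rw [(hZ.mono_left (inf_le_left.trans h)).eq_bot, finrank_bot] at h1
  have h2 := Submodule.finrank_mono (sup_le (inf_le_right (a := Y)) (D.perp_anti h))
  have h3 := hD.finrank_perp Y
  have h4 := hD.finrank_perp Z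
  exact wide_of_rad (by omega)

theorem MaxFull_perp_le (hD : D.Nondeg) {X : Subgroup D.isom} {U U' : Submodule F V}
    (h : D.MaxFull X U) (hR : D.RichOn U) (h' : D.Full X U') {a : V} (ha : a ∈ U) (ha' : a ∈ U')
    (hQ : D.Q a = 0) (h1 : a ∉ D.perp U) (h2 : a ∉ D.perp U') :
    U' ⊓ D.perp (F ∙ a) ≤ U ∧ D.perp U ≤ D.perp U' ⊔ F ∙ a := by
  have h3 : U' ⊓ D.perp (F ∙ a) ≤ U := fun z hz => h.mem_of_zSet hR ha hQ h1 fun c =>
    (h' a ha' h2).mem_zSet hQ (U'.smul_mem c hz.1) (by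
      simp [(mem_perp_span_singleton D).1 hz.2])
  refine ⟨h3, ?_⟩
  simpa [hD.perp_inf, hD.perp_perp] using D.perp_anti h3

end Gen

variable {F : Type*} [Field F] {V : Type u} [AddCommGroup V] [Module F V]
  {D : Form (quadKind F) V} {H : Subgroup D.isom} [Finite F] [FiniteDimensional F V]

theorem le_stab_of_maxFull (hD : D.Nondeg) (hn : 7 ≤ finrank F V) {U : Submodule F V}
    (h : D.MaxFull H U) (hR : D.RichOn U)
    (hU : finrank F V ≤ finrank F U + 1 ∨ finrank F V ≤ finrank F U + 2 ∧ Disjoint U (D.perp U)) :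
    H ≤ D.stab U := fun g hg => by
  set U' := U.map (g.1 : V →ₗ[F] V) with hU'
  have h1 : finrank F U' = finrank F U := finrank_map_isom U g
  have h2 := Submodule.finrank_sup_add_finrank_inf_eq U U'
  have h3 := (U ⊔ U').finrank_le
  have h4 := hD.finrank_perp U
  have h5 := hD.finrank_perp U'
  refine (mem_stab_iff_map D).2 (Submodule.eq_of_le_of_finrank_eq (hD.perp_le_perp.1 ?_) h1)
  rcases hU with hU | ⟨hU, hd⟩
  · have h6 := Submodule.finrank_add_le_finrank_add_finrank (D.perp U) (D.perp U')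
    obtain ⟨a, ha, h7, hQ, -⟩ := (Quad.sing D).exists_not_mem (U ⊓ U') (D.perp U ⊔ D.perp U') []
      (by simp; omega)
    intro r hr
    obtain ⟨x, hx, y, hy, h8⟩ := Submodule.mem_sup.1 ((MaxFull_perp_le hD h hR (h.map hg).full ha.1
      ha.2 hQ (fun h => h7 (Submodule.mem_sup_left h)) fun h => h7 (Submodule.mem_sup_right h)).2 hr)
    obtain ⟨c, rfl⟩ := Submodule.mem_span_singleton.1 hy
    by_cases hc : c = 0
    · simpa [← h8, hc] using hx
    · refine absurd ((Submodule.smul_mem_iff _ hc).1 ?_) h7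
      rw [eq_sub_of_add_eq' h8]
      exact sub_mem (Submodule.mem_sup_left hr) (Submodule.mem_sup_right hx)
  · have hd' : Disjoint U' (D.perp U') := by
      rw [hU', perp_map_isom, disjoint_iff, ← Submodule.map_inf _ g.1.injective, hd.eq_bot,
        Submodule.map_bot]
    have key : ∀ a ∈ U ⊓ U', a ≠ 0 → D.Q a = 0 → _ := fun a ha h0 hQ =>
      MaxFull_perp_le hD h hR (h.map hg).full ha.1 ha.2 hQ
        (fun h => h0 (Submodule.disjoint_def.1 hd a ha.1 h))
        fun h => h0 (Submodule.disjoint_def.1 hd' a ha.2 h)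
    obtain ⟨a, ha, h0, hQ⟩ := Quad.sing D (U ⊓ U') (by omega)
    have h6 := finrank_le_inf_ker U' (D.B a)
    have h7 := finrank_span_singleton_le (F := F) a
    obtain ⟨b, hb, h8, hQ', -⟩ := (Quad.sing D).exists_not_mem (U' ⊓ LinearMap.ker (D.B a)) (F ∙ a)
      [] (by simp; omega)
    intro r hr
    obtain ⟨x, hx, y, hy, h9⟩ := Submodule.mem_sup.1 ((key a ha h0 hQ).2 hr)
    obtain ⟨x', hx', y', hy', h10⟩ := Submodule.mem_sup.1 ((key b ⟨(key a ha h0 hQ).1
      ⟨hb.1, (mem_perp_span_singleton D).2 hb.2⟩, hb.1⟩ (fun h => h8 (h ▸ zero_mem _)) hQ').2 hr)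
    obtain ⟨c, rfl⟩ := Submodule.mem_span_singleton.1 hy'
    by_cases hc : c = 0
    · simpa [← h10, hc] using hx'
    · have h11 : c • b - y = x - x' := by rw [eq_sub_of_add_eq' h9, eq_sub_of_add_eq' h10]; abel
      have := Submodule.disjoint_def.1 hd' _ (sub_mem (U'.smul_mem c hb.1)
        ((Submodule.span_singleton_le_iff_mem _ _).2 ha.2 hy)) (h11 ▸ sub_mem hx hx')
      exact absurd ((Submodule.smul_mem_iff _ hc).1 (sub_eq_zero.1 this ▸ hy)) h8

open Classical in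
/-- The bound coming from non-singular points. -/
def NsBound (H : Subgroup D.isom) : Prop :=
  ∃ v, D.Q v ≠ 0 ∧ Nat.card {x // D.Q x = D.Q v} ≤ H.relIndex D.E * if (2 : F) = 0 then 1 else 2

theorem nsBound_of_le_stab (hD : D.Nondeg) (hn : 4 ≤ finrank F V) {r : V} (hr : D.Q r ≠ 0)
    (h : H ≤ D.stab (F ∙ r)) : NsBound H := by
  have := Module.finite_of_finite F (M := V)
  have := finite_isom (D := D)
  have h0 : ∀ {x}, D.Q x = D.Q r → x ≠ 0 := fun h h' => hr (by rw [← h, h', Q_zero])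
  have h1 := ncard_mul_le_vec H D.E r (T := {x | D.Q x = D.Q r}) (A := {r, -r})
    (fun y hy => Quad.trans hD hn _ _ (h0 rfl) (h0 hy) hy.symm) fun g hg _ => by
      obtain ⟨c, hc⟩ := Submodule.mem_span_singleton.1
        (stab_mem (h hg) (Submodule.mem_span_singleton_self r))
      have h2 := Q_isom g r
      rw [← hc, quad_Q_smul, mul_eq_right₀ hr, sq_eq_one_iff] at h2
      rcases h2 with rfl | rfl <;> simp [← hc]
  refine ⟨r, hr, (Nat.le_mul_of_pos_right _ (Nat.pos_of_ne_zero (relIndex_ne_zero' _ _))).trans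
    (h1.trans (Nat.mul_le_mul_left _ ?_))⟩
  split_ifs with h2
  · rw [show -r = r by rw [neg_eq_iff_add_eq_zero, ← two_smul F, h2, zero_smul]]
    simp
  · exact (Set.ncard_insert_le _ _).trans (by simp)

theorem nsv_le_of_plane (hD : D.Nondeg) (hn : 3 ≤ finrank F V) {R : Submodule F V}
    (hR : finrank F R = 2) (hd : Disjoint R (D.perp R)) {c : V} (hc : c ∈ R) (h0 : c ≠ 0)
    (hQ : D.Q c = 0) (h : H ≤ D.stab R) : nsv D ≤ H.relIndex D.E * (Nat.card F - 1) := by
  have := Module.finite_of_finite F (M := V)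
  have := finite_isom (D := D)
  obtain ⟨c', hc', hyp⟩ := exists_isHyp_mem hc hQ fun h => h0 (Submodule.disjoint_def.1 hd c hc h)
  have h1 : Submodule.span F {c, c'} = R := Submodule.eq_of_le_of_finrank_eq
    (Submodule.span_le.2 (by simp [Set.insert_subset_iff, hc, hc'])) (by rw [hyp.finrank_span, hR])
  have h2 := nsv_mul_le hD hn H hQ h0 (A := {x | x ≠ 0 ∧ x ∈ F ∙ c} ∪ {x | x ≠ 0 ∧ x ∈ F ∙ c'})
    fun g hg _ t ht => by
      have h3 := R.smul_mem t (stab_mem (h hg) hc)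
      have h4 : D.Q (t • g.1 c) = 0 := D.Q_smul_of_Q (by simpa using hQ) t
      have h5 : t • g.1 c ≠ 0 := by simp [ht, h0]
      generalize t • g.1 c = x at h3 h4 h5
      rw [← h1] at h3
      obtain ⟨a, b, rfl⟩ := Submodule.mem_span_pair.1 h3
      rw [hyp.Q_smul_add, mul_eq_zero] at h4
      rcases h4 with rfl | rfl
      · exact Or.inr ⟨h5, by simp [Submodule.smul_mem, Submodule.mem_span_singleton_self]⟩
      · exact Or.inl ⟨h5, by simp [Submodule.smul_mem, Submodule.mem_span_singleton_self]⟩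
  have h3 := Set.ncard_union_le {x | x ≠ 0 ∧ x ∈ F ∙ c} {x | x ≠ 0 ∧ x ∈ F ∙ c'}
  rw [ncard_sub_ne_zero, ncard_sub_ne_zero, finrank_span_singleton h0,
    finrank_span_singleton hyp.f_ne_zero, pow_one] at h3
  have h4 : H.relIndex (D.E ⊓ D.stab (F ∙ c)) ≠ 1 := fun h4 => by
    obtain ⟨z, hz, hz0⟩ := exists_ne_zero_of_finrank_pos (U := D.perp R)
      (by have := hD.finrank_perp R; omega)
    have h5 := stab_mem (h (Subgroup.relIndex_eq_one.1 h4 ⟨sg_mem_E c z, fix_le_stab _ _ (by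
      simp [mem_fix_span, sg_self])⟩)) hc'
    rw [sg_apply hQ (hz c hc), hyp.B_ef, one_smul] at h5
    refine hz0 (Submodule.disjoint_def.1 hd z ?_ hz)
    convert sub_mem (sub_mem (add_mem hc' (R.smul_mem (D.B z c') hc)) h5) (R.smul_mem (D.Q z) hc)
    abel
  have h5 := relIndex_ne_zero' H (D.E ⊓ D.stab (F ∙ c))
  have h6 := (Nat.mul_le_mul_left _ (show 2 ≤ _ by omega)).trans
    (h2.trans (Nat.mul_le_mul_left _ h3))
  nlinarith

theorem finish (hD : D.Nondeg) (hn : 7 ≤ finrank F V) {e c : V} (he : D.Q e = 0) (h0 : e ≠ 0)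
    (hc : D.Q c = 0) {Φ : Submodule F V} (heΦ : e ∈ Φ) (hΦ : ∀ z ∈ Φ, z ∈ zs H e)
    (hcΦ : c ∈ D.perp Φ) (hce : c ∉ F ∙ e) (hr : Φ ⊓ D.perp Φ ≤ F ∙ e)
    (hk : finrank F V ≤ finrank F Φ + 3) :
    D.E ≤ H ∨ nsv D ≤ H.relIndex D.E * (Nat.card F - 1) ∨ NsBound H := by
  by_cases h1 : ∀ g ∈ H, D.B e (g.1 e) = 0
  · exact Or.inr (Or.inl (nsv_le_of_perp hD hn he h0 h1))
  push Not at h1
  obtain ⟨k, hk, hf⟩ := h1
  obtain ⟨u₀, hu₀, hQ₀⟩ : ∃ u ∈ Φ, D.Q u ≠ 0 := by
    by_contra! h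
    have := Submodule.finrank_mono ((le_inf le_rfl (isTS_quad h).le_perp).trans hr)
    have := finrank_span_singleton_le (F := F) e
    omega
  have hQf : D.Q (k.1 e) = 0 := by simpa using he
  obtain ⟨u, hu, heu, hQu⟩ : ∃ u ∈ zs H (k.1 e), D.B e u = 0 ∧ D.Q u ≠ 0 :=
    ⟨k.1 u₀ + (-(D.B e (k.1 u₀) / D.B e (k.1 e))) • k.1 e,
      add_mem (map_mem_zs (hΦ _ hu₀) hk) (smul_mem_zs hQf _), by simp [hf], by
        rw [D.Q_add_smul hQf]
        simpa [D.eq_zero_symm (hΦ _ hu₀).1] using hQ₀⟩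
  generalize k.1 e = f at hf hQf hu
  set g := sg D f u
  have hee := D.B_self_of_Q he
  have hf' := D.ne_zero_symm hf
  have hg : g.1 e = e - D.B f e • (u + D.Q u • f) := by
    simp [g, sg_apply hQf hu.1, D.eq_zero_symm heu]
  have h2 : D.B e (g.1 e) ≠ 0 := by simp [hg, hee, heu, hf, hf', hQu]
  have hQg : D.Q (g.1 e) = 0 := by simpa using he
  set Z := Φ ⊔ F ∙ g.1 e
  have hZ : ∀ z ∈ Z, ∃ x ∈ Φ, ∃ b : F, z = x + b • g.1 e := fun z hz => by
    obtain ⟨x, hx, y, hy, rfl⟩ := Submodule.mem_sup.1 hz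
    obtain ⟨b, rfl⟩ := Submodule.mem_span_singleton.1 hy
    exact ⟨x, hx, b, rfl⟩
  have hZ' : ∀ z ∈ Z, D.B e z = 0 → z ∈ Φ := fun z hz h => by
    obtain ⟨x, hx, b, rfl⟩ := hZ z hz
    obtain rfl : b = 0 := by simpa [(hΦ x hx).1, h2] using h
    simpa using hx
  have heZ : e ∈ Z := Submodule.mem_sup_left heΦ
  have hgZ : g.1 e ∈ Z := Submodule.mem_sup_right (Submodule.mem_span_singleton_self _)
  have hd : Disjoint Z (D.perp Z) := Submodule.disjoint_def.2 fun z hz hz' => by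
    obtain ⟨a, rfl⟩ := Submodule.mem_span_singleton.1
      (hr ⟨hZ' z hz (hz' e heZ), D.perp_anti le_sup_left hz'⟩)
    simpa [D.ne_zero_symm h2, h0] using hz' _ hgZ
  have h3 : finrank F Z = finrank F Φ + 1 :=
    Submodule.finrank_sup_span_singleton fun h => h2 (hΦ _ h).1
  set φ := D.B u - (D.B u (g.1 e) / D.B e (g.1 e)) • D.B e
  have h4 := finrank_le_inf_ker Z φ
  have heY : e ∈ Z ⊓ LinearMap.ker φ := ⟨heZ, by simp [φ, hee, D.eq_zero_symm heu]⟩
  have hgY : g.1 e ∈ Z ⊓ LinearMap.ker φ := ⟨hgZ, by simp [φ, h2]⟩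
  have hF : D.Full H (Z ⊓ LinearMap.ker φ) := At.full
    (at_of_zs fun z hz h => hΦ z (hZ' z hz.1 h)) (at_of_zs fun z hz h => by
      obtain ⟨x, hx, b, rfl⟩ := hZ z hz.1
      have h5 : D.B u x = 0 := by
        have := hz.2
        rw [SetLike.mem_coe, LinearMap.mem_ker, map_add, map_smul, hgY.2] at this
        simpa [φ, (hΦ x hx).1] using this
      have h6 : D.B f x = 0 := by
        rw [B_add_right, B_smul_right, D.B_self_of_Q hQg, hg] at h
        simpa [(hΦ x hx).1, h5, hf', hQu] using h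
      have := map_mem_zs (add_mem (hΦ x hx) (smul_mem_zs he b)) hu.2
      rwa [map_add, map_smul, sg_fix h6 h5] at this) heY hgY he hQg h2
  obtain ⟨U, hU, hM⟩ := hF.exists_maxFull
  have hR : D.RichOn U := Or.inr ((wide_of_le hD inf_le_left hd (by omega)).mono hU le_rfl)
  have hZU : Z ≤ U := sup_le (fun z hz => hM.mem_of_zSet hR (hU heY) he
    (fun h => h2 (D.eq_zero_symm (h _ (hU hgY)))) fun t =>
      (mem_zSet_iff he).2 (hΦ _ (Φ.smul_mem t hz)))
    ((Submodule.span_singleton_le_iff_mem _ _).2 (hU hgY))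
  have h5 := Submodule.finrank_mono hZU
  have h6 := hD.finrank_perp U
  by_cases h7 : finrank F V ≤ finrank F U
  · rw [Submodule.eq_top_of_finrank_eq (le_antisymm U.finrank_le h7)] at hM
    exact Or.inl (hM.full.E_le hD)
  right
  by_cases h8 : finrank F V ≤ finrank F U + 1
  · have h9 := le_stab_of_maxFull hD hn hM hR (Or.inl h8)
    obtain ⟨r, hr, hr0⟩ := exists_ne_zero_of_finrank_pos (U := D.perp U) (by omega)
    rw [← hD.stab_perp, ← Submodule.eq_of_le_of_finrank_eq ((Submodule.span_singleton_le_iff_mem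
      _ _).2 hr) (by rw [finrank_span_singleton hr0]; omega)] at h9
    by_cases hQ : D.Q r = 0
    · exact Or.inl (nsv_le_of_isTS hD hn (isTS_span_singleton hQ) (by simpa using hr0) h9)
    · exact Or.inr (nsBound_of_le_stab hD (by omega) hQ h9)
  obtain rfl : Z = U := Submodule.eq_of_le_of_finrank_le hZU (by omega)
  have h9 := le_stab_of_maxFull hD hn hM hR (Or.inr ⟨by omega, hd⟩)
  rw [← hD.stab_perp] at h9
  refine Or.inl (nsv_le_of_plane hD (by omega) (by omega) (hD.disjoint_perp hd)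
    (c := c + (-(D.B (g.1 e) c / D.B (g.1 e) e)) • e) (fun z hz => ?_) (fun h => hce ?_)
    (by rw [D.Q_add_smul he]; simp [hc, D.eq_zero_symm (hcΦ e heΦ)]) h9)
  · obtain ⟨x, hx, b, rfl⟩ := hZ z hz
    simp [hcΦ x hx, D.eq_zero_symm (hΦ x hx).1, D.ne_zero_symm h2]
  · rw [eq_neg_of_add_eq_zero_left h]
    exact neg_mem (Submodule.smul_mem _ _ (Submodule.mem_span_singleton_self e))

end Cfsg.Lib.Forms.MI
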