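import Cfsg.Agent.Lib.MinIdx.O2

/-!
Minimal index of orthogonal groups, III: the basic inequality at a totally singular line.
-/

set_option autoImplicit false

namespace Cfsg.Lib.Forms.MI

open Module Form

universe u

section Gen
variable {F : Type*} [Field F] {σ : F →+* F} {K : Kind σ} {V : Type*} [AddCommGroup V]
  [Module F V] {D : Form K V}

variable (D) in
/-- Isometries stabilising `A` and moving the vectors of `B` by vectors of `A`. -/
def tr2 (A B : Submodule F V) : Subgroup D.isom where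
  carrier := {g | g ∈ D.stab A ∧ ∀ x ∈ B, g.1 x - x ∈ A}
  one_mem' := ⟨one_mem _, by simp⟩
  mul_mem' := fun {g k} hg hk => ⟨mul_mem hg.1 hk.1, fun x hx => by
    simpa [isom_mul_apply] using add_mem (stab_mem hg.1 (hk.2 x hx)) (hg.2 x hx)⟩
  inv_mem' := fun {g} hg => ⟨inv_mem hg.1, fun x hx => by
    simpa [isom_inv_apply] using neg_mem (stab_inv_mem hg.1 (hg.2 x hx))⟩

theorem conj_mem_tr2 {A B : Submodule F V} {g k : D.isom} (hA : g ∈ D.stab A) (hB : g ∈ D.stab B)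
    (hk : k ∈ tr2 D A B) : g * k * g⁻¹ ∈ tr2 D A B :=
  ⟨mul_mem (mul_mem hA hk.1) (inv_mem hA), fun x hx => by
    simpa [isom_mul_apply, isom_apply_inv] using stab_mem hA (hk.2 _ (stab_inv_mem hB hx))⟩

theorem mem_tr2_of_le [FiniteDimensional F V] {A B : Submodule F V} (h : A ≤ B) {g : D.isom}
    (hg : ∀ x ∈ B, g.1 x - x ∈ A) : g ∈ tr2 D A B :=
  ⟨mem_stab_of_mapsTo _ fun x hx => by simpa using add_mem (hg x (h hx)) hx, hg⟩

theorem tr2_le_stab [FiniteDimensional F V] {A B C : Submodule F V} (h : A ≤ C) (h' : C ≤ B) :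
    tr2 D A B ≤ D.stab C := fun _ hg =>
  mem_stab_of_mapsTo _ fun x hx => by simpa using add_mem (h (hg.2 x (h' hx))) hx

/-- The largest subspace inside an additive subgroup. -/
def subCore (F : Type*) [Field F] [Module F V] (W : AddSubgroup V) : Submodule F V where
  carrier := {x | ∀ t : F, t • x ∈ W}
  zero_mem' := fun t => by simp
  add_mem' := fun h h' t => by simpa using add_mem (h t) (h' t)
  smul_mem' := fun c x h t => by simpa [smul_smul] using h (t * c)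

theorem mem_subCore {W : AddSubgroup V} {x : V} : x ∈ subCore F W ↔ ∀ t : F, t • x ∈ W := Iff.rfl

theorem mem_of_subCore {W : AddSubgroup V} {x : V} (h : x ∈ subCore F W) : x ∈ W := by
  simpa using h 1

end Gen

/-- The squares. -/
abbrev sqs (F : Type*) [Field F] : Subgroup Fˣ := (powMonoidHom 2 : Fˣ →* Fˣ).range

theorem card_sqs (F : Type*) [Field F] [Finite F] :
    (Odd (Nat.card F) → Nat.card F = 2 * Nat.card (sqs F) + 1) ∧
      (¬ Odd (Nat.card F) → Nat.card F = Nat.card (sqs F) + 1) := by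
  have h1 := IsCyclic.card_powMonoidHom_range Fˣ 2
  have h2 := Nat.card_units F
  have h3 := two_le_card (F := F)
  rw [h2] at h1
  refine ⟨fun ⟨k, hk⟩ => ?_, fun h => ?_⟩
  · rw [h1, Nat.gcd_eq_right ⟨k, by omega⟩]
    omega
  · rw [h1, Nat.Coprime.gcd_eq_one (Nat.coprime_two_right.2 ?_)]
    · omega
    · rw [Nat.not_odd_iff_even] at h
      exact Nat.Even.sub_odd (by omega) h odd_one

theorem le_mul_of_sqs {F : Type*} [Field F] [Finite F] {κ γ : ℕ} (h1 : Nat.card (sqs F) + 1 ≤ κ)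
    (h2 : γ ∣ Nat.card F) (h3 : γ ≠ 1) : Nat.card F + 2 ≤ κ * γ := by
  have h4 := two_le_card (F := F)
  have h5 : γ ≠ 0 := fun h => by simp [h] at h2; omega
  by_cases h : Odd (Nat.card F)
  · have h6 := (card_sqs F).1 h
    have h7 : γ ≠ 2 := fun h' => by subst h'; omega
    exact le_trans (by omega) (Nat.mul_le_mul h1 (show 3 ≤ γ by omega))
  · have h6 := (card_sqs F).2 h
    exact le_trans (by omega) (Nat.mul_le_mul h1 (show 2 ≤ γ by omega))

variable {F : Type*} [Field F] {V : Type u} [AddCommGroup V] [Module F V]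
  {D : Form (quadKind F) V} {H : Subgroup D.isom} {e b : V}

variable (D) in
/-- A flag (point, totally singular line). -/
structure Fl (e b : V) : Prop where
  he : D.Q e = 0
  hb : D.Q b = 0
  heb : D.B e b = 0
  ne : e ≠ 0
  nb : b ∉ F ∙ e

variable (F) in
/-- The line spanned by two vectors. -/
abbrev ln (e b : V) : Submodule F V := Submodule.span F {e, b}

theorem left_mem_ln : e ∈ ln F e b := Submodule.subset_span (by simp)
theorem right_mem_ln : b ∈ ln F e b := Submodule.subset_span (by simp)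
theorem ln_comm : ln F e b = ln F b e := by rw [ln, Set.pair_comm]
theorem hp_comm : D.hp e b = D.hp b e := by ext; simp [mem_hp, and_comm]
theorem span_le_ln : F ∙ e ≤ ln F e b := (Submodule.span_singleton_le_iff_mem _ _).2 left_mem_ln
theorem smul_mem_span (c : F) (e : V) : c • e ∈ F ∙ e :=
  Submodule.smul_mem _ _ (Submodule.mem_span_singleton_self e)

namespace Fl
variable (h : Fl D e b)
include h

theorem b_ne : b ≠ 0 := fun h' => h.nb (h' ▸ zero_mem _)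

theorem symm : Fl D b e := ⟨h.hb, h.he, D.eq_zero_symm h.heb, h.b_ne, fun h' => by
  obtain ⟨c, rfl⟩ := Submodule.mem_span_singleton.1 h'
  have hc : c ≠ 0 := fun hc => h.ne (by simp [hc])
  simpa [smul_smul, hc, h.nb] using smul_mem_span c⁻¹ (c • b)⟩

theorem ee : D.B e e = 0 := D.B_self_of_Q h.he
theorem bb : D.B b b = 0 := D.B_self_of_Q h.hb
theorem be : D.B b e = 0 := D.eq_zero_symm h.heb

theorem isTS : D.IsTS (ln F e b) := isTS_quad fun x hx => by
  obtain ⟨s, t, rfl⟩ := Submodule.mem_span_pair.1 hx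
  simp [quad_Q_add, quad_Q_smul, h.he, h.hb, h.heb]

theorem le_hp : ln F e b ≤ D.hp e b := h.isTS.le_perp

theorem finrank_ln [FiniteDimensional F V] : finrank F (ln F e b) = 2 := by
  rw [ln, Submodule.span_insert, Submodule.finrank_sup_span_singleton h.nb,
    finrank_span_singleton h.ne]

theorem finrank_hp [FiniteDimensional F V] (hD : D.Nondeg) :
    finrank F (D.hp e b) + 2 = finrank F V := by
  rw [← hD.finrank_perp (ln F e b), h.finrank_ln, add_comm]; rfl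

omit h in
theorem perp_hp [FiniteDimensional F V] (hD : D.Nondeg) : D.perp (D.hp e b) = ln F e b :=
  hD.perp_perp _

theorem wide [FiniteDimensional F V] (hD : D.Nondeg) {k : ℕ} (hk : 4 + k ≤ finrank F V) :
    D.Wide (D.hp e b) k := h.isTS.wide_perp hD (by rw [h.finrank_ln]; omega)

theorem of_mem {x : V} (hx : x ∈ ln F e b) (hx' : x ∉ F ∙ e) : Fl D e x :=
  ⟨h.he, h.isTS.1 x hx, h.isTS.2 e left_mem_ln x hx, h.ne, hx'⟩

theorem sg_add_left {z : V} (hz : z ∈ D.hp e b) (c : F) :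
    sg D (b + c • e) z = sg D e (c • z + (c * D.Q z) • b) * sg D b z := isom_ext fun x => by
  obtain ⟨h1, h2⟩ := (mem_hp D).1 hz
  rw [isom_mul_apply, sg_apply h.hb h2, sg_apply h.he (by simp [h1, h.heb]),
    sg_apply (by simp [quad_Q_add, quad_Q_smul, h.he, h.hb, h.be]) (by simp [h1, h2])]
  simp only [map_add, map_sub, map_smul, LinearMap.add_apply, LinearMap.smul_apply, smul_eq_mul,
    quad_Q_add, quad_Q_smul, h.hb, h.heb, h.bb, h1, h2, D.eq_zero_symm h2, quad_B_self D z]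
  module

omit h in
theorem sg_comm {z : V} (y : V) (hbe : D.B b e = 0) (hz : z ∈ D.hp e b) :
    sg D b z * sg D e y = sg D e ((sg D b z).1 y) * sg D b z := by
  have := conj_sg (sg D b z) e y
  rw [sg_fix hbe (D.eq_zero_symm ((mem_hp D).1 hz).1)] at this
  rw [← this, inv_mul_cancel_right]

theorem B_sg {z : V} (hz : z ∈ D.hp e b) (y : V) : D.B e ((sg D b z).1 y) = D.B e y := by
  simp [sg_apply h.hb ((mem_hp D).1 hz).2, h.heb, ((mem_hp D).1 hz).1]

theorem sg_mul {y y' z z' : V} (hy : D.B e y = 0) (hy' : D.B e y' = 0) (hz : z ∈ D.hp e b)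
    (hz' : z' ∈ D.hp e b) : sg D e y * sg D b z * (sg D e y' * sg D b z') =
      sg D e (y + (sg D b z).1 y') * sg D b (z + z') := by
  rw [sg_add hy (by rw [h.B_sg hz, hy']), sg_add ((mem_hp D).1 hz).2 ((mem_hp D).1 hz').2,
    mul_assoc, ← mul_assoc (sg D b z), sg_comm _ h.be hz]
  simp only [mul_assoc]

theorem sg_inv {y z : V} (hy : D.B e y = 0) (hz : z ∈ D.hp e b) :
    (sg D e y * sg D b z)⁻¹ = sg D e ((sg D b (-z)).1 (-y)) * sg D b (-z) := by
  rw [mul_inv_rev, ← sg_neg hy, ← sg_neg ((mem_hp D).1 hz).2, sg_comm _ h.be (neg_mem hz)]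

theorem sg_ln (s t : F) : sg D b (s • e + t • b) = sg D e (-(s • b)) := by
  rw [sg_add_smul h.hb, sg_swap h.hb h.he h.be]

end Fl

variable (D) in
/-- The stabiliser of `e` and of `b` modulo `e`. -/
def p1 (e b : V) : Subgroup D.isom := D.E ⊓ D.fix (F ∙ e) ⊓ tr2 D (F ∙ e) (F ∙ b)

theorem mem_p1 {g : D.isom} : g ∈ p1 D e b ↔ g ∈ D.E ∧ g.1 e = e ∧ g.1 b - b ∈ F ∙ e := by
  refine ⟨fun h => ⟨h.1.1, h.1.2 e (Submodule.mem_span_singleton_self e),
    h.2.2 b (Submodule.mem_span_singleton_self b)⟩, fun ⟨h1, h2, h3⟩ => ?_⟩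
  have h4 : g ∈ D.fix (F ∙ e) := by simpa [mem_fix_span] using h2
  refine ⟨⟨h1, h4⟩, fix_le_stab _ _ h4, fun x hx => ?_⟩
  obtain ⟨c, rfl⟩ := Submodule.mem_span_singleton.1 hx
  simpa [smul_sub] using Submodule.smul_mem _ c h3

theorem stab_ln [FiniteDimensional F V] {g : D.isom} (h1 : g.1 e = e) (h2 : g.1 b - b ∈ F ∙ e) :
    g ∈ D.stab (ln F e b) := mem_stab_of_mapsTo _ fun x hx => by
  obtain ⟨s, t, rfl⟩ := Submodule.mem_span_pair.1 hx
  rw [map_add, map_smul, map_smul, h1, ← sub_add_cancel (g.1 b) b]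
  exact add_mem (Submodule.smul_mem _ _ left_mem_ln)
    (Submodule.smul_mem _ _ (add_mem (span_le_ln h2) right_mem_ln))

theorem stab_hp [FiniteDimensional F V] {g : D.isom} (h1 : g.1 e = e) (h2 : g.1 b - b ∈ F ∙ e) :
    g ∈ D.stab (D.hp e b) := stab_le_stab_perp _ _ (stab_ln h1 h2)

theorem sg_mem_p1 {a u : V} (ha : a ∈ D.hp e b) (hu : u ∈ D.hp e b) : sg D a u ∈ p1 D e b := by
  obtain ⟨h1, h2⟩ := (mem_hp D).1 ha
  obtain ⟨h3, h4⟩ := (mem_hp D).1 hu
  exact mem_p1.2 ⟨sg_mem_E _ _, sg_fix (D.eq_zero_symm h1) (D.eq_zero_symm h3), by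
    simp [sg_fix (D.eq_zero_symm h2) (D.eq_zero_symm h4)]⟩

/-- `H` covers the Eichler group of `ℓ^⊥ / ℓ`. -/
def Lift (H : Subgroup D.isom) (e b : V) : Prop :=
  ∀ a ∈ D.hp e b, ∀ u ∈ D.hp e b, D.Q a = 0 → D.B a u = 0 → ∃ g ∈ H, g.1 e = e ∧
    g.1 b - b ∈ F ∙ e ∧ ∀ x ∈ D.hp e b, g.1 x - (sg D a u).1 x ∈ ln F e b

/-- `H ∩ Q_e` induces all the transvections of the line. -/
def Gam (H : Subgroup D.isom) (e b : V) : Prop := ∀ x, ∃ y ∈ zs H e, D.B b y = x

/-- The root group of the line is not in `H`. -/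
def NotL (H : Subgroup D.isom) (e b : V) : Prop := ∃ t : F, t • b ∉ zs H e

theorem NotL.symm (h : NotL H e b) (hf : Fl D e b) : NotL H b e := by
  obtain ⟨t, ht⟩ := h
  exact ⟨t, fun h => ht (swap_mem_zs hf.hb hf.he (fun h0 => ht (by simp [h0])) h)⟩

/-- The first group of vectors. -/
def w1 (H : Subgroup D.isom) (e b : V) : AddSubgroup V :=
  (zs H e ⊓ (D.hp e b).toAddSubgroup) ⊔ (ln F e b).toAddSubgroup

theorem mem_w1 {x : V} : x ∈ w1 H e b ↔ ∃ y ∈ zs H e, y ∈ D.hp e b ∧ x - y ∈ ln F e b :=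
  AddSubgroup.mem_sup.trans ⟨fun ⟨y, hy, z, hz, h⟩ => ⟨y, hy.1, hy.2, by simpa [← h] using hz⟩,
    fun ⟨y, h1, h2, h3⟩ => ⟨y, ⟨h1, h2⟩, _, h3, by simp⟩⟩

theorem ln_le_w1 {x : V} (hx : x ∈ ln F e b) : x ∈ w1 H e b := AddSubgroup.mem_sup_right hx

theorem w1_le (h : Fl D e b) {x : V} (hx : x ∈ w1 H e b) : x ∈ D.hp e b :=
  (sup_le inf_le_right h.le_hp : w1 H e b ≤ (D.hp e b).toAddSubgroup) hx

/-- The second group of vectors. -/
def w2 (H : Subgroup D.isom) (h : Fl D e b) : AddSubgroup V where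
  carrier := {z | z ∈ D.hp e b ∧ ∃ y, D.B e y = 0 ∧ sg D e y * sg D b z ∈ H}
  zero_mem' := ⟨zero_mem _, 0, by simp, by simp [sg_zero]⟩
  add_mem' := fun ⟨h1, y, h2, h3⟩ ⟨h4, y', h5, h6⟩ => ⟨add_mem h1 h4, _,
    by simp [h2, h.B_sg h1, h5], h.sg_mul h2 h5 h1 h4 ▸ H.mul_mem h3 h6⟩
  neg_mem' := fun ⟨h1, y, h2, h3⟩ => ⟨neg_mem h1, _, by rw [h.B_sg (neg_mem h1)]; simp [h2],
    h.sg_inv h2 h1 ▸ H.inv_mem h3⟩

theorem ln_le_w2 (h : Fl D e b) {x : V} (hx : x ∈ ln F e b) : x ∈ w2 H h := by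
  obtain ⟨s, t, rfl⟩ := Submodule.mem_span_pair.1 hx
  refine ⟨h.le_hp hx, s • b, by simp [h.heb], ?_⟩
  rw [h.sg_ln, sg_neg (by simp [h.heb]), mul_inv_cancel]
  exact H.one_mem

theorem w1_le_w2 (h : Fl D e b) {x : V} (hx : x ∈ w1 H b e) : x ∈ w2 H h := by
  obtain ⟨y, h1, h2, h3⟩ := mem_w1.1 hx
  rw [← sub_add_cancel x y]
  exact add_mem (ln_le_w2 h (by rwa [ln_comm])) ⟨hp_comm (D := D) ▸ h2, 0, by simp, by simpa [sg_zero] using h1.2⟩

theorem sub_mem_zs (h : Fl D e b) {y z : V} (hy : y ∈ zs H e) (hz : z ∈ w2 H h) :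
    D.B z y • b - D.B b y • (z + D.Q z • b) ∈ zs H e := by
  obtain ⟨h1, y₀, h2, h3⟩ := hz
  have h4 := map_mem_zs' hy h3 (by
    rw [isom_mul_apply, sg_fix h.be (D.eq_zero_symm ((mem_hp D).1 h1).1), sg_self])
  rw [isom_mul_apply, sg_apply_perp h.he h2 (by rw [h.B_sg h1, hy.1])] at h4
  have h5 := sub_mem ((AddSubgroup.add_mem_cancel_right _ (smul_mem_zs h.he _)).1 h4) hy
  rw [sg_apply h.hb ((mem_hp D).1 h1).2] at h5
  convert h5 using 1
  abel

theorem smul_mem_w1 (h : Fl D e b) {y z : V} (hy : y ∈ zs H e) (hz : z ∈ w2 H h) :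
    D.B b y • z ∈ w1 H e b := by
  obtain ⟨h1, h2⟩ := (mem_hp D).1 hz.1
  refine mem_w1.2 ⟨_, neg_mem (sub_mem_zs h hy hz), by simp [mem_hp, h1, h2, h.heb, h.bb], ?_⟩
  convert Submodule.smul_mem _ (D.B z y - D.B b y * D.Q z) (right_mem_ln (e := e) (b := b)) using 1
  module

theorem pair_mem_zs (h : Fl D e b) {y z : V} (hz : z ∈ w2 H h) (hy : y ∈ w1 H e b) :
    D.B z y • b ∈ zs H e := by
  obtain ⟨x, h1, h2, h3⟩ := mem_w1.1 hy
  have h4 := D.eq_zero_symm (hz.1 _ h3)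
  rw [B_sub_right, sub_eq_zero] at h4
  simpa [h4, ((mem_hp D).1 h2).2] using sub_mem_zs h h1 hz

variable [FiniteDimensional F V]

theorem map_mem_w1 {g : D.isom} (hg : g ∈ H) (h1 : g.1 e = e) (h2 : g.1 b - b ∈ F ∙ e) {x : V}
    (hx : x ∈ w1 H e b) : g.1 x ∈ w1 H e b := by
  obtain ⟨y, h3, h4, h5⟩ := mem_w1.1 hx
  exact mem_w1.2 ⟨_, map_mem_zs' h3 hg h1, stab_mem (stab_hp h1 h2) h4, by
    simpa using stab_mem (stab_ln h1 h2) h5⟩

theorem conj_pair (h : Fl D e b) {g : D.isom} (h1 : g.1 e = e) {c : F} (h2 : g.1 b = b + c • e)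
    {y z : V} (hy : D.B e y = 0) (hz : z ∈ D.hp e b) : g * (sg D e y * sg D b z) * g⁻¹ =
      sg D e (g.1 y + (c • g.1 z + (c * D.Q z) • b)) * sg D b (g.1 z) := by
  have h3 := stab_mem (stab_hp h1 (by simp [h2, smul_mem_span])) hz
  rw [sg_add (by rw [← h1]; simpa using hy) (by simp [h.heb, ((mem_hp D).1 h3).1]), mul_assoc (sg D e _),
    ← Q_isom g z, ← h.sg_add_left h3, ← h2, ← conj_sg, ← h1, ← conj_sg, h1]
  group

theorem map_mem_w2 (h : Fl D e b) {g : D.isom} (hg : g ∈ H) (h1 : g.1 e = e)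
    (h2 : g.1 b - b ∈ F ∙ e) {x : V} (hx : x ∈ w2 H h) : g.1 x ∈ w2 H h := by
  obtain ⟨h3, y, h4, h5⟩ := hx
  obtain ⟨c, hc⟩ := Submodule.mem_span_singleton.1 h2
  have h6 := stab_mem (stab_hp h1 h2) h3
  refine ⟨h6, _, ?_, conj_pair h h1 (eq_add_of_sub_eq' hc.symm) h4 h3 ▸
    H.mul_mem (H.mul_mem hg h5) (H.inv_mem hg)⟩
  have : D.B e (g.1 y) = 0 := by rw [← h1]; simpa using h4
  simp [this, h.heb, ((mem_hp D).1 h6).1]

omit [FiniteDimensional F V] in
theorem Lift.sg_mem (hL : Lift H e b) {W : AddSubgroup V} (h1 : ∀ x ∈ ln F e b, x ∈ W)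
    (h2 : ∀ x ∈ W, x ∈ D.hp e b)
    (h3 : ∀ g ∈ H, g.1 e = e → g.1 b - b ∈ F ∙ e → ∀ x ∈ W, g.1 x ∈ W) :
    ∀ a ∈ D.hp e b, ∀ u ∈ D.hp e b, D.Q a = 0 → D.B a u = 0 → ∀ x ∈ W, (sg D a u).1 x ∈ W :=
  fun a ha u hu hQ hB x hx => by
    obtain ⟨g, hg, h4, h5, h6⟩ := hL a ha u hu hQ hB
    simpa using sub_mem (h3 g hg h4 h5 x hx) (h1 _ (h6 x (h2 x hx)))

variable [Finite F] (hD : D.Nondeg) (hn : 7 ≤ finrank F V) (h : Fl D e b)
include hD hn h

theorem exists_sing_hp : ∃ a ∈ D.hp e b, D.Q a = 0 ∧ a ∉ ln F e b := by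
  obtain ⟨a, h1, h2, h3, -⟩ := (h.wide hD (k := 3) (by omega)).exists_sing (Quad.sing D) [] (by simp)
  exact ⟨a, h1, h3, Fl.perp_hp hD ▸ h2⟩

theorem hp_le_of_singular {A : Submodule F V}
    (hA : ∀ x ∈ D.hp e b, D.Q x = 0 → x ∉ ln F e b → x ∈ A) : D.hp e b ≤ A := by
  obtain ⟨a, h1, h2, h3⟩ := exists_sing_hp hD hn h
  exact le_of_singular h1 h2 (Fl.perp_hp hD ▸ h3) (Fl.perp_hp hD ▸ hA)

omit [Finite F] in
theorem exists_pair_hp {a : V} (ha : a ∈ D.hp e b) (hQ : D.Q a = 0) (ha' : a ∉ ln F e b) (c : F) :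
    ∃ u ∈ D.hp e b, ∃ u' ∈ D.hp e b, D.B a u = 0 ∧ D.B a u' = 0 ∧ D.B u u' = c := by
  obtain ⟨a', h1, h2⟩ := exists_isHyp_mem ha hQ (Fl.perp_hp hD ▸ ha')
  obtain ⟨u, hu, u', hu', h3⟩ := (h.wide hD (k := 3) (by omega)).exists_pair h2 ha h1 c
  exact ⟨u, hu.1, u', hu'.1, ((mem_hp D).1 hu.2).1, ((mem_hp D).1 hu'.2).1, h3⟩

theorem irr_hp {W : AddSubgroup V} (h2 : ∀ x ∈ W, x ∈ D.hp e b)
    (h3 : ∀ a ∈ D.hp e b, ∀ u ∈ D.hp e b, D.Q a = 0 → D.B a u = 0 → ∀ x ∈ W, (sg D a u).1 x ∈ W) :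
    (∀ x ∈ W, x ∈ ln F e b) ∨ ∀ x ∈ D.hp e b, x ∈ W := by
  have key : ∀ a ∈ D.hp e b, D.Q a = 0 → a ∉ ln F e b → ∀ x ∈ W, D.B a x ≠ 0 → a ∈ subCore F W :=
    fun a ha hQ ha' x hx hax t => by
      obtain ⟨u, hu, u', hu', h4, h5, h6⟩ := exists_pair_hp hD hn h ha hQ ha' (-t / D.B a x)
      have h7 := sub_mem (h3 a ha u' hu' hQ h5 x hx) hx
      have h8 := sub_mem (h3 a ha u hu hQ h4 _ h7) h7
      rw [sg_apply_perp hQ h4 (by simp [sg_apply hQ h5, h5, D.B_self_of_Q hQ]), add_sub_cancel_left,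
        sg_apply hQ h5] at h8
      convert h8 using 2
      simp [h6, D.eq_zero_symm h4]
      field_simp
  obtain ⟨a, h4, h5, h6⟩ := exists_sing_hp hD hn h
  rcases le_or_le_perp (U := subCore F W) h4 h5 (Fl.perp_hp hD ▸ h6) (fun x hx hQ hx' => by
    by_contra! h7
    exact h7.2 fun w hw => D.eq_zero_symm (by
      by_contra h8
      exact h7.1 (key x hx hQ (Fl.perp_hp hD ▸ hx') w (mem_of_subCore hw) h8))) with h7 | h7
  · exact Or.inr fun x hx => mem_of_subCore (h7 hx)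
  · refine Or.inl fun x hx => ?_
    rw [← Fl.perp_hp hD]
    refine fun w hw => D.eq_zero_symm (hp_le_of_singular hD hn h (A := LinearMap.ker (D.B x))
      (fun y hy hQ hy' => D.eq_zero_symm ?_) hw)
    by_contra h8
    exact hy' (Fl.perp_hp hD ▸ (D.le_perp_comm.1 h7) (key y hy hQ hy' x hx h8))

theorem pow_le_w (hN : NotL H e b) : Nat.card F ^ (finrank F V - 4) ≤
    (w2 H h).relIndex (D.hp e b).toAddSubgroup * (w1 H e b).relIndex (D.hp e b).toAddSubgroup := by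
  have := Module.finite_of_finite F (M := V)
  obtain ⟨t, ht⟩ := hN
  have h1 := relIndex_le_of_pairing (R := (ln F e b).toAddSubgroup) (W := w2 H h)
    (L := (D.hp e b).toAddSubgroup) (W' := w1 H e b) (AddMonoidHom.mk' (fun x => (D.B x).toAddMonoidHom)
      fun x y => by ext; simp)
    (A := (zs H e).comap (LinearMap.toSpanSingleton F V b).toAddMonoidHom)
    (fun h => ht (h.ge (AddSubgroup.mem_top t)))
    (fun x _ hx c => by
      obtain ⟨z, h1, h2⟩ := hD.exists_perp_B_eq' (H := ln F e b) hx c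
      exact ⟨z, h1, h2⟩) fun x hx y hy _ => pair_mem_zs h hx hy
  have h2 := AddSubgroup.relIndex_mul_relIndex (ln F e b).toAddSubgroup (w2 H h)
    (D.hp e b).toAddSubgroup (fun x => ln_le_w2 h) fun x hx => hx.1
  have h3 := h.finrank_hp hD
  rw [relIndex_submodule h.le_hp, h.finrank_ln, show finrank F (D.hp e b) - 2 = finrank F V - 4 by
    omega] at h2
  rw [← h2, mul_comm]
  exact Nat.mul_le_mul_left _ h1

theorem main_ineq (hN : NotL H e b) : ∃ κ γ : ℕ,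
    Nat.card F * (κ * ((w2 H h).relIndex (D.hp e b).toAddSubgroup *
      (γ * (w1 H e b).relIndex (D.hp e b).toAddSubgroup))) ≤ H.relIndex D.E ∧ κ ≠ 0 ∧
    γ ∣ Nat.card F ∧ (¬ Gam H e b → γ ≠ 1) ∧ (¬ Lift H e b → Nat.card (sqs F) + 1 ≤ κ) ∧
    ∀ W : Submodule F V, ln F e b ≤ W → W ≤ D.hp e b →
      (∀ g ∈ H, g.1 e = e → g.1 b - b ∈ F ∙ e → g ∈ D.stab W) →
        (D.stab W).relIndex (p1 D e b) ≤ κ := by
  have := Module.finite_of_finite F (M := V)
  have := finite_isom (D := D)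
  set N := p1 D e b ⊓ tr2 D (ln F e b) (D.hp e b)
  obtain ⟨R, hR, hR'⟩ := exists_qg e (D.perp (F ∙ e)).toAddSubgroup fun z =>
    (mem_perp_span_singleton D).1
  have hRN : R ≤ N := fun g hg => by
    obtain ⟨z, hz, rfl⟩ := (hR g).1 hg
    have hz' := (mem_perp_span_singleton D).1 hz
    exact ⟨mem_p1.2 ⟨sg_mem_E _ _, sg_self _ _, by
      simp [sg_apply_perp h.he hz' h.heb, smul_mem_span]⟩, mem_tr2_of_le h.le_hp fun x hx => by
        simp [sg_apply_perp h.he hz' ((mem_hp D).1 hx).1, Submodule.smul_mem, left_mem_ln]⟩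
  obtain ⟨b', hb', hbb'⟩ := hD.exists_partner h.hb h.nb ((mem_perp_span_singleton D).2 h.heb) 1
    one_ne_zero
  have hyp : D.IsHyp b b' := ⟨h.hb, hbb'.1, hbb'.2⟩
  have heb' := (mem_perp_span_singleton D).1 hb'
  set Γ := (zs H e).map (D.B b).toAddMonoidHom
  set A := (zs H e).comap (LinearMap.toSpanSingleton F V b).toAddMonoidHom
  have hA : A ≠ ⊤ := fun h => hN.choose_spec (h.ge (AddSubgroup.mem_top _))
  have h1 := relIndex_mul_le (H := H) (K := H ⊓ p1 D e b ⊔ N) (inf_le_left : N ≤ _) le_sup_left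
    le_sup_right
  have h2 := relIndex_mul_le (H := H) (K := H ⊓ N ⊔ R) hRN le_sup_left le_sup_right
  have h3 : (w2 H h).relIndex (D.hp e b).toAddSubgroup ≤ (H ⊓ N ⊔ R).relIndex N := by
    refine le_trans (addRelIndex_anti _ ?_) (zs_le (e := b) (fun z hz => ((mem_hp D).1 hz).2) _
      fun z hz => ⟨sg_mem_p1 (h.le_hp right_mem_ln) hz, mem_tr2_of_le h.le_hp fun x hx => by
        simp [sg_apply_perp h.hb ((mem_hp D).1 hz).2 ((mem_hp D).1 hx).2, Submodule.smul_mem,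
          right_mem_ln]⟩)
    rintro z ⟨hz, hz'⟩
    obtain ⟨g, hg, k, hk, h4⟩ := mem_sup_of_conj (fun g hg k hk => by
      obtain ⟨y, hy, rfl⟩ := (hR k).1 hk
      have h5 := (mem_p1.1 hg.2.1).2.1
      refine (hR _).2 ⟨g.1 y, (mem_perp_span_singleton D).2 ?_, by rw [conj_sg, h5]⟩
      rw [← h5]
      simpa using (mem_perp_span_singleton D).1 hy) hz.2
    obtain ⟨y, hy, rfl⟩ := (hR k).1 hk
    have hy' := (mem_perp_span_singleton D).1 hy
    refine ⟨hz', (sg D b z).1 (-y), by rw [h.B_sg hz']; simp [hy'], ?_⟩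
    rw [← Fl.sg_comm _ h.be hz', h4, sg_neg hy', mul_inv_cancel_right]
    exact hg.1
  have h4 := addRelIndex_mul_le (H := zs H e) (K := Γ.comap (D.B b).toAddMonoidHom)
    (N := (D.hp e b).toAddSubgroup) (P := (D.perp (F ∙ e)).toAddSubgroup)
    (fun x hx => (mem_perp_span_singleton D).2 ((mem_hp D).1 hx).1)
    (inf_le_left.trans (AddSubgroup.le_comap_map _ _)) fun x hx => by
      simp [((mem_hp D).1 hx).2]
  have h5 : (D.perp (F ∙ e)).toAddSubgroup.map (D.B b).toAddMonoidHom = ⊤ :=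
    eq_top_iff.2 fun x _ => ⟨x • b', Submodule.smul_mem _ _ hb', by simp [hyp.B_ef]⟩
  rw [AddSubgroup.relIndex_comap, h5, AddSubgroup.relIndex_top_right] at h4
  have h6 := addRelIndex_mul_le (H := zs H e) (K := w1 H e b) (N := (ln F e b).toAddSubgroup)
    (P := (D.hp e b).toAddSubgroup) h.le_hp le_sup_left le_sup_right
  have h7 : A.index ≤ (zs H e).relIndex (ln F e b).toAddSubgroup := by
    rw [AddSubgroup.index_comap]
    refine addRelIndex_mono _ ?_
    rintro _ ⟨t, rfl⟩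
    exact Submodule.smul_mem _ _ right_mem_ln
  refine ⟨(H ⊓ p1 D e b ⊔ N).relIndex (p1 D e b), Γ.index, ?_, relIndex_ne_zero' _ _,
    Γ.index_dvd_card, fun hG h1 => hG fun x => (AddSubgroup.index_eq_one.1 h1).ge
      (AddSubgroup.mem_top x), fun hL => ?_, fun W h1 h2 h3 => relIndex_anti _ (inf_le_left.trans
        (sup_le (fun g hg => h3 g hg.1 (mem_p1.1 hg.2).2.1 (mem_p1.1 hg.2).2.2)
          (inf_le_right.trans (tr2_le_stab h1 h2))))⟩
  · have h8 := tau' (P := p1 D e b) (fun g hg => (mem_p1.1 hg).1) (fun t : F => sg D e (t • b)) hA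
      (fun t => and_iff_right (by simp [h.heb])) ⊤ (fun c _ => by
        obtain ⟨g, h1, -, h2⟩ := hyp.exists_torus hD c.ne_zero
        obtain ⟨k, hk, h3⟩ := (Quad.trans hD (by omega)).exists_eq_on hD (Y := ln F e b)
          (Quad.univ (h.wide hD (by omega))) g
        refine ⟨k, hk, fun t => ?_⟩
        rw [conj_sg, map_smul, h3 e left_mem_ln, h3 b right_mem_ln, h1,
          h2 e ((mem_hp D).2 ⟨h.be, D.eq_zero_symm heb'⟩), smul_smul, smul_eq_mul, mul_comm])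
      (fun g hg t => by
        obtain ⟨-, h1, h2⟩ := mem_p1.1 hg
        obtain ⟨c, hc⟩ := Submodule.mem_span_singleton.1 h2
        rw [conj_sg, h1, map_smul, eq_add_of_sub_eq' hc.symm, smul_add, smul_smul,
          sg_add_smul h.he])
      (X := (H ⊓ p1 D e b ⊔ N).relIndex (p1 D e b) * ((w2 H h).relIndex (D.hp e b).toAddSubgroup *
        (Γ.index * (w1 H e b).relIndex (D.hp e b).toAddSubgroup))) (by
        rw [mul_assoc, mul_assoc, mul_assoc]
        refine le_trans (Nat.mul_le_mul_left _ (le_trans (Nat.mul_le_mul h3 ?_) h2)) h1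
        rw [hR']
        exact le_trans (Nat.mul_le_mul_left _ ((Nat.mul_le_mul_left _ h7).trans h6)) h4)
    rwa [Subgroup.card_top, Nat.card_units, Nat.sub_add_cancel Nat.card_pos] at h8
  · simp only [Lift, not_forall] at hL
    obtain ⟨a, ha, u, hu, hQ, hB, hL⟩ := hL
    have h8 : sg D a u ∉ H ⊓ p1 D e b ⊔ N := fun h8 => by
      obtain ⟨g, hg, k, hk, h9⟩ := mem_sup_of_conj (H := H ⊓ p1 D e b) (N := N) (fun g hg k hk => ⟨(p1 D e b).mul_mem ((p1 D e b).mul_mem hg.2 hk.1)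
        ((p1 D e b).inv_mem hg.2), conj_mem_tr2 (stab_ln (mem_p1.1 hg.2).2.1 (mem_p1.1 hg.2).2.2)
          (stab_hp (mem_p1.1 hg.2).2.1 (mem_p1.1 hg.2).2.2) hk.2⟩) h8
      refine hL ⟨g, hg.1, (mem_p1.1 hg.2).2.1, (mem_p1.1 hg.2).2.2, fun x hx => ?_⟩
      simpa [h9, isom_mul_apply] using neg_mem
        (stab_mem (stab_ln (mem_p1.1 hg.2).2.1 (mem_p1.1 hg.2).2.2) (hk.2.2 x hx))
    have h9 : a ∉ ln F e b := fun h9 => h8 (Subgroup.mem_sup_right ⟨sg_mem_p1 ha hu,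
      mem_tr2_of_le h.le_hp fun x hx => by
        simpa [sg_apply_perp hQ hB (hx a h9)] using Submodule.smul_mem _ _ h9⟩)
    obtain ⟨a', ha', hya⟩ := exists_isHyp_mem ha hQ (Fl.perp_hp hD ▸ h9)
    have hadd : ∀ x y : F, sg D a ((x + y) • u) = sg D a (x • u) * sg D a (y • u) := fun x y => by
      rw [add_smul, sg_add (by simp [hB]) (by simp [hB])]
    obtain ⟨T, hT, hT'⟩ := exists_img (fun x : F => sg D a (x • u)) ⊤ fun x _ y _ => hadd x y
    have h10 : ∀ x : F, x ∈ (zs (H ⊓ p1 D e b ⊔ N) a).comap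
        (LinearMap.toSpanSingleton F V u).toAddMonoidHom ↔ sg D a (x • u) ∈ H ⊓ p1 D e b ⊔ N :=
      fun x => and_iff_right (by simp [hB])
    simpa using tau' (P := T) (E := p1 D e b) (fun g hg => by
        obtain ⟨x, -, rfl⟩ := (hT g).1 hg
        exact sg_mem_p1 ha (Submodule.smul_mem _ _ hu)) (fun x : F => sg D a (x • u))
      (fun h => h8 (by simpa using (h10 1).1 (h.ge (AddSubgroup.mem_top 1)))) h10 (sqs F) (by
        rintro _ ⟨c, rfl⟩
        obtain ⟨g, hg, h1, -, h2⟩ := exists_torus_sq hD (by omega) hya c.ne_zero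
        obtain ⟨w, hw, h3⟩ := hya.exists_comb u
        have h4 : ∀ x ∈ ln F e b, g.1 x = x := fun x hx =>
          h2 x ((mem_hp D).2 ⟨D.eq_zero_symm (ha x hx), D.eq_zero_symm (ha' x hx)⟩)
        refine ⟨g, mem_p1.2 ⟨hg, h4 e left_mem_ln, by simp [h4 b right_mem_ln]⟩, fun x => ?_⟩
        have h5 : D.B a (g.1 (x • u)) = 0 := by
          rw [B_isom_right, isom_inv_apply_eq.2 (show g.1 (((c : F) ^ 2)⁻¹ • a) = a by
            simp [h1, smul_smul])]
          simp [hB]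
        rw [conj_sg, h1, sg_smul_left hQ h5, ← sg_add_smul hQ _
          ((c : F) ^ 2 * x * (D.B a' u) * (1 - (c : F) ^ 2))]
        congr 1
        conv_lhs => rw [h3]
        conv_rhs => rw [h3]
        simp only [map_smul, map_add, h1, h2 w hw, hB, zero_smul, add_zero, quadKind_ε, one_mul,
          powMonoidHom_apply, Units.val_pow_eq_pow_val, smul_eq_mul, hya.B_fe, hya.B_ff,
          ((mem_hp D).1 hw).2]
        module) (fun g hg x => by
        obtain ⟨y, -, rfl⟩ := (hT g).1 hg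
        rw [← hadd, add_comm, hadd, mul_inv_cancel_right]) (X := 1) (by
        rw [hT' _ _ fun x _ => h10 x]
        simp)

end Cfsg.Lib.Forms.MI
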