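import Cfsg.Agent.Lib.MinIdx.O3

/-!
Minimal index of orthogonal groups, IV: subgroups covering the Levi factor of a line stabiliser.
-/

set_option autoImplicit false

namespace Cfsg.Lib.Forms.MI

open Module Form

universe u

variable {F : Type*} [Field F] {V : Type u} [AddCommGroup V] [Module F V]
  {D : Form (quadKind F) V} {H : Subgroup D.isom} {e b : V}

/-- The image of `H ∩ Q_ℓ` in `ℓ^⊥ × ℓ^⊥`. -/
def ww (H : Subgroup D.isom) (h : Fl D e b) : AddSubgroup (V × V) where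
  carrier := {p | p.1 ∈ D.hp e b ∧ p.2 ∈ D.hp e b ∧ ∃ t : F, sg D e (p.1 + t • b) * sg D b p.2 ∈ H}
  zero_mem' := ⟨zero_mem _, zero_mem _, 0, by simp [sg_zero]⟩
  add_mem' := by
    rintro p p' ⟨h1, h2, t, h3⟩ ⟨h4, h5, t', h6⟩
    refine ⟨add_mem h1 h4, add_mem h2 h5, t + t' + D.B p.2 p'.1, ?_⟩
    have := H.mul_mem h3 h6
    rw [h.sg_mul (by simp [((mem_hp D).1 h1).1, h.heb]) (by simp [((mem_hp D).1 h4).1, h.heb]) h2 h5,
      sg_apply_perp h.hb ((mem_hp D).1 h2).2 (by simp [((mem_hp D).1 h4).2, h.bb])] at this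
    rw [Prod.snd_add]
    convert this using 3
    simp only [Prod.fst_add, map_add, map_smul, D.eq_zero_symm ((mem_hp D).1 h2).2]
    module
  neg_mem' := by
    rintro p ⟨h1, h2, t, h3⟩
    refine ⟨neg_mem h1, neg_mem h2, D.B p.2 p.1 - t, ?_⟩
    have := H.inv_mem h3
    rw [h.sg_inv (by simp [((mem_hp D).1 h1).1, h.heb]) h2,
      sg_apply_perp h.hb (by simp [((mem_hp D).1 h2).2]) (by simp [((mem_hp D).1 h1).2, h.bb])] at this
    rw [Prod.snd_neg]
    convert this using 3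
    simp only [Prod.fst_neg, map_add, map_smul, map_neg, LinearMap.neg_apply,
      D.eq_zero_symm ((mem_hp D).1 h2).2]
    module

theorem ln_mem_ww (h : Fl D e b) {y z : V} (hy : y ∈ ln F e b) (hz : z ∈ ln F e b) :
    (y, z) ∈ ww H h := by
  refine ⟨h.le_hp hy, h.le_hp hz, ?_⟩
  obtain ⟨s, t, rfl⟩ := Submodule.mem_span_pair.1 hy
  obtain ⟨s', t', rfl⟩ := Submodule.mem_span_pair.1 hz
  refine ⟨s' - t, ?_⟩
  rw [show s • e + t • b + (s' - t) • b = s' • b + s • e by module, sg_add_smul h.he, h.sg_ln,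
    sg_neg (by simp [h.heb]), mul_inv_cancel]
  exact H.one_mem

theorem swap_mem_ww (h : Fl D e b) {y z : V} (hp : (y, z) ∈ ww H h.symm) : (z, y) ∈ ww H h := by
  obtain ⟨h1, h2, t, h3⟩ := hp
  rw [hp_comm] at h1 h2
  refine ⟨h2, h1, D.B y z - t, ?_⟩
  rw [sg_add ((mem_hp D).1 h1).2 (by simp [h.be]), sg_swap h.hb h.he h.be, mul_assoc,
    ← sg_add (by simp [h.heb]) ((mem_hp D).1 h2).1, Fl.sg_comm _ h.be h1,
    sg_apply_perp h.hb ((mem_hp D).1 h1).2 (by simp [((mem_hp D).1 h2).2, h.bb])] at h3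
  convert h3 using 3
  simp only [map_add, map_smul, map_neg, D.eq_zero_symm ((mem_hp D).1 h1).2]
  module

/-- `H ∩ Q_x = 1`. -/
def Triv (H : Subgroup D.isom) (x : V) : Prop := ∀ z ∈ zs H x, z ∈ F ∙ x

theorem Triv.eq_zero (hT : Triv H e) (h : Fl D e b) {t : F} (ht : sg D e (t • b) ∈ H) : t = 0 := by
  by_contra h0
  exact h.nb ((Submodule.smul_mem_iff _ h0).1 (hT _ ⟨by simp [h.heb], ht⟩))

theorem Triv.B_eq (hT : Triv H e) (h : Fl D e b) {p p' : V × V} (hp : p ∈ ww H h)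
    (hp' : p' ∈ ww H h) : D.B p.2 p'.1 = D.B p'.2 p.1 := by
  obtain ⟨h1, h2, t, h3⟩ := hp
  obtain ⟨h4, h5, t', h6⟩ := hp'
  have h7 : D.B e (p.1 + t • b) = 0 := by simp [((mem_hp D).1 h1).1, h.heb]
  have h8 : D.B e (p'.1 + t' • b) = 0 := by simp [((mem_hp D).1 h4).1, h.heb]
  have := H.mul_mem (H.mul_mem h3 h6) (H.inv_mem (H.mul_mem h6 h3))
  rw [h.sg_mul h7 h8 h2 h5, h.sg_mul h8 h7 h5 h2, add_comm p'.2, mul_inv_rev, mul_assoc,
    mul_inv_cancel_left, ← sg_neg (by rw [B_add_right, h.B_sg h5, h7, h8, add_zero]),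
    ← sg_add (by rw [B_add_right, h.B_sg h2, h7, h8, add_zero])
      (by rw [B_neg_right, B_add_right, h.B_sg h5, h7, h8, add_zero, neg_zero]),
    sg_apply_perp h.hb ((mem_hp D).1 h2).2 (by simp [((mem_hp D).1 h4).2, h.bb]),
    sg_apply_perp h.hb ((mem_hp D).1 h5).2 (by simp [((mem_hp D).1 h1).2, h.bb])] at this
  refine sub_eq_zero.1 (hT.eq_zero h ?_)
  convert this using 2
  simp only [map_add, map_smul, D.eq_zero_symm ((mem_hp D).1 h2).2,
    D.eq_zero_symm ((mem_hp D).1 h5).2]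
  module

theorem Triv.B_eq_zero (hT : Triv H e) (h : Fl D e b) (hF : (2 : F) = 0) {p : V × V}
    (hp : p ∈ ww H h) : D.B p.2 p.1 = 0 := by
  obtain ⟨h1, h2, t, h3⟩ := hp
  have h7 : D.B e (p.1 + t • b) = 0 := by simp [((mem_hp D).1 h1).1, h.heb]
  have h4 : ∀ x : V, x + x = 0 := fun x => by rw [← two_smul F, hF, zero_smul]
  have := H.mul_mem h3 h3
  rw [h.sg_mul h7 h7 h2 h2, h4, sg_zero, mul_one,
    sg_apply_perp h.hb ((mem_hp D).1 h2).2 (by simp [((mem_hp D).1 h1).2, h.bb]), ← add_assoc, h4,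
    zero_add] at this
  simpa [D.eq_zero_symm ((mem_hp D).1 h2).2] using hT.eq_zero h this

theorem Triv.fst_mem (hT : Triv H e) (h : Fl D e b) {p : V × V} (hp : p ∈ ww H h)
    (hz : p.2 ∈ ln F e b) : p.1 ∈ ln F e b := by
  obtain ⟨h1, -, t, h3⟩ := sub_mem hp (ln_mem_ww h (zero_mem _) hz)
  simp only [Prod.fst_sub, Prod.snd_sub, sub_zero, sub_self, sg_zero, mul_one] at h1 h3
  simpa using sub_mem (span_le_ln (b := b) (hT _ ⟨by simp [((mem_hp D).1 h1).1, h.heb], h3⟩))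
    (Submodule.smul_mem _ t right_mem_ln)

theorem Fl.add_smul (h : Fl D e b) (s : F) : Fl D e (b + s • e) :=
  h.of_mem (add_mem right_mem_ln (Submodule.smul_mem _ _ left_mem_ln)) fun h' =>
    h.nb ((Submodule.add_mem_iff_left _ (smul_mem_span s e)).1 h')

theorem snd_mem_ln (h : Fl D e b) {s : F} (hT : Triv H (b + s • e)) {y z : V} (hp : (y, z) ∈ ww H h)
    (hy : y - s • z ∈ ln F e b) : z ∈ ln F e b := by
  obtain ⟨-, h2, t, h3⟩ := sub_mem hp (ln_mem_ww h hy (zero_mem _))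
  simp only [Prod.fst_sub, Prod.snd_sub, sub_zero, sub_sub_cancel] at h2 h3
  obtain ⟨h4, h5⟩ := (mem_hp D).1 h2
  have hf := (h.add_smul s).symm
  have h6 : z + (s * D.Q z - t) • e ∈ zs H (b + s • e) := by
    refine ⟨by simp [h4, h5, h.be, h.ee], ?_⟩
    rw [add_comm z, sg_add (by simp [h.be, h.ee]) (by simp [h4, h5]), h.sg_add_left h2, ← mul_assoc,
      sg_swap hf.he h.he hf.heb, ← sg_add (by simp [h.heb, h.ee]) (by simp [h4, h.heb]),
      ← sg_add_smul h.he _ ((s * D.Q z - t) * s)]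
    convert h3 using 3
    module
  simpa using sub_mem ((Submodule.span_singleton_le_iff_mem _ (ln F e b)).2
    (add_mem right_mem_ln (Submodule.smul_mem _ s left_mem_ln)) (hT _ h6))
    (Submodule.smul_mem _ (s * D.Q z - t) left_mem_ln)

variable [FiniteDimensional F V]

theorem Lift.exists_ww (hL : Lift H e b) (h : Fl D e b) {a u : V} (ha : a ∈ D.hp e b)
    (hu : u ∈ D.hp e b) (hQ : D.Q a = 0) (hB : D.B a u = 0) : ∃ c : F, ∀ p ∈ ww H h,
      ((sg D a u).1 p.1 + c • (sg D a u).1 p.2, (sg D a u).1 p.2) ∈ ww H h := by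
  obtain ⟨g, hg, h1, h2, h3⟩ := hL a ha u hu hQ hB
  obtain ⟨c, hc⟩ := Submodule.mem_span_singleton.1 h2
  refine ⟨c, fun p ⟨h4, h5, t, h6⟩ => ?_⟩
  have h7 := stab_mem (stab_hp h1 h2) h4
  have h8 := stab_mem (stab_hp h1 h2) h5
  have h9 : (g.1 p.1 + c • g.1 p.2, g.1 p.2) ∈ ww H h := by
    refine ⟨add_mem h7 (Submodule.smul_mem _ _ h8), h8, t + c * D.Q p.2, ?_⟩
    have := H.mul_mem (H.mul_mem hg h6) (H.inv_mem hg)
    rw [conj_pair h h1 (eq_add_of_sub_eq' hc.symm) (by simp [((mem_hp D).1 h4).1, h.heb]) h5,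
      ← sg_add_smul h.he _ (-(t * c))] at this
    convert this using 3
    simp only [map_add, map_smul, eq_add_of_sub_eq' hc.symm]
    module
  convert sub_mem h9 (ln_mem_ww h (add_mem (h3 _ h4) (Submodule.smul_mem _ c (h3 _ h5))) (h3 _ h5))
    using 1
  ext
  · simp only [Prod.fst_sub]
    module
  · simp

variable [Finite F] (hD : D.Nondeg) (hn : 7 ≤ finrank F V) (h : Fl D e b)
include hD hn h

omit [Finite F] [FiniteDimensional F V] hD hn h in
theorem eq_zero_of_smul_mem {a : V} (ha' : a ∉ ln F e b) {c : F} (hc : c • a ∈ ln F e b) : c = 0 := by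
  by_contra h0
  exact ha' ((Submodule.smul_mem_iff _ h0).1 hc)

theorem exists_mem_ww (hL : Lift H e b) (hW : ∀ x ∈ D.hp e b, x ∈ w2 H h) :
    ∀ z ∈ D.hp e b, ∃ y, (y, z) ∈ ww H h := by
  let W := (ww H h).map (AddMonoidHom.snd V V)
  have h1 : ∀ x ∈ W, x ∈ D.hp e b := by
    rintro _ ⟨p, hp, rfl⟩
    exact hp.2.1
  rcases irr_hp hD hn h h1 (by
    rintro a ha u hu hQ hB _ ⟨p, hp, rfl⟩
    obtain ⟨c, hc⟩ := hL.exists_ww h ha hu hQ hB
    exact ⟨_, hc p hp, rfl⟩) with h2 | h2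
  · obtain ⟨a, ha, hQ, ha'⟩ := exists_sing_hp hD hn h
    obtain ⟨u, hu, z, hz, h3, h4, h5⟩ := exists_pair_hp hD hn h ha hQ ha' 1
    obtain ⟨g, hg, h6, h7, h8⟩ := hL a ha u hu hQ h3
    obtain ⟨c, hc⟩ := Submodule.mem_span_singleton.1 h7
    obtain ⟨-, y, h9, h10⟩ := hW z hz
    have h11 := stab_mem (stab_hp h6 h7) hz
    have h12 : D.B e (g.1 y) = 0 := by rw [← h6]; simpa using h9
    have h13 : D.B b (g.1 y) = D.B b y := by
      have := B_isom g b y
      rw [eq_add_of_sub_eq' hc.symm] at this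
      simpa [h12] using this
    have := H.mul_mem (H.mul_mem (H.mul_mem hg h10) (H.inv_mem hg)) (H.inv_mem h10)
    rw [conj_pair h h6 (eq_add_of_sub_eq' hc.symm) h9 hz, h.sg_inv h9 hz, h.sg_mul (by
      simp [h12, ((mem_hp D).1 h11).1, h.heb]) (by rw [h.B_sg (neg_mem hz)]; simp [h9]) h11
        (neg_mem hz)] at this
    have hb : ∀ {x : V}, x ∈ D.hp e b → ∀ w, D.B b ((sg D b x).1 w) = D.B b w := fun hx w => by
      rw [sg_eq h.hb ((mem_hp D).1 hx).2, B_eich]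
    have h14 := h2 _ ⟨(g.1 y + (c • g.1 z + (c * D.Q z) • b) + (sg D b (g.1 z)).1
      ((sg D b (-z)).1 (-y)), _), ⟨(mem_hp D).2 ⟨by
        rw [B_add_right, h.B_sg h11, h.B_sg (neg_mem hz)]
        simp [h12, ((mem_hp D).1 h11).1, h.heb, h9], by
        rw [B_add_right, hb h11, hb (neg_mem hz)]
        simp [((mem_hp D).1 h11).2, h13, h.bb]⟩, add_mem h11 (neg_mem hz), 0,
          by simpa using this⟩, rfl⟩
    have h15 := sub_mem h14 (h8 z hz)
    rw [sg_apply_perp hQ h3 h4, h5] at h15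
    exact absurd (by simpa using h15) ha'
  · intro z hz
    obtain ⟨p, hp, rfl⟩ := h2 z hz
    exact ⟨p.1, hp⟩

omit [Finite F] in
theorem B_eq_zero_of_ww (hL : Lift H e b) (hT : Triv H e) {a y : V} (hp : (y, a) ∈ ww H h)
    (hQ : D.Q a = 0) (ha' : a ∉ ln F e b) : D.B a y = 0 := by
  obtain ⟨u', hu', u, hu, h3, h4, h5⟩ := exists_pair_hp hD hn h hp.2.1 hQ ha' 1
  obtain ⟨c, hc⟩ := hL.exists_ww h hp.2.1 hu hQ h4
  have h6 := hT.fst_mem h (sub_mem (hc _ hp) hp) (by simp [sg_self])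
  have h7 := D.eq_zero_symm (hu' _ h6)
  simp only [Prod.fst_sub, sg_self] at h7
  simpa [sg_apply hQ h4, h5, D.eq_zero_symm h3] using h7

omit [Finite F] in
theorem star_mem (hL : Lift H e b) (hT : Triv H e) {a y : V} (hp : (y, a) ∈ ww H h)
    (hQ : D.Q a = 0) (ha' : a ∉ ln F e b) {u : V} (hu : u ∈ D.hp e b) (hB : D.B a u = 0)
    {y' z : V} (hp' : (y', z) ∈ ww H h) (h1 : D.B a z = 0) (h2 : D.B u z = 0) :
    D.B u y' • a - D.B a y' • (u + D.Q u • a) - D.B u y • z ∈ ln F e b := by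
  obtain ⟨c, hc⟩ := hL.exists_ww h hp.2.1 hu hQ hB
  have h3 := hT.fst_mem h (sub_mem (hc _ hp) hp) (by simp [sg_self])
  have h4 := hT.fst_mem h (sub_mem (hc _ hp') hp') (by simp [sg_fix h1 h2])
  simp only [Prod.fst_sub, sg_self, sg_apply_perp hQ hB (B_eq_zero_of_ww hD hn h hL hT hp hQ ha')]
    at h3
  rw [show y + D.B u y • a + c • a - y = (D.B u y + c) • a by module] at h3
  obtain rfl := eq_neg_of_add_eq_zero_right (eq_zero_of_smul_mem ha' h3)
  simp only [Prod.fst_sub, sg_fix h1 h2, sg_apply hQ hB y'] at h4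
  convert h4 using 1
  module

omit [Finite F] in
theorem B_eq_zero_of_ns (h8 : 8 ≤ finrank F V) (hL : Lift H e b) (hT : Triv H e)
    (hW : ∀ z ∈ D.hp e b, ∃ y, (y, z) ∈ ww H h) {a y : V} (hp : (y, a) ∈ ww H h)
    (hQ : D.Q a = 0) (ha' : a ∉ ln F e b) {u : V} (hu : u ∈ D.hp e b) (hB : D.B a u = 0)
    (hQu : D.Q u ≠ 0) : D.B u y = 0 := by
  by_cases hF : (2 : F) = 0
  · obtain ⟨y', hy'⟩ := hW u hu
    have h1 := star_mem hD hn h hL hT hp hQ ha' hu hB hy' hB (by simp [quad_B_self, hF])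
    rw [hT.B_eq_zero h hF hy', hT.B_eq h hp hy', show (0 : F) • a - D.B u y • (u + D.Q u • a) -
      D.B u y • u = (-(D.B u y * D.Q u)) • a - (2 * D.B u y) • u by module, hF] at h1
    simpa [hQu] using eq_zero_of_smul_mem ha' (by simpa using neg_mem h1 :
      (D.B u y * D.Q u) • a ∈ _)
  · have h1 := h.finrank_hp hD
    obtain ⟨z, hz, h2, h3⟩ := exists_not_mem_kers (D.hp e b) (ln F e b ⊔ F ∙ a) [D.B a, D.B u] (by
      rw [Submodule.finrank_sup_span_singleton ha', h.finrank_ln]; simp; omega)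
    simp only [List.mem_cons, List.not_mem_nil, or_false, forall_eq_or_imp, forall_eq] at h3
    obtain ⟨y', hy'⟩ := hW z hz
    have h4 := star_mem hD hn h hL hT hp hQ ha' hu hB hy' h3.1 h3.2
    have h5 : D.B a y' = 0 := by
      simpa [D.eq_zero_symm hB, h3.2, quad_B_self, hF, hQu] using D.eq_zero_symm (hu _ h4)
    by_contra h6
    refine h2 ((Submodule.smul_mem_iff _ h6).1 ?_)
    simpa [h5] using sub_mem (Submodule.mem_sup_right (smul_mem_span (D.B u y') a))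
      (Submodule.mem_sup_left h4)

omit [Finite F] [FiniteDimensional F V] hD hn h in
theorem perp_sup_span {a x : V} : x ∈ D.perp (ln F e b ⊔ F ∙ a) ↔ x ∈ D.hp e b ∧ D.B a x = 0 := by
  rw [perp_sup, Submodule.mem_inf, mem_perp_span_singleton]; rfl

omit [Finite F] [FiniteDimensional F V] hD hn in
theorem not_mem_of_ww (hT : ∀ x ∈ ln F e b, x ≠ 0 → Triv H x) {a y : V} (hp : (y, a) ∈ ww H h)
    (ha' : a ∉ ln F e b) : y ∉ ln F e b ⊔ F ∙ a := fun h1 => by
  obtain ⟨x, hx, z, hz, rfl⟩ := Submodule.mem_sup.1 h1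
  obtain ⟨s, rfl⟩ := Submodule.mem_span_singleton.1 hz
  exact ha' (snd_mem_ln h (hT _ (add_mem right_mem_ln (Submodule.smul_mem _ s left_mem_ln))
    (h.add_smul s).b_ne) hp (by simpa using hx))

omit [Finite F] in
theorem ww_two (h8 : 8 ≤ finrank F V) (hL : Lift H e b) (hT : ∀ x ∈ ln F e b, x ≠ 0 → Triv H x)
    (hW : ∀ z ∈ D.hp e b, ∃ y, (y, z) ∈ ww H h) {a y : V} (hp : (y, a) ∈ ww H h)
    (hQ : D.Q a = 0) (ha' : a ∉ ln F e b) : (∀ c : F, c ≠ 0 → c = 1) ∧ D.Q y ≠ 0 ∧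
      ∀ u ∈ D.hp e b, D.B a u = 0 → D.Q u ≠ 0 → u ∈ (ln F e b ⊔ F ∙ a) ⊔ F ∙ y := by
  have hT' := hT e left_mem_ln h.ne
  have h1 := not_mem_of_ww h hT hp ha'
  have h2 := B_eq_zero_of_ww hD hn h hL hT' hp hQ ha'
  have h3 := fun u hu => B_eq_zero_of_ns hD hn h h8 hL hT' hW hp hQ ha' (u := u) hu
  obtain ⟨w, hw, hwy⟩ := hD.exists_perp_B_eq h1 1
  rw [perp_sup_span] at hw
  have h4 : ∀ c : F, c ≠ 0 → ∀ z ∈ D.hp e b, D.B a z = 0 → D.B z y = 0 → D.Q (c • w + z) = 0 :=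
    fun c hc z hz h5 h6 => by
      by_contra h7
      simpa [hwy, h6, hc] using h3 _ (add_mem (Submodule.smul_mem _ c hw.1) hz) (by simp [hw.2, h5]) h7
  have h5 : D.Q w = 0 := by simpa using h4 1 one_ne_zero 0 (zero_mem _) (by simp) (by simp)
  simp only [quad_Q_add, quad_Q_smul, h5, mul_zero, zero_add, map_smul, LinearMap.smul_apply,
    smul_eq_mul] at h4
  have h6 := Submodule.finrank_sup_span_singleton ha'
  have h7 := Submodule.finrank_sup_span_singleton h1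
  rw [h.finrank_ln] at h6
  have h9 : ∀ c : F, c ≠ 0 → c = 1 := fun c hc => by
    by_contra h9
    have := (isTS_quad (U := D.perp (ln F e b ⊔ F ∙ a)) fun x hx => by
      rw [perp_sup_span] at hx
      have h10 := sub_mem hx.1 (Submodule.smul_mem _ (D.B x y) hw.1)
      have h11 := h4 c hc _ h10 (by simp [hx.2, hw.2]) (by simp [hwy])
      have h12 := h4 1 one_ne_zero _ h10 (by simp [hx.2, hw.2]) (by simp [hwy])
      have h13 : D.B w (x - D.B x y • w) = 0 := by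
        have : (c - 1) * D.B w (x - D.B x y • w) = 0 := by linear_combination h11 - h12
        simpa [sub_eq_zero, h9] using this
      rw [← sub_add_cancel x (D.B x y • w), quad_Q_add, quad_Q_smul, h5, B_smul_right,
        D.eq_zero_symm h13]
      simpa [h13] using h12).two_mul_finrank_le hD
    have := hD.finrank_perp (ln F e b ⊔ F ∙ a)
    omega
  have hF : (2 : F) = 0 := by
    have := h9 (-1) (by simp)
    linear_combination -this
  have h10 : ∀ x, x ∈ D.perp ((ln F e b ⊔ F ∙ a) ⊔ F ∙ y) ↔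
      x ∈ D.hp e b ∧ D.B a x = 0 ∧ D.B x y = 0 := fun x => by
    rw [perp_sup, Submodule.mem_inf, mem_perp_span_singleton, perp_sup_span, and_assoc,
      D.eq_zero_comm (x := y)]
  refine ⟨h9, fun h11 => ?_, fun u hu h11 h12 => ?_⟩
  · simpa [h11, hwy] using h4 1 one_ne_zero y hp.1 h2 (by simp [quad_B_self, hF])
  · rw [← hD.perp_perp (_ ⊔ F ∙ y)]
    intro x hx
    obtain ⟨h13, h14, h15⟩ := (h10 x).1 hx
    have h16 := h3 u hu h11 h12
    have h17 := h4 1 one_ne_zero _ (add_mem h13 hu) (by simp [h11, h14]) (by simp [h15, h16])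
    rw [quad_Q_add, B_add_right] at h17
    linear_combination h17 - h4 1 one_ne_zero _ h13 h14 h15 - h4 1 one_ne_zero _ hu h11 h16

theorem false_of_triv (hL : Lift H e b) (hL' : Lift H b e) (hT : ∀ x ∈ ln F e b, x ≠ 0 → Triv H x)
    (hW : ∀ x ∈ D.hp e b, x ∈ w2 H h) (hW' : ∀ x ∈ D.hp b e, x ∈ w2 H h.symm) : False := by
  have hT' := hT e left_mem_ln h.ne
  have h1 := exists_mem_ww hD hn h hL hW
  obtain ⟨a, ha, hQ, ha'⟩ := exists_sing_hp hD hn h
  obtain ⟨y, hy⟩ := h1 a ha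
  have h2 := B_eq_zero_of_ww hD hn h hL hT' hy hQ ha'
  have h3 := not_mem_of_ww h hT hy ha'
  rcases hn.eq_or_lt with h7 | h8
  · obtain ⟨z, hz⟩ := exists_mem_ww hD hn h.symm hL' hW' a (hp_comm (D := D) ▸ ha)
    have h4 := B_eq_zero_of_ww hD hn h.symm hL' (hT b right_mem_ln h.b_ne) hz hQ (by rwa [ln_comm])
    have h5 := not_mem_of_ww h.symm (by rwa [ln_comm]) hz (by rwa [ln_comm])
    have h6 := hT'.B_eq h (swap_mem_ww h hz) hy
    have h9 := Submodule.finrank_sup_span_singleton ha'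
    have h10 := Submodule.finrank_sup_span_singleton h3
    have h11 := hD.finrank_perp (ln F e b ⊔ F ∙ a)
    rw [h.finrank_ln] at h9
    have hS := h.isTS.sup_span hQ ha
    have hy' := perp_sup_span.2 ⟨hy.1, h2⟩
    have h12 : (ln F e b ⊔ F ∙ a) ⊔ F ∙ y = D.perp (ln F e b ⊔ F ∙ a) :=
      Submodule.eq_of_le_of_finrank_eq (sup_le hS.le_perp
        ((Submodule.span_singleton_le_iff_mem _ _).2 hy')) (by omega)
    obtain ⟨x, hx, w, hw, rfl⟩ := Submodule.mem_sup.1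
      (h12.ge (perp_sup_span.2 ⟨hp_comm (D := D) ▸ hz.1, h4⟩))
    obtain ⟨c, rfl⟩ := Submodule.mem_span_singleton.1 hw
    have h13 : D.Q y ≠ 0 := fun h13 => by
      have := (hS.sup_span h13 hy').two_mul_finrank_le hD
      omega
    obtain rfl : c = 0 := by
      simpa [hy' x hx, quad_B_self, hQ, h13, Quad.two_ne_zero_of_odd hD (m := 3) h7.symm] using h6
    exact h5 (by simpa [ln_comm (e := b)] using hx)
  · obtain ⟨a', ha1, hyp⟩ := exists_isHyp_mem ha hQ (Fl.perp_hp hD ▸ ha')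
    have ha2 : a' ∉ ln F e b := fun h => by simpa [hyp.B_fe] using ha a' h
    obtain ⟨y', hy'⟩ := h1 a' ha1
    obtain ⟨h4, -, h5⟩ := ww_two hD hn h h8 hL hT h1 hy hQ ha'
    obtain ⟨-, h6, -⟩ := ww_two hD hn h h8 hL hT h1 hy' hyp.Q_f ha2
    have h7 := B_eq_zero_of_ww hD hn h hL hT' hy' hyp.Q_f ha2
    have h9 : D.Q (y' + (-D.B a y') • a') = D.Q y' := by
      rw [D.Q_add_smul hyp.Q_f]; simp [D.eq_zero_symm h7]
    obtain ⟨x, hx, w, hw, h10⟩ := Submodule.mem_sup.1 (h5 _ (add_mem hy'.1 (Submodule.smul_mem _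
      (-D.B a y') ha1)) (by simp [hyp.B_ef]) (h9 ▸ h6))
    obtain ⟨c, rfl⟩ := Submodule.mem_span_singleton.1 hw
    have hS := h.isTS.sup_span hQ ha
    obtain rfl := h4 c fun hc => h6 (by rw [← h9, ← h10, hc]; simpa using hS.1 x hx)
    obtain ⟨l, hl, w, hw, rfl⟩ := Submodule.mem_sup.1 hx
    obtain ⟨s, rfl⟩ := Submodule.mem_span_singleton.1 hw
    have h11 := congrArg (D.B a') h10
    have h12 := hT'.B_eq h hy hy'
    simp only [map_add, map_smul, D.eq_zero_symm (ha1 l hl), hyp.B_fe, hyp.B_ff, h7, quadKind_ε,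
      smul_eq_mul] at h11 h12
    have h13 := snd_mem_ln h (s := D.B a y') (hT _ (add_mem right_mem_ln (Submodule.smul_mem _ _
      left_mem_ln)) (h.add_smul _).b_ne) (y := y' - y) (z := a' - a) (sub_mem hy' hy) (by
        convert hl using 1
        rw [show s = -D.B a y' by linear_combination h11 + h12] at h10
        linear_combination (norm := module) -h10)
    simpa [hyp.B_ef, hyp.B_ee] using D.eq_zero_symm (ha _ h13)

end Cfsg.Lib.Forms.MI
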