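import Cfsg.Agent.Lib.MinIdx.O4

/-!
Minimal index of orthogonal groups, V: the main theorem.
-/

set_option autoImplicit false

namespace Cfsg.Lib.Forms.MI

open Module Form

universe u

variable {F : Type*} [Field F] {V : Type u} [AddCommGroup V] [Module F V]
  {D : Form (quadKind F) V} {H : Subgroup D.isom} {e b : V}

theorem Triv.map (hT : Triv H e) {g : D.isom} (hg : g ∈ H) : Triv H (g.1 e) := fun z hz => by
  obtain ⟨c, hc⟩ := Submodule.mem_span_singleton.1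
    (hT _ (by simpa only [isom_inv_apply] using map_mem_zs hz (H.inv_mem hg)))
  rw [← isom_inv_apply_eq.1 hc.symm, map_smul]
  exact smul_mem_span _ _

theorem Triv.smul (hT : Triv H e) (he : D.Q e = 0) {c : F} (hc : c ≠ 0) : Triv H (c • e) :=
  fun z hz => by
    rw [Submodule.span_singleton_smul_eq (IsUnit.mk0 c hc)]
    exact (Submodule.smul_mem_iff _ hc).1 (hT _ ((mem_zs_smul he hc).1 hz))

variable [FiniteDimensional F V] [Finite F]

/-- The hypotheses on a counterexample. -/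
structure Bad (H : Subgroup D.isom) : Prop where
  nd : D.Nondeg
  hn : 7 ≤ finrank F V
  h1 : ¬ D.E ≤ H
  h2 : ¬ nsv D ≤ H.relIndex D.E * (Nat.card F - 1)
  h3 : ¬ NsBound H
  h4 : H.relIndex D.E < Nat.card F ^ (finrank F V - 3) * (Nat.card F + 2)

namespace Bad
variable (hb : Bad H)
include hb

theorem not_A (h : Fl D e b) (hN : NotL H e b) (hL : Lift H e b)
    (hW : ∀ x ∈ D.hp e b, x ∈ w1 H e b) : False := by
  set Φ := subCore F (zs H e) ⊓ D.hp e b
  have heΦ : e ∈ Φ := ⟨fun t => smul_mem_zs h.he t, h.le_hp left_mem_ln⟩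
  have h1 : D.hp e b ≤ Φ ⊔ F ∙ b := hp_le_of_singular hb.nd hb.hn h fun a ha hQ ha' => by
    obtain ⟨u, hu, y, hy, h1, h2, h3⟩ := exists_pair_hp hb.nd hb.hn h ha hQ ha' 1
    obtain ⟨g, hg, h4, h5, h6⟩ := hL a ha u hu hQ h1
    have h7 : g.1 y - y ∈ Φ := ⟨fun x => by
      obtain ⟨z, h7, -, h8⟩ := mem_w1.1 (hW _ (Submodule.smul_mem _ x hy))
      obtain ⟨s, t, h9⟩ := Submodule.mem_span_pair.1 h8
      obtain ⟨c, hc⟩ := Submodule.mem_span_singleton.1 h5
      convert add_mem (sub_mem (map_mem_zs' h7 hg h4) h7) (smul_mem_zs h.he (t * c)) using 1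
      rw [show z = x • y - (s • e + t • b) by rw [h9]; abel]
      simp only [map_sub, map_add, map_smul, h4, eq_add_of_sub_eq' hc.symm]
      module, sub_mem (stab_mem (stab_hp h4 h5) hy) hy⟩
    have h8 := h6 y hy
    rw [sg_apply_perp hQ h1 h2, h3, ln, Submodule.span_insert] at h8
    convert sub_mem (Submodule.mem_sup_left h7) (sup_le_sup_right
      ((Submodule.span_singleton_le_iff_mem _ _).2 heΦ) _ h8) using 1
    module
  have h2 := (Submodule.finrank_mono h1).trans (Submodule.finrank_add_le_finrank_add_finrank _ _)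
  have h3 := h.finrank_hp hb.nd
  have h4 := finrank_span_singleton_le (F := F) b
  have h5 : b ∈ D.perp Φ := fun w hw => D.eq_zero_symm ((mem_hp D).1 hw.2).2
  rcases finish hb.nd hb.hn h.he h.ne h.hb heΦ (fun z hz => mem_of_subCore hz.1) h5 h.nb
    (fun x hx => by
      have h6 : x ∈ ln F e b := by
        rw [← Fl.perp_hp hb.nd]
        refine D.perp_anti h1 ?_
        rw [perp_sup]
        exact ⟨hx.2, (mem_perp_span_singleton D).2 ((mem_hp D).1 hx.1.2).2⟩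
      obtain ⟨s, t, rfl⟩ := Submodule.mem_span_pair.1 h6
      obtain rfl : t = 0 := by
        by_contra ht
        exact hN.choose_spec ((Φ.smul_mem_iff ht).1 ((Φ.add_mem_iff_right (Φ.smul_mem s heΦ)).1
          hx.1) |>.1 _)
      simp [smul_mem_span]) (by omega) with h | h | h
  exacts [hb.h1 h, hb.h2 h, hb.h3 h]

omit [FiniteDimensional F V] [Finite F] in
theorem lt_of_le {κ c : ℕ} (h : Nat.card F * (κ * c) ≤ H.relIndex D.E) {j : ℕ}
    (hc : Nat.card F ^ (finrank F V - 4 + j) ≤ c) : κ * Nat.card F ^ j < Nat.card F + 2 := by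
  have h1 := (Nat.mul_le_mul_left _ (Nat.mul_le_mul_left κ hc)).trans_lt (h.trans_lt hb.h4)
  have := hb.hn
  rw [show finrank F V - 3 = finrank F V - 4 + 1 by omega, pow_add, pow_succ] at h1
  refine Nat.lt_of_mul_lt_mul_left (a := Nat.card F ^ (finrank F V - 4) * Nat.card F) ?_
  refine lt_of_eq_of_lt ?_ h1
  ring

theorem not_both (h : Fl D e b) (hN : NotL H e b) (h1 : ∀ x ∈ w1 H e b, x ∈ ln F e b)
    (h2 : ∀ x ∈ w2 H h, x ∈ ln F e b) : False := by
  have := Module.finite_of_finite F (M := V)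
  obtain ⟨κ, γ, h3, h4, h5, -⟩ := main_ineq hb.nd hb.hn h hN
  have h6 := h.finrank_hp hb.nd
  have h7 : ∀ W : AddSubgroup V, (∀ x ∈ W, x ∈ ln F e b) →
      Nat.card F ^ (finrank F V - 4) ≤ W.relIndex (D.hp e b).toAddSubgroup := fun W hW => by
    rw [show finrank F V - 4 = finrank F (D.hp e b) - finrank F (ln F e b) by
      rw [h.finrank_ln]; omega, ← relIndex_submodule h.le_hp]
    exact addRelIndex_anti _ fun x hx => hW x hx.1
  have h8 := hb.lt_of_le h3 (j := 2) (by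
    have := hb.hn
    rw [pow_add]
    exact Nat.mul_le_mul (h7 _ h2) (le_trans ((Nat.pow_le_pow_right Nat.card_pos (by omega)).trans
      (h7 _ h1)) (Nat.le_mul_of_pos_left _ (Nat.pos_of_dvd_of_pos h5 Nat.card_pos))))
  have := two_le_card (F := F)
  have := Nat.pos_of_ne_zero h4
  nlinarith

theorem lift (h : Fl D e b) (hN : NotL H e b) (hG : ¬ Gam H e b) : Lift H e b := by
  by_contra hL
  obtain ⟨κ, γ, h3, -, h5, h6, h7, -⟩ := main_ineq hb.nd hb.hn h hN
  rw [mul_left_comm _ γ, ← mul_assoc κ] at h3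
  have := hb.lt_of_le h3 (j := 0) (pow_le_w hb.nd hb.hn h hN)
  have := le_mul_of_sqs (h7 hL) h5 (h6 hG)
  simp only [pow_zero, mul_one] at *
  omega

theorem w1_le_ln (h : Fl D e b) (hN : NotL H e b) (hL : Lift H e b) :
    ∀ x ∈ w1 H e b, x ∈ ln F e b :=
  (irr_hp hb.nd hb.hn h (fun _ => w1_le h) (hL.sg_mem (fun _ => ln_le_w1) (fun _ => w1_le h)
    fun _ hg h1 h2 _ => map_mem_w1 hg h1 h2)).resolve_right (hb.not_A h hN hL)

theorem state_B (h : Fl D e b) (hN : NotL H e b) (hG : ¬ Gam H e b) :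
    (∀ x ∈ zs H e, x ∈ ln F e b) ∧ ∀ x ∈ D.hp e b, x ∈ w2 H h := by
  have hL := hb.lift h hN hG
  have h1 := hb.w1_le_ln h hN hL
  have h2 := (irr_hp hb.nd hb.hn h (W := w2 H h) (fun _ h => h.1) (hL.sg_mem (fun _ => ln_le_w2 h)
    (fun _ h => h.1) fun _ hg h1 h2 _ => map_mem_w2 h hg h1 h2)).resolve_left (hb.not_both h hN h1)
  refine ⟨fun y hy => h1 y (mem_w1.2 ⟨y, hy, (mem_hp D).2 ⟨hy.1, ?_⟩, by simp⟩), h2⟩
  obtain ⟨a, ha, -, ha'⟩ := exists_sing_hp hb.nd hb.hn h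
  exact eq_zero_of_smul_mem ha' (h1 _ (smul_mem_w1 h hy (h2 a ha)))

theorem triv (h : Fl D e b) (hN : NotL H e b) (hG : ¬ Gam H e b) : Triv H e := by
  have h1 := (hb.state_B h hN hG).1
  obtain ⟨a, ha, hQ, ha'⟩ := exists_sing_hp hb.nd hb.hn h
  have h2 : Fl D e a := ⟨h.he, hQ, ((mem_hp D).1 ha).1, h.ne, fun h => ha' (span_le_ln h)⟩
  intro z hz
  obtain ⟨s, t, rfl⟩ := Submodule.mem_span_pair.1 ((hb.state_B h2 ⟨1, fun h => ha' (by
    simpa using h1 _ h)⟩ fun hG => by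
      obtain ⟨y, hy, h3⟩ := hG 1
      simp [D.eq_zero_symm (ha y (h1 y hy))] at h3).1 z hz)
  simp [eq_zero_of_smul_mem ha' ((Submodule.add_mem_iff_right _
    (Submodule.smul_mem _ s left_mem_ln)).1 (h1 _ hz)), smul_mem_span]

omit hb [Finite F] [FiniteDimensional F V] in
theorem notL_of_triv (h : Fl D e b) (hT : Triv H e) : NotL H b e :=
  NotL.symm ⟨1, fun h1 => h.nb (by simpa using hT _ h1)⟩ h

theorem not_gam (h : Fl D e b) (hL : Lift H e b) (hT : Triv H e) : ¬ Gam H b e := fun hG => by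
  have hN := notL_of_triv h hT
  have h1 : ¬ Triv H b := fun h1 => by
    obtain ⟨y, hy, h2⟩ := hG 1
    obtain ⟨c, rfl⟩ := Submodule.mem_span_singleton.1 (h1 y hy)
    simp [h.heb] at h2
  have hL' : Lift H b e := fun a ha u hu hQ hB => by
    rw [hp_comm] at ha hu ⊢
    obtain ⟨g, hg, h2, h3, h4⟩ := hL a ha u hu hQ hB
    refine ⟨g, hg, ?_, by simp [h2], by rwa [ln_comm]⟩
    obtain ⟨c, hc⟩ := Submodule.mem_span_singleton.1 h3
    by_contra h5
    have h6 : c ≠ 0 := fun h6 => h5 (by simpa [h6, sub_eq_zero] using hc.symm)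
    obtain ⟨y, hy, h7⟩ := hG c⁻¹
    have h8 := ((hT.map hy.2).smul (by simpa using h.he) h6).map (H.inv_mem hg)
    rw [sg_apply_perp h.hb hy.1 h.be, quad_symm D y, h7, smul_add, smul_smul, mul_inv_cancel₀ h6,
      one_smul, hc, sub_add_cancel, isom_inv_apply] at h8
    exact h1 h8
  have h2 := hb.w1_le_ln h.symm hN hL'
  obtain ⟨y, hy, h3⟩ := hG 1
  exact hb.not_both h.symm hN h2 fun x hx => h2 x (by simpa [h3] using smul_mem_w1 h.symm hy hx)

theorem gam (h : Fl D e b) (hN : NotL H e b) : Gam H e b := by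
  by_contra hG
  have hL := hb.lift h hN hG
  have hT := hb.triv h hN hG
  have h1 : ∀ s : F, ¬ Gam H (b + s • e) e := fun s => hb.not_gam (h.add_smul s) (by
    have h1 : ln F e (b + s • e) = ln F e b := by
      refine le_antisymm (Submodule.span_le.2 ?_) (Submodule.span_le.2 ?_) <;>
        rintro _ (rfl | rfl)
      exacts [left_mem_ln, add_mem right_mem_ln (Submodule.smul_mem _ _ left_mem_ln), left_mem_ln,
        (Submodule.add_mem_iff_left _ (Submodule.smul_mem _ s left_mem_ln)).1 right_mem_ln]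
    have h2 : D.hp e (b + s • e) = D.hp e b := congrArg D.perp h1
    intro a ha u hu hQ hB
    rw [h2] at ha hu ⊢
    obtain ⟨g, hg, h3, h4, h5⟩ := hL a ha u hu hQ hB
    exact ⟨g, hg, h3, by simpa [h3] using h4, h1 ▸ h5⟩) hT
  have h2 := h1 0
  rw [zero_smul, add_zero] at h2
  refine false_of_triv hb.nd hb.hn h hL (hb.lift h.symm (hN.symm h) h2) (fun x hx h0 => ?_)
    (hb.state_B h hN hG).2 (hb.state_B h.symm (hN.symm h) h2).2
  obtain ⟨s, t, rfl⟩ := Submodule.mem_span_pair.1 hx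
  by_cases ht : t = 0
  · simpa [ht] using hT.smul h.he (c := s) fun hs => h0 (by simp [hs, ht])
  · have h3 := (hb.triv (h.add_smul (s / t)).symm (notL_of_triv (h.add_smul _) hT) (h1 _)).smul
      (h.add_smul _).hb ht
    rwa [smul_add, smul_smul, mul_div_cancel₀ _ ht, add_comm] at h3

theorem le_stab_index (h : Fl D e b) {W W₀ : Submodule F V} (hW : ∀ x ∈ W, ∀ y ∈ W, D.B x y = 0)
    (hW₀ : ∀ x ∈ W, D.Q x = 0 → x ∈ W₀) {a w : V} (ha : a ∈ D.hp e b) (hQ : D.Q a = 0) (hw : w ∈ W)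
    (haw : D.B a w ≠ 0) (hk : finrank F ↥(W₀ ⊓ LinearMap.ker (D.B a)) + 6 ≤ finrank F V) :
    Nat.card F ^ 2 ≤ (D.stab W).relIndex (p1 D e b) := by
  have := Module.finite_of_finite F (M := V)
  have := finite_isom (D := D)
  have h1 := finrank_le_inf_ker (D.hp e b) (D.B a)
  set Z := D.hp e b ⊓ LinearMap.ker (D.B a)
  set T := (W₀ ⊓ LinearMap.ker (D.B a) ⊔ F ∙ a) ⊓ Z
  have h2 := h.finrank_hp hb.nd
  have h3 : finrank F T ≤ _ := (Submodule.finrank_mono inf_le_left).trans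
    (Submodule.finrank_add_le_finrank_add_finrank _ _)
  have h4 := finrank_span_singleton_le (F := F) a
  refine le_trans ?_ (zs_le (Z := Z.toAddSubgroup) (e := a) (fun z hz => hz.2) _
    fun z hz => sg_mem_p1 ha hz.1)
  refine le_trans ?_ (addRelIndex_anti (K := T.toAddSubgroup) _ ?_)
  · rw [relIndex_submodule (A := T) inf_le_right]
    exact Nat.pow_le_pow_right Nat.card_pos (by omega)
  rintro z ⟨hz, hz'⟩
  have h5 := (W.smul_mem_iff (inv_ne_zero haw)).2 (sub_mem hw (stab_mem hz.2 hw))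
  rw [sg_apply hQ hz.1, show (D.B a w)⁻¹ • (w - (w + D.B z w • a - D.B a w • (z + D.Q z • a))) =
    z + (D.Q z - D.B z w / D.B a w) • a by match_scalars <;> field_simp <;> ring] at h5
  have h6 := hW _ h5 w hw
  rw [B_add_left, B_smul_left, RingHom.id_apply, sub_mul, div_mul_cancel₀ _ haw, add_sub_cancel,
    mul_eq_zero, or_iff_left haw] at h6
  refine ⟨?_, hz'⟩
  simpa using sub_mem (Submodule.mem_sup_left (S := W₀ ⊓ LinearMap.ker (D.B a)) ⟨hW₀ _ h5 (by
    rw [D.Q_add_smul hQ]; simp [h6, D.eq_zero_symm hz.1]), by simp [hz.1, D.B_self_of_Q hQ]⟩)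
      (Submodule.mem_sup_right (smul_mem_span (D.Q z - D.B z w / D.B a w) a))

theorem caseII (h : Fl D e b) (hN : NotL H e b) : finrank F V = 8 ∧ ∃ W : Submodule F V,
    D.IsTS W ∧ finrank F W = 4 ∧ ∀ x, x ∈ W ↔ x ∈ w1 H e b := by
  have := Module.finite_of_finite F (M := V)
  have := finite_isom (D := D)
  have hG := hb.gam h hN
  have hG' := hb.gam h.symm (hN.symm h)
  have h1 : ∀ x ∈ w2 H h, ∀ t : F, t • x ∈ w1 H e b := fun x hx t => by
    obtain ⟨y, hy, rfl⟩ := hG t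
    exact smul_mem_w1 h hy hx
  have h2 : ∀ x ∈ w1 H e b, x ∈ w2 H h := fun x hx => by
    obtain ⟨y, hy, h2⟩ := hG' 1
    exact w1_le_w2 h (by simpa [h2] using smul_mem_w1 h.symm hy (w1_le_w2 h.symm hx))
  set W := subCore F (w1 H e b)
  have hW : ∀ x, x ∈ W ↔ x ∈ w1 H e b := fun x => ⟨mem_of_subCore, fun hx => h1 x (h2 x hx)⟩
  have hW1 : w1 H e b = W.toAddSubgroup := by ext x; exact (hW x).symm
  have hW2 : w2 H h = W.toAddSubgroup := by
    ext x
    exact ⟨h1 x, fun hx => h2 x (mem_of_subCore hx)⟩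
  have hB : ∀ x ∈ W, ∀ y ∈ W, D.B x y = 0 := fun x hx y hy => by
    by_contra h3
    obtain ⟨t, ht⟩ := hN
    simpa [h3, ht] using pair_mem_zs h (h2 x ((hW x).1 hx)) (hy (t / D.B x y))
  have hl : ln F e b ≤ W := fun x hx => (hW x).2 (ln_le_w1 hx)
  have hl' : W ≤ D.hp e b := fun x hx => w1_le h ((hW x).1 hx)
  obtain ⟨κ, γ, h3, h4, h5, -, -, h6⟩ := main_ineq hb.nd hb.hn h hN
  replace h6 := h6 W hl hl' fun g hg h1 h2 => mem_stab_of_mapsTo _ fun x hx =>
    (hW _).2 (map_mem_w1 hg h1 h2 ((hW x).1 hx))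
  have h7 := h.finrank_hp hb.nd
  have h8 := hb.nd.finrank_perp W
  have h9 := Submodule.finrank_mono (show W ≤ D.perp W from fun x hx y hy => hB y hy x hx)
  have hn := hb.hn
  have hq := two_le_card (F := F)
  obtain ⟨j, hj⟩ : ∃ j, finrank F V = 2 * finrank F W + j := ⟨finrank F V - 2 * finrank F W, by omega⟩
  have h10 := hb.lt_of_le h3 (j := j) (by
    rw [hW1, hW2, relIndex_submodule hl', mul_left_comm, ← pow_add]
    exact le_trans (Nat.pow_le_pow_right Nat.card_pos (by omega))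
      (Nat.le_mul_of_pos_left _ (Nat.pos_of_dvd_of_pos h5 Nat.card_pos)))
  have h11 := Nat.pos_of_ne_zero h4
  obtain rfl : j = 0 := by
    by_contra h12
    have h13 := Nat.le_self_pow h12 (Nat.card F)
    obtain rfl : κ = 1 := by
      by_contra h14
      have := Nat.mul_le_mul (show 2 ≤ κ by omega) h13
      omega
    have h14 := Subgroup.relIndex_eq_one.1 (le_antisymm h6 (Nat.pos_of_ne_zero
      (relIndex_ne_zero' _ _)))
    have h15 : j < 2 := by
      by_contra h15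
      have := Nat.pow_le_pow_right (Nat.card_pos (α := F)) (not_lt.1 h15)
      nlinarith
    rcases irr_hp hb.nd hb.hn h (W := W.toAddSubgroup) hl'
      (fun a ha u hu _ _ x hx => stab_mem (h14 (sg_mem_p1 ha hu)) hx) with h16 | h16
    · have := Submodule.finrank_mono (show W ≤ ln F e b from h16)
      rw [h.finrank_ln] at this
      omega
    · have := Submodule.finrank_mono (show D.hp e b ≤ W from h16)
      omega
  let W₀ : Submodule F V :=
    { carrier := {x | x ∈ W ∧ D.Q x = 0}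
      zero_mem' := ⟨zero_mem _, D.Q_zero⟩
      add_mem' := fun hx hy => ⟨add_mem hx.1 hy.1, by
        rw [quad_Q_add, hx.2, hy.2, hB _ hx.1 _ hy.1]; simp⟩
      smul_mem' := fun c x hx => ⟨W.smul_mem c hx.1, D.Q_smul_of_Q hx.2 c⟩ }
  have h12 : W₀ ≤ W := fun x hx => hx.1
  have h13 : ∀ A : Submodule F V, ¬ A ≤ ln F e b →
      ∃ a ∈ D.hp e b, D.Q a = 0 ∧ ∃ w ∈ A, D.B a w ≠ 0 := fun A hA => by
    by_contra! h13
    exact hA (Fl.perp_hp (e := e) (b := b) hb.nd ▸ D.le_perp_comm.1 (hp_le_of_singular hb.nd hb.hn h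
      fun x hx hQ _ w hw => D.eq_zero_symm (h13 x hx hQ w hw)))
  by_contra h14
  have h15 : finrank F W₀ + 5 ≤ finrank F V := by
    by_contra h15
    have := Submodule.finrank_mono h12
    obtain h16 := Submodule.eq_of_le_of_finrank_le h12 (by omega)
    exact h14 ⟨by omega, W, isTS_quad fun x hx => (h16.ge hx).2, by omega, hW⟩
  suffices Nat.card F ^ 2 ≤ (D.stab W).relIndex (p1 D e b) by nlinarith
  by_cases h16 : W₀ ≤ ln F e b
  · obtain ⟨a, ha, hQ, w, hw, h17⟩ := h13 W fun h17 => by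
      have := Submodule.finrank_mono h17
      rw [h.finrank_ln] at this
      omega
    have := Submodule.finrank_mono ((inf_le_left (b := LinearMap.ker (D.B a))).trans h16)
    rw [h.finrank_ln] at this
    exact hb.le_stab_index h hB (W₀ := W₀) (fun x h h' => ⟨h, h'⟩) ha hQ hw h17 (by omega)
  · obtain ⟨a, ha, hQ, w, hw, h17⟩ := h13 W₀ h16
    have : finrank F ↥(W₀ ⊓ LinearMap.ker (D.B a)) < finrank F W₀ :=
      Submodule.finrank_lt_finrank_of_lt (lt_of_le_of_ne inf_le_left fun h => h17 (h.ge hw).2)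
    exact hb.le_stab_index h hB (W₀ := W₀) (fun x h h' => ⟨h, h'⟩) ha hQ hw.1 h17 (by omega)

theorem exists_fl (he : D.Q e = 0) (h0 : e ≠ 0) : ∃ b, Fl D e b ∧ NotL H e b := by
  by_contra! h1
  have h2 := hb.nd.finrank_perp (F ∙ e)
  have h3 := finrank_span_singleton (K := F) h0
  have hn := hb.hn
  obtain ⟨a, ha, ha', hQ, -⟩ := (Quad.sing D).exists_not_mem (D.perp (F ∙ e)) (F ∙ e) []
    (by simp; omega)
  have h4 : D.At H ⊤ e := at_of_zs fun z _ hz => mem_of_subCore (le_of_singular (A := subCore F _)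
    ha hQ (by rwa [hb.nd.perp_perp]) (fun x hx hQ hx' t => by
      by_contra h
      exact h1 x ⟨he, hQ, (mem_perp_span_singleton D).1 hx, h0, by rwa [hb.nd.perp_perp] at hx'⟩
        ⟨t, h⟩) ((mem_perp_span_singleton D).2 hz))
  refine hb.h2 (nsv_le_of_perp hb.nd hb.hn he h0 fun g hg => ?_)
  by_contra h
  exact hb.h1 (h4.E_le_of_map hb.nd he hg h)

theorem sing (he : D.Q e = 0) (h0 : e ≠ 0) {y : V} (hy : y ∈ zs H e) : D.Q y = 0 := by
  by_contra hQ
  have key : ∀ b, Fl D e b → NotL H e b → ∀ x ∈ zs H e, x ∈ D.hp e b → D.Q x = 0 :=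
    fun b h hN x hx hx' => by
      obtain ⟨-, W, h1, -, h2⟩ := hb.caseII h hN
      exact h1.1 x ((h2 x).2 (mem_w1.2 ⟨x, hx, hx', by simp⟩))
  obtain ⟨b, h, hN⟩ := hb.exists_fl he h0
  have h8 := (hb.caseII h hN).1
  have h1 := hb.nd.finrank_perp (ln F e y)
  have h2 : finrank F (ln F e y) ≤ 2 := finrank_span_pair_le e y
  obtain ⟨a, ha, ha', hQa, -⟩ := (Quad.sing D).exists_not_mem (D.perp (ln F e y)) (ln F e y) []
    (by simp; omega)
  have h3 : D.perp (ln F e y) ≤ subCore F (zs H e) := le_of_singular ha hQa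
    (by rwa [hb.nd.perp_perp]) fun x hx hQx hx' t => by
      by_contra h3
      rw [hb.nd.perp_perp] at hx'
      obtain ⟨h4, h5⟩ := (mem_perp_span_pair D).1 hx
      exact hQ (key x ⟨he, hQx, h4, h0, fun h => hx' (span_le_ln h)⟩ ⟨t, h3⟩ y hy
        ((mem_hp D).2 ⟨hy.1, D.eq_zero_symm h5⟩))
  have h4 := (isTS_quad (U := D.perp (ln F e y) ⊓ LinearMap.ker (D.B b)) fun x hx =>
    key b h hN x (mem_of_subCore (h3 hx.1))
      ((mem_hp D).2 ⟨((mem_perp_span_pair D).1 hx.1).1, hx.2⟩)).two_mul_finrank_le hb.nd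
  have := finrank_le_inf_ker (D.perp (ln F e y)) (D.B b)
  omega

theorem B_eq_zero (he : D.Q e = 0) (h0 : e ≠ 0) {x y : V} (hx : x ∈ zs H e) (hy : y ∈ zs H e) :
    D.B x y = 0 := by
  simpa [quad_Q_add, hb.sing he h0 hx, hb.sing he h0 hy] using hb.sing he h0 (add_mem hx hy)

theorem exists_solid (he : D.Q e = 0) (h0 : e ≠ 0) : ∃ S : Submodule F V, D.IsTS S ∧
    finrank F S = 4 ∧ S.toAddSubgroup = zs H e := by
  have h1 : ∀ y ∈ zs H e, y ∈ subCore F (zs H e) := fun y hy t => by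
    by_contra h
    by_cases h1 : y ∈ F ∙ e
    · obtain ⟨c, rfl⟩ := Submodule.mem_span_singleton.1 h1
      exact h (smul_smul t c e ▸ smul_mem_zs he _)
    · obtain ⟨x, hx, h2⟩ := hb.gam ⟨he, hb.sing he h0 hy, hy.1, h0, h1⟩ ⟨t, h⟩ 1
      simp [hb.B_eq_zero he h0 hy hx] at h2
  have h2 : D.IsTS (subCore F (zs H e)) := isTS_quad fun x hx => hb.sing he h0 (mem_of_subCore hx)
  refine ⟨_, h2, ?_, AddSubgroup.ext fun x => ⟨mem_of_subCore, h1 x⟩⟩
  obtain ⟨b, h, hN⟩ := hb.exists_fl he h0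
  obtain ⟨h8, W, -, h3, h4⟩ := hb.caseII h hN
  have h5 := h2.two_mul_finrank_le hb.nd
  obtain ⟨y, hy, h6⟩ := hb.gam h hN 1
  have h7 : finrank F ↥(subCore F (zs H e) ⊓ LinearMap.ker (D.B b)) < finrank F (subCore F (zs H e)) :=
    Submodule.finrank_lt_finrank_of_lt (lt_of_le_of_ne inf_le_left fun h => by
      simpa [h6] using (h.ge (h1 y hy)).2)
  have h9 := (Submodule.finrank_mono (show W ≤ subCore F (zs H e) ⊓ LinearMap.ker (D.B b) ⊔ F ∙ b from
    fun x hx => by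
      obtain ⟨z, h9, h10, h11⟩ := mem_w1.1 ((h4 x).1 hx)
      obtain ⟨s, t, h12⟩ := Submodule.mem_span_pair.1 h11
      rw [show x = z + s • e + t • b by rw [add_assoc, h12]; abel]
      exact add_mem (Submodule.mem_sup_left ⟨h1 _ (add_mem h9 (smul_mem_zs he s)), by
        simp [((mem_hp D).1 h10).2, h.be]⟩) (Submodule.mem_sup_right (smul_mem_span _ _)))).trans
      (Submodule.finrank_add_le_finrank_add_finrank _ _)
  have := finrank_span_singleton_le (F := F) b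
  omega

theorem not_torus {f : V} (hf : D.IsHyp e f) {g : D.isom} (hg : g ∈ H) {c : F} (hc : c ≠ 1)
    (hc0 : c ≠ 0) (h1 : g.1 e = c • e) (h2 : g.1 f = c⁻¹ • f) (h3 : ∀ w ∈ D.hp e f, g.1 w = w) :
    False := by
  have key : ∀ x ∈ D.hp e f, D.Q x = 0 → x ≠ 0 →
      ∃ t : F, t ≠ 0 ∧ (t • x ∈ zs H e ∨ t • x ∈ zs H f) := fun x hx hQ h0 => by
    obtain ⟨h4, h5⟩ := (mem_hp D).1 hx
    by_cases h6 : (1 : F) • e ∈ zs H x
    · exact ⟨1, one_ne_zero, Or.inl (swap_mem_zs hQ hf.Q_e one_ne_zero h6)⟩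
    obtain ⟨y, hy, h7⟩ := hb.gam ⟨hQ, hf.Q_e, D.eq_zero_symm h4, h0, fun h => by
      obtain ⟨s, hs⟩ := Submodule.mem_span_singleton.1 h
      simpa [← hs, D.eq_zero_symm h5] using hf.B_ef⟩ ⟨1, h6⟩ 1
    obtain ⟨w, hw, h8⟩ := hf.exists_comb y
    have h9 := sub_mem (map_mem_zs' hy hg (h3 x hx)) hy
    have h10 : c⁻¹ - 1 ≠ 0 := by simpa [sub_eq_zero] using hc
    rw [h8, map_add, map_add, map_smul, map_smul, h1, h2, h3 w hw, h7, show
      ((quadKind F).ε * D.B f y) • c • e + (1 : F) • c⁻¹ • f + w - (((quadKind F).ε * D.B f y) • e +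
        (1 : F) • f + w) = (D.B f y * (c - 1)) • e + (c⁻¹ - 1) • f by simp only [quadKind_ε]; module]
      at h9
    have h11 := hb.sing hQ h0 h9
    rw [hf.Q_smul_add, mul_eq_zero, or_iff_left h10] at h11
    rw [h11, zero_smul, zero_add] at h9
    exact ⟨_, h10, Or.inr (swap_mem_zs hQ hf.Q_f h10 h9)⟩
  have hn := hb.hn
  have h4 := hf.finrank_hp
  obtain ⟨a, a', ha⟩ := Quad.exists_isHyp (hf.nondeg_hp hb.nd) (by omega)
  have h5 := ha.finrank_hp
  obtain ⟨d, d', hd⟩ := Quad.exists_isHyp (ha.nondeg_hp (hf.nondeg_hp hb.nd)) (by omega)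
  have h6 : D.IsHyp (a : V) a' := ⟨ha.1, ha.2, ha.3⟩
  have h7 : D.IsHyp (d : V) d' := ⟨hd.1, hd.2, hd.3⟩
  have h8 : (d : V) - d' ∈ D.hp a a' := (mem_hp D).2 ((mem_hp (D.restrict _)).1 (d - d').2)
  have h9 : D.Q ((1 : F) • a + (1 : F) • a' + (d - d') : V) = 0 := by
    rw [h6.Q_comb _ _ h8, quad_Q_sub, h7.Q_e, h7.Q_f, h7.B_ef]; simp
  have h10 := h6.B_e_comb 1 1 h8
  have h11 := h6.B_f_comb 1 1 h8
  obtain ⟨t₁, ht₁, k₁⟩ := key a a.2 h6.Q_e h6.e_ne_zero
  obtain ⟨t₂, ht₂, k₂⟩ := key a' a'.2 h6.Q_f h6.f_ne_zero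
  obtain ⟨t₃, ht₃, k₃⟩ := key _ (add_mem (add_mem (Submodule.smul_mem _ _ a.2)
    (Submodule.smul_mem _ _ a'.2)) (sub_mem d.1.2 d'.1.2)) h9 fun h => by rw [h] at h10; simp at h10
  have b1 := fun {x y} => hb.B_eq_zero hf.Q_e hf.e_ne_zero (x := x) (y := y)
  have b2 := fun {x y} => hb.B_eq_zero hf.Q_f hf.f_ne_zero (x := x) (y := y)
  have c12 : D.B (t₁ • (a : V)) (t₂ • (a' : V)) ≠ 0 := by simp [ht₁, ht₂, h6.B_ef]
  have c13 := mul_ne_zero ht₃ (mul_ne_zero ht₁ (h10 ▸ one_ne_zero : D.B (a : V) _ ≠ 0))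
  have c23 := mul_ne_zero ht₃ (mul_ne_zero ht₂ (h11.trans_ne (by simp)))
  rw [← RingHom.id_apply t₁, ← B_smul_left, ← B_smul_right] at c13
  rw [← RingHom.id_apply t₂, ← B_smul_left, ← B_smul_right] at c23
  rcases k₁ with k₁ | k₁ <;> rcases k₂ with k₂ | k₂ <;> rcases k₃ with k₃ | k₃
  exacts [c12 (b1 k₁ k₂), c12 (b1 k₁ k₂), c13 (b1 k₁ k₃), c23 (b2 k₂ k₃), c23 (b1 k₂ k₃),
    c13 (b2 k₁ k₃), c12 (b2 k₁ k₂), c12 (b2 k₁ k₂)]

theorem special : finrank F V = 8 ∧ D.HasTS 4 ∧ ∃ s, 1 ≤ s ∧ (4 ≤ Nat.card F → 2 ≤ s) ∧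
    (Nat.card F ^ 2 + 1) * (Nat.card F + 1) * (s * Nat.card F ^ 3) ≤ H.relIndex D.E := by
  have := Module.finite_of_finite F (M := V)
  have := finite_isom (D := D)
  have hn := hb.hn
  obtain ⟨e, f, hf⟩ := Quad.exists_isHyp hb.nd (by omega)
  obtain ⟨S, hS, h4, hz⟩ := hb.exists_solid hf.Q_e hf.e_ne_zero
  obtain ⟨b, h, hN⟩ := hb.exists_fl hf.Q_e hf.e_ne_zero
  have h8 := (hb.caseII h hN).1
  have heS : e ∈ S := by simpa using hz.ge (smul_mem_zs hf.Q_e 1)
  have hSe : S ≤ D.perp (F ∙ e) := fun x hx => (mem_perp_span_singleton D).2 (hS.2 e heS x hx)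
  have hee := (Submodule.span_singleton_le_iff_mem _ _).2 (hSe heS)
  set R := D.E ⊓ tr2 D (F ∙ e) (D.perp (F ∙ e))
  obtain ⟨Q, hQ, hQ'⟩ := exists_qg e (D.perp (F ∙ e)).toAddSubgroup fun z =>
    (mem_perp_span_singleton D).1
  have hQR : Q ≤ R := fun g hg => by
    obtain ⟨z, hz, rfl⟩ := (hQ g).1 hg
    exact ⟨sg_mem_E _ _, mem_tr2_of_le hee fun x hx => by
      simp [sg_apply_perp hf.Q_e ((mem_perp_span_singleton D).1 hz)
        ((mem_perp_span_singleton D).1 hx), smul_mem_span]⟩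
  have hconj : ∀ g ∈ D.stab (F ∙ e), ∃ c : F, c ≠ 0 ∧ g.1 e = c • e := fun g hg => by
    obtain ⟨c, hc⟩ := Submodule.mem_span_singleton.1
      (stab_mem hg (Submodule.mem_span_singleton_self e))
    exact ⟨c, fun h => by simpa [h, hf.e_ne_zero] using hc.symm, hc.symm⟩
  have h1 := relIndex_mul_le (H := H) (K := D.stab S) (N := R) (P := D.E ⊓ D.stab (F ∙ e))
    (inf_le_inf_left _ fun g hg => hg.1) (fun g hg => mem_stab_of_mapsTo _ fun x hx => by
      obtain ⟨c, hc, h1⟩ := hconj g hg.2.2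
      have := map_mem_zs (hz.le hx) hg.1
      rw [h1, mem_zs_smul hf.Q_e hc] at this
      exact (S.smul_mem_iff hc).1 (hz.ge this))
    (inf_le_right.trans (tr2_le_stab ((Submodule.span_singleton_le_iff_mem _ _).2 heS) hSe))
  have h2 := relIndex_mul_le (H := H) (K := H ⊓ R ⊔ Q) hQR le_sup_left le_sup_right
  have h3 := hb.nd.finrank_perp (F ∙ e)
  rw [finrank_span_singleton hf.e_ne_zero] at h3
  rw [hQ', ← hz, relIndex_submodule hSe, show finrank F (D.perp (F ∙ e)) - finrank F S = 3 by omega]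
    at h2
  have h5 := (iota_three (hf.nondeg_hp hb.nd) (hS.comap (isIsometry_comap _ _)) (by
    have := finrank_comap_hp hf hS heS
    omega)).trans ((iota_le hf S).trans (relIndex_mono _ (inf_le_inf_left _ (fix_le_stab _ _))))
  refine ⟨h8, ⟨S, h4, hS⟩, _, Nat.pos_of_ne_zero (relIndex_ne_zero' _ _), fun hq => ?_,
    (Nat.mul_le_mul h5 h2).trans (h1.trans (relIndex_mono _ inf_le_left))⟩
  by_contra h6
  have h7 := relIndex_ne_zero' (H ⊓ R ⊔ Q) R
  obtain ⟨c, hc⟩ : ∃ c : Fˣ, c ^ 2 ≠ 1 := by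
    by_contra! h
    have h1 : sqs F = ⊥ := eq_bot_iff.2 (by rintro _ ⟨c, rfl⟩; exact h c)
    have h2 := card_sqs F
    rw [h1, Subgroup.card_bot] at h2
    by_cases h : Odd (Nat.card F)
    · have := h2.1 h; omega
    · have := h2.2 h; omega
  obtain ⟨t, ht, h9, h10, h11⟩ := exists_torus_sq hb.nd (by omega) hf c.ne_zero
  have h12 : t ∈ R := ⟨ht, mem_tr2_of_le hee fun x hx => by
    obtain ⟨w, hw, h12⟩ := hf.exists_comb x
    rw [h12, (mem_perp_span_singleton D).1 hx]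
    simp only [map_add, map_smul, h9, h11 w hw, zero_smul, add_zero, map_zero, add_sub_add_right_eq_sub]
    exact sub_mem (Submodule.smul_mem _ _ (smul_mem_span _ _)) (smul_mem_span _ _)⟩
  obtain ⟨g, hg, k, hk, h13⟩ := mem_sup_of_conj (H := H ⊓ R) (fun g hg k hk => by
    obtain ⟨z, hz, rfl⟩ := (hQ k).1 hk
    obtain ⟨c, hc, h1⟩ := hconj g hg.2.2.1
    have h2 := (mem_perp_span_singleton D).1 (stab_mem (stab_le_stab_perp _ _ hg.2.2.1) hz)
    exact (hQ _).2 ⟨c • g.1 z, (mem_perp_span_singleton D).2 (by simp [h2]), by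
      rw [conj_sg, h1, sg_smul_left hf.Q_e h2]⟩)
    (Subgroup.relIndex_eq_one.1 (show (H ⊓ R ⊔ Q).relIndex R = 1 by omega) h12)
  obtain ⟨z, hz, rfl⟩ := (hQ k).1 hk
  obtain ⟨w, hw, h14⟩ := hf.exists_comb z
  rw [h14, (mem_perp_span_singleton D).1 hz, zero_smul, add_zero, add_comm, sg_add_smul hf.Q_e] at h13
  have h15 : (c : F) ^ 2 ≠ 1 := fun h => hc (Units.ext (by simpa using h))
  have h16 : (c : F) ^ 2 - 1 ≠ 0 := sub_ne_zero.2 h15
  have h17 := ((mem_hp D).1 hw).1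
  set u := sg D e (((c : F) ^ 2 / ((c : F) ^ 2 - 1)) • w)
  have h18 : g = u * t * u⁻¹ := by
    have h18 := conj_sg t e (((c : F) ^ 2 - 1)⁻¹ • w)
    rw [h9, map_smul, h11 w hw, sg_smul_left hf.Q_e (by simp [h17]), smul_smul,
      ← div_eq_mul_inv ((c : F) ^ 2)] at h18
    rw [eq_mul_inv_of_mul_eq h13.symm, show u * t = t * sg D e (((c : F) ^ 2 - 1)⁻¹ • w) by
      rw [← eq_mul_inv_iff_mul_eq, h18], mul_assoc, ← sg_neg h17, ← sg_neg (by simp [h17]),
      ← sg_add (by simp [h17]) (by simp [h17])]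
    congr 2
    match_scalars
    field_simp
    ring
  have h19 : u.1 e = e := sg_self _ _
  refine hb.not_torus (f := u.1 f) (h19 ▸ hf.isom u) hg.1 h15 (pow_ne_zero 2 c.ne_zero) ?_ ?_
    fun x hx => ?_
  · rw [h18, isom_mul_apply, isom_mul_apply, isom_inv_apply_eq.2 h19, h9, map_smul, h19]
  · simp [h18, isom_mul_apply, isom_inv_apply, h10]
  · rw [h18, isom_mul_apply, isom_mul_apply, h11, isom_apply_inv]
    rw [mem_hp, ← B_isom_left, ← B_isom_left, h19]
    exact (mem_hp D).1 hx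

end Bad

open Classical in
theorem le_relIndex_quad (hD : D.Nondeg) (hn : 7 ≤ finrank F V) {t : ℕ}
    (h1 : t * (Nat.card F - 1) ≤ nsv D)
    (h2 : ∀ v, D.Q v ≠ 0 → t * (if (2 : F) = 0 then 1 else 2) ≤ Nat.card {x // D.Q x = D.Q v})
    (h3 : t ≤ Nat.card F ^ (finrank F V - 3) * (Nat.card F + 2))
    (h4 : finrank F V = 8 → D.HasTS 4 → Nat.card F < 4 →
      t ≤ (Nat.card F ^ 2 + 1) * (Nat.card F + 1) * Nat.card F ^ 3)
    (H : Subgroup D.isom) (hH : ¬ D.E ≤ H) : t ≤ H.relIndex D.E := by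
  by_contra! h
  have hq := two_le_card (F := F)
  have hb : Bad H := ⟨hD, hn, hH, fun h5 => h.not_ge (Nat.le_of_mul_le_mul_right (h1.trans h5)
    (by omega)), fun ⟨v, hv, h5⟩ => h.not_ge (Nat.le_of_mul_le_mul_right ((h2 v hv).trans h5)
      (by split_ifs <;> simp)), h.trans_le h3⟩
  obtain ⟨h8, h5, s, h6, h7, h9⟩ := hb.special
  refine h.not_ge (le_trans ?_ h9)
  by_cases h10 : Nat.card F < 4
  · exact (h4 h8 h5 h10).trans (Nat.mul_le_mul_left _ (Nat.le_mul_of_pos_left _ h6))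
  · refine h3.trans (le_trans ?_ (Nat.mul_le_mul_left _ (Nat.mul_le_mul_right _ (h7 (by omega)))))
    rw [h8]
    generalize Nat.card F = q
    ring_nf
    nlinarith [Nat.zero_le (q ^ 3), Nat.zero_le (q ^ 4), Nat.zero_le (q ^ 6)]

end Cfsg.Lib.Forms.MI
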