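import Cfsg.Agent.Lib.MinIdx.O5
import Cfsg.Agent.Lib.MinIdx.Fin

/-!
Minimal index of orthogonal groups, VI: projective versions.
-/

set_option autoImplicit false

namespace Cfsg.Lib.Forms.MI

open Module Form

universe u

variable {F : Type*} [Field F] [Finite F]

theorem card_Q_odd (m : ℕ) : ∀ {V : Type u} [AddCommGroup V] [Module F V] [FiniteDimensional F V]
    {D : Form (quadKind F) V} (_ : D.Nondeg) (_ : finrank F V = 2 * m + 1), ∃ a : F, a ≠ 0 ∧ ∀ c,
    Nat.card {x // D.Q x = c} + Nat.card F ^ m =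
      Nat.card F ^ (2 * m) + Nat.card F ^ m * Nat.card {t // a * t ^ 2 = c} := by
  induction m with
  | zero =>
    intro V _ _ _ D hD hn
    have : Nontrivial V := Module.nontrivial_of_finrank_eq_succ hn
    obtain ⟨a, ha⟩ := hD.quad_exists_Q_ne_zero
    refine ⟨_, ha, fun c => ?_⟩
    rw [(iso_fOne hn (a := a) (by rintro rfl; simp at ha)).card_Q_eq]
    simp [fOne_Q, add_comm]
  | succ m ih =>
    intro V _ _ _ D hD hn
    have := Module.finite_of_finite F (M := V)
    obtain ⟨e, f, h⟩ := Quad.exists_isHyp hD (by omega)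
    have h1 := h.finrank_hp
    obtain ⟨a, ha, h2⟩ := ih (h.nondeg_hp hD) (by omega)
    refine ⟨a, ha, fun c => ?_⟩
    rw [h.card_Q_eq (c := c) ⟨c, rfl⟩, card_ker_tr_quad, Module.natCard_eq_pow_finrank (K := F),
      show finrank F (D.hp e f) = 2 * m + 1 by omega]
    obtain ⟨r, hr⟩ : ∃ r, Nat.card F = r + 1 := ⟨_, (Nat.sub_add_cancel Nat.card_pos).symm⟩
    have h3 := congrArg (Nat.card F * ·) (h2 c)
    simp only [hr, Nat.add_sub_cancel] at h3 ⊢
    linear_combination h3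

variable {V : Type u} [AddCommGroup V] [Module F V] [FiniteDimensional F V]
  {D : Form (quadKind F) V}

theorem le_card_Q_odd (hD : D.Nondeg) {m : ℕ} (hn : finrank F V = 2 * m + 1) (c : F) :
    Nat.card F ^ m * (Nat.card F ^ m - 1) ≤ Nat.card {x // D.Q x = c} := by
  obtain ⟨a, -, h⟩ := card_Q_odd m hD hn
  have := h c
  rw [Nat.mul_sub_one, ← pow_add, ← two_mul]
  omega

theorem exists_card_Q_odd (hD : D.Nondeg) {m : ℕ} (hn : finrank F V = 2 * m + 1) :
    ∃ c, c ≠ 0 ∧ Nat.card {x // D.Q x = c} = Nat.card F ^ m * (Nat.card F ^ m - 1) := by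
  classical
  obtain ⟨a, ha, h⟩ := card_Q_odd m hD hn
  have h2 := Quad.two_ne_zero_of_odd hD hn
  obtain ⟨d, hd⟩ := exists_not_isSquare h2
  have h0 : d / a ≠ 0 := div_ne_zero (fun h => hd (h ▸ IsSquare.zero)) ha
  have := h (d / a)
  rw [card_mul_sq_eq h2 ha, if_neg h0, if_neg (by rwa [mul_div_cancel₀ _ ha])] at this
  refine ⟨_, h0, ?_⟩
  rw [Nat.mul_sub_one, ← pow_add, ← two_mul]
  omega

variable (hD : D.Nondeg) (hn : 7 ≤ finrank F V) {P : Type*} [Group P]
  (φ : P ≃* commutator D.isom ⧸ Subgroup.center (commutator D.isom)) {t : ℕ}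
include hD hn φ

open Classical in
theorem min_index_sing (h1 : t * (Nat.card F - 1) = nsv D)
    (h2 : ∀ v, D.Q v ≠ 0 → t * (if (2 : F) = 0 then 1 else 2) ≤ Nat.card {x // D.Q x = D.Q v})
    (h3 : t ≤ Nat.card F ^ (finrank F V - 3) * (Nat.card F + 2))
    (h4 : finrank F V = 8 → D.HasTS 4 → 4 ≤ Nat.card F) :
    (∀ H : Subgroup P, H ≠ ⊤ → t ≤ H.index) ∧ ∃ H : Subgroup P, H.index = t := by
  obtain ⟨e, f, h⟩ := Quad.exists_isHyp hD (by omega)
  have h5 := finrank_span_singleton (K := F) h.e_ne_zero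
  refine min_index_proj hD (Or.inr (by omega)) h (hD.commutator_eq_E (good_of_finrank (by omega))
    (by omega)) φ (le_relIndex_quad hD hn h1.le h2 h3 fun h h' h'' => absurd (h4 h h') h''.not_ge)
    (Quad.not_E_le_stab hD (by omega) (W := F ∙ e) (by simpa using h.e_ne_zero) fun h => by
      rw [h, finrank_top] at h5; omega) (Nat.le_of_mul_le_mul_right ?_
        (Nat.sub_pos_of_lt (two_le_card (F := F)))) (mem_stab_of_smul _)
  exact h1 ▸ relIndex_stab_le _ h.e_ne_zero fun g _ c hc =>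
    ⟨by simp [hc, h.e_ne_zero], D.Q_smul_of_Q (by simpa using h.Q_e) c⟩

open Classical in
theorem min_index_sing' {N : ℕ} (h1 : nsv D = N) (hd : Nat.card F - 1 ∣ N)
    (h2 : ∀ v, D.Q v ≠ 0 → N * (if (2 : F) = 0 then 1 else 2) ≤
      Nat.card {x // D.Q x = D.Q v} * (Nat.card F - 1))
    (h3' : N ≤ Nat.card F ^ (finrank F V - 1) + Nat.card F ^ (finrank F V - 3) * (Nat.card F - 2))
    (h4 : finrank F V = 8 → D.HasTS 4 → 4 ≤ Nat.card F) :
    (∀ H : Subgroup P, H ≠ ⊤ → N / (Nat.card F - 1) ≤ H.index) ∧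
      ∃ H : Subgroup P, H.index = N / (Nat.card F - 1) := by
  have hq := two_le_card (F := F)
  have h5 := Nat.div_mul_cancel hd
  refine min_index_sing hD hn φ (h5.trans h1.symm) (fun v hv => Nat.le_of_mul_le_mul_right
    (by rw [mul_right_comm, h5]; exact h2 v hv) (Nat.sub_pos_of_lt hq))
    (Nat.le_of_mul_le_mul_right (by
      rw [h5]
      refine h3'.trans (le_of_eq ?_)
      obtain ⟨r, hr⟩ := Nat.exists_eq_add_of_le' hq
      rw [show finrank F V - 1 = finrank F V - 3 + 2 by omega, pow_add, hr]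
      simp only [Nat.add_sub_cancel, show r + 2 - 1 = r + 1 by omega]
      ring) (Nat.sub_pos_of_lt hq)) h4

open Classical in
theorem min_index_ns (h1 : t * (Nat.card F - 1) ≤ nsv D)
    (h2 : ∀ v, D.Q v ≠ 0 → t * (if (2 : F) = 0 then 1 else 2) ≤ Nat.card {x // D.Q x = D.Q v})
    (h3 : t ≤ Nat.card F ^ (finrank F V - 3) * (Nat.card F + 2))
    (h4 : finrank F V = 8 → t ≤ (Nat.card F ^ 2 + 1) * (Nat.card F + 1) * Nat.card F ^ 3)
    {v : V} (hv : D.Q v ≠ 0)
    (h5 : Nat.card {x // D.Q x = D.Q v} ≤ t * if (2 : F) = 0 then 1 else 2) :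
    (∀ H : Subgroup P, H ≠ ⊤ → t ≤ H.index) ∧ ∃ H : Subgroup P, H.index = t := by
  obtain ⟨e, f, h⟩ := Quad.exists_isHyp hD (by omega)
  have h0 : v ≠ 0 := fun h => hv (h ▸ D.Q_zero)
  have h6 := finrank_span_singleton (K := F) h0
  refine min_index_proj hD (Or.inr (by omega)) h (hD.commutator_eq_E (good_of_finrank (by omega))
    (by omega)) φ (le_relIndex_quad hD hn h1 h2 h3 fun h _ _ => h4 h)
    (Quad.not_E_le_stab hD (by omega) (W := F ∙ v) (by simpa using h0) fun h => by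
      rw [h, finrank_top] at h6; omega) (Nat.le_of_mul_le_mul_right (le_trans ?_ h5)
        (by split_ifs <;> simp)) (mem_stab_of_smul _)
  refine le_trans (Nat.mul_le_mul_left _ ?_) (relIndex_stab_le' _ v (A := {v, -v}) ?_)
  · split_ifs with h2
    · exact (Set.ncard_pos (Set.toFinite _)).2 ⟨v, by simp⟩
    · rw [Set.ncard_pair fun h => h0 ?_]
      rw [eq_neg_iff_add_eq_zero, ← two_smul F] at h
      exact (smul_eq_zero.1 h).resolve_left h2
  · rintro _ (rfl | rfl)
    · exact ⟨Submodule.mem_span_singleton_self _, 1, one_mem _, rfl⟩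
    · exact ⟨neg_mem (Submodule.mem_span_singleton_self _),
        Quad.trans hD (by omega) _ _ h0 (neg_ne_zero.2 h0) (D.Q_neg v).symm⟩

end Cfsg.Lib.Forms.MI
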