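import Cfsg.Agent.Lib.MinIdx.U1
import Cfsg.Agent.Lib.MinIdx.O3
import Cfsg.Agent.Lib.MinIdx.Dual

/-!
Minimal index of symplectic groups, I: unipotent elements and index inequalities.
-/

set_option autoImplicit false

namespace Cfsg.Lib.Forms.MI

open Module Form Symp

theorem At_hyp {F : Type*} [Field F] {σ : F →+* F} {K : Kind σ} {V : Type*} [AddCommGroup V]
    [Module F V] {D : Form K V} {H : Subgroup D.isom} {a b : V} (ha : D.At H ⊥ a) (hb : D.At H ⊥ b)
    (hQa : D.Q a = 0) (hQb : D.Q b = 0) (hab : D.B a b ≠ 0) (c : F) : D.At H ⊥ (a + c • b) := by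
  have key : ∀ {a b : V}, D.At H ⊥ a → D.Q a = 0 → D.B a b ≠ 0 →
      D.At H (Submodule.span F {a, b}) a :=
    fun {a b} ha hQ hab => at_of_zSet (he := hQ) ha fun z hz hz' => by
      obtain ⟨s, t, rfl⟩ := Submodule.mem_span_pair.1 hz
      obtain rfl : t = 0 := by simpa [D.B_self_of_Q hQ, hab] using hz'
      simpa using smul_mem_zSet hQ s
  have h1 : a ∈ Submodule.span F {a, b} := Submodule.subset_span (by simp)
  have h2 : b ∈ Submodule.span F {a, b} := Submodule.subset_span (by simp)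
  exact ((key ha hQa hab).full (Set.pair_comm a b ▸ key hb hQb (D.ne_zero_symm hab)) h1 h2 hQa hQb
    hab _ (add_mem h1 (Submodule.smul_mem _ c h2)) fun H => D.ne_zero_symm hab (by
      simpa [D.B_self_of_Q hQb] using H b h2)).mono bot_le

namespace Sp

variable {F : Type*} [Field F] {V : Type*} [AddCommGroup V] [Module F V]
  {D : Form (altKind F) V} {H : Subgroup D.isom} {e u : V}

/-- The unipotent element `c e² + b e·u + d u²`. -/
def zl (h : D.B e u = 0) (c b d : F) : D.isom :=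
  D.eich e (b • u) c (isEich (by simp [h]) c) * Symp.tv D u d

theorem zl_apply (h : D.B e u = 0) (c b d : F) (x : V) : (zl h c b d).1 x =
    x + (c * D.B e x + b * D.B u x) • e + (b * D.B e x + d * D.B u x) • u := by
  simp only [zl, isom_mul_apply, eich_apply, tv_apply, D.B_lin, h, Symp.B_self, altKind_ε,
    RingHom.id_apply]
  module

theorem zl_mul (h : D.B e u = 0) (c b d c' b' d' : F) :
    zl h c b d * zl h c' b' d' = zl h (c + c') (b + b') (d + d') := isom_ext fun x => by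
  simp only [isom_mul_apply, zl_apply, D.B_lin, h, D.eq_zero_symm h, Symp.B_self]
  module

theorem zl_zero (h : D.B e u = 0) : zl h 0 0 0 = 1 := isom_ext fun x => by simp [zl_apply]

theorem zl_inv (h : D.B e u = 0) (c b d : F) : (zl h c b d)⁻¹ = zl h (-c) (-b) (-d) := by
  rw [inv_eq_iff_mul_eq_one, zl_mul]; simp [zl_zero]

theorem zl_add_mem {h : D.B e u = 0} {c b d c' b' d' : F} (h1 : zl h c b d ∈ H)
    (h2 : zl h c' b' d' ∈ H) : zl h (c + c') (b + b') (d + d') ∈ H := zl_mul h .. ▸ H.mul_mem h1 h2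

theorem zl_sub_mem {h : D.B e u = 0} {c b d c' b' d' : F} (h1 : zl h c b d ∈ H)
    (h2 : zl h c' b' d' ∈ H) : zl h (c - c') (b - b') (d - d') ∈ H := by
  simpa only [sub_eq_add_neg] using zl_add_mem h1 (zl_inv h .. ▸ H.inv_mem h2)

theorem zl_swap (h : D.B e u = 0) (c b d : F) : zl h c b d = zl (D.eq_zero_symm h) d b c :=
  isom_ext fun x => by simp only [zl_apply]; module

theorem B_add_smul (h : D.B e u = 0) (l : F) : D.B e (u + l • e) = 0 := by simp [h, Symp.B_self]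

theorem zl_add_smul (h : D.B e u = 0) (l c b d : F) :
    zl (B_add_smul h l) c b d = zl h (c + 2 * b * l + d * l ^ 2) (b + d * l) d :=
  isom_ext fun x => by simp only [zl_apply, D.B_lin, RingHom.id_apply]; module

theorem conj_zl (h : D.B e u = 0) (g : D.isom) (c b d : F) :
    g * zl h c b d * g⁻¹ = zl (e := g.1 e) (u := g.1 u) (by simp [h]) c b d :=
  isom_ext fun x => by simp [zl_apply, B_isom_left]

theorem conj_zl' (h : D.B e u = 0) {g : D.isom} {s r : F} (h1 : g.1 e = s • e) (h2 : g.1 u = r • u)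
    (c b d : F) : g * zl h c b d * g⁻¹ = zl h (c * s ^ 2) (b * s * r) (d * r ^ 2) := by
  rw [conj_zl]
  exact isom_ext fun x => by simp only [zl_apply, h1, h2, D.B_lin, RingHom.id_apply]; module

theorem conj_zl_mem {h : D.B e u = 0} {g : D.isom} (hg : g ∈ H) {s r : F} (h1 : g.1 e = s • e)
    (h2 : g.1 u = r • u) {c b d : F} (h3 : zl h c b d ∈ H) :
    zl h (c * s ^ 2) (b * s * r) (d * r ^ 2) ∈ H :=
  conj_zl' h h1 h2 c b d ▸ H.mul_mem (H.mul_mem hg h3) (H.inv_mem hg)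

theorem eich_eq_zl (h : D.B e u = 0) {b c : F} (h' : D.IsEich e (b • u) c) :
    D.eich e (b • u) c h' = zl h c b 0 := by simp [zl]

theorem eich_eq_zl' {c : F} (h' : D.IsEich e u c) : D.eich e u c h' = zl h'.B_ez c 1 0 := by
  simp [zl]

theorem tv_eq_zl (h : D.B e u = 0) (c : F) : Symp.tv D e c = zl h c 0 0 :=
  isom_ext fun x => by simp [zl_apply, tv_apply]

theorem tv_eq_zl' (h : D.B e u = 0) (d : F) : Symp.tv D u d = zl h 0 0 d :=
  isom_ext fun x => by simp [zl_apply, tv_apply]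

theorem tv_mul_eich (h : D.B e u = 0) {b c : F} (d : F) (h' : D.IsEich e (b • u) c) :
    Symp.tv D u d * D.eich e (b • u) c h' = zl h c b d := by
  rw [tv_eq_zl' h, eich_eq_zl h, zl_mul]; simp

/-- `H ∩ Q_e` modulo the transvections. -/
abbrev zs (H : Subgroup D.isom) (e : V) : AddSubgroup V := zSet H e (alt_Q D e)

theorem smul_mem_zs_iff (h : D.B e u = 0) {b : F} : b • u ∈ zs H e ↔ ∃ c, zl h c b 0 ∈ H :=
  ⟨fun ⟨c, h', h1⟩ => ⟨c, eich_eq_zl h h' ▸ h1⟩, fun ⟨c, h1⟩ =>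
    ⟨c, isEich (by simp [h]) c, (eich_eq_zl h _).symm ▸ h1⟩⟩

theorem mem_zs_iff (h : D.B e u = 0) : u ∈ zs H e ↔ ∃ c, zl h c 1 0 ∈ H := by
  simpa using smul_mem_zs_iff (H := H) h (b := 1)

/-- The parameters of the transvections at `e` in `H`. -/
def Ap (H : Subgroup D.isom) (e : V) : AddSubgroup F where
  carrier := {c | Symp.tv D e c ∈ H}
  zero_mem' := by simp
  add_mem' := fun ha hb => by simpa [Symp.tv_add] using H.mul_mem ha hb
  neg_mem' := fun hx => by simpa [← tv_inv] using hx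

theorem mem_Ap {c : F} : c ∈ Ap H e ↔ Symp.tv D e c ∈ H := Iff.rfl

theorem Ap_eq_top : Ap H e = ⊤ ↔ ∀ c, Symp.tv D e c ∈ H := AddSubgroup.eq_top_iff' _

theorem at_iff : D.At H ⊥ e ↔ Ap H e = ⊤ := by
  rw [Ap_eq_top]
  refine ⟨fun h1 c => eich_zero_eq_tv (isEich (D.B_zero_right e) c) ▸ h1 0 (by simp) _ _, fun h1 z hz d hd => ?_⟩
  obtain rfl : z = 0 := by simpa using hz
  exact eich_zero_eq_tv hd ▸ h1 d

theorem B_mem_Ap {z z' : V} (hz : z ∈ zs H e) (hz' : z' ∈ zs H e) : 2 * D.B z z' ∈ Ap H e := by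
  have := eich_zero_mem_of_zSet hz hz' (isEich (by simp) _)
  rwa [eich_zero_eq_tv, B_symm D z z', sub_neg_eq_add, ← two_mul] at this

theorem tv_mem_fix {x y : V} (h : D.B x y = 0) (c : F) : Symp.tv D x c ∈ D.fix (F ∙ y) := by
  simp [mem_fix_span, tv_apply, h]

theorem mem_fix_iff {g : D.isom} : g ∈ D.fix (F ∙ e) ↔ g.1 e = e := by simp [mem_fix_span]

/-- The group `Q_e`. -/
abbrev Qe (D : Form (altKind F) V) (e : V) : Subgroup D.isom := Qs (alt_Q D e) ⊤

theorem Qe_le_fix : Qe D e ≤ D.fix (F ∙ e) := (Qs_le_fix _ _).trans inf_le_right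

/-- `(H ∩ P) Q_e`. -/
abbrev kk (H P : Subgroup D.isom) (e : V) : Subgroup D.isom := (H ⊓ P) ⊔ Qe D e

theorem exists_of_mem_kk {P : Subgroup D.isom} (h0 : e ≠ 0) (hP : P ≤ D.stab (F ∙ e)) {g : D.isom}
    (hg : g ∈ kk H P e) : ∃ w c hc, g * D.eich e w c hc ∈ H ⊓ P := by
  obtain ⟨k, hk, t, ht, rfl⟩ := mem_sup_of_conj (H := H ⊓ P) (fun g hg n hn =>
    conj_mem_Qs _ (exists_smul_of_stab h0 (hP hg.2)).choose_spec.2 hn) hg
  obtain ⟨w, -, c, hc, h1⟩ := inv_mem ht
  exact ⟨w, c, hc, by simpa [← h1] using hk⟩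

variable [Finite V] [FiniteDimensional F V] [Finite F]

omit [FiniteDimensional F V] [Finite F] in
theorem index_Ap_le {P : Subgroup D.isom} (hP : ∀ c, Symp.tv D e c ∈ P) :
    (Ap H e).index ≤ H.relIndex P := by
  have := finite_isom (D := D)
  simpa using img_le (Symp.tv D e) ⊤ (fun x _ y _ => Symp.tv_add e x y) (A := Ap H e)
    (fun _ _ => Iff.rfl) fun c _ => hP c

omit [Finite F] in
theorem basic (hD : D.Nondeg) (h0 : e ≠ 0) {P : Subgroup D.isom} (h3 : Qe D e ≤ P) :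
    (kk H P e).relIndex P * (zs H e).relIndex (pe D e) * (Ap H e).index ≤ H.relIndex P := by
  have := finite_isom (D := D)
  refine le_trans ?_ (relIndex_mul_le h3 le_sup_left le_sup_right)
  rw [mul_assoc]
  refine Nat.mul_le_mul_left _ ?_
  obtain ⟨R, h4, h5⟩ := exists_img (Symp.tv D e) ⊤ fun x _ y _ => Symp.tv_add e x y
  have h6 : ∀ W, R ≤ Qs (alt_Q D e) W := fun W g hg => by
    obtain ⟨x, -, rfl⟩ := (h4 g).1 hg
    exact eich_zero_eq_tv (isEich (D.B_zero_right e) x) ▸ eich_mem_Qs _ W.zero_mem _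
  refine le_trans ?_ (relIndex_mul_le (K := Qs _ (zs H e)) (h6 ⊤) ?_ (h6 _))
  · rw [h5 H (Ap H e) fun _ _ => Iff.rfl, AddSubgroup.relIndex_top_right]
    exact Nat.mul_le_mul_right _ (relIndex_le_Qs hD _ h0 (smul_mem_zSet _))
  · rintro _ ⟨hg, z, -, d, hd, rfl⟩
    exact eich_mem_Qs _ (mem_zSet.2 ⟨d, hd, hg⟩) _

omit [Finite V] [Finite F] in
theorem exists_conj_sq (hD : D.Nondeg) (h0 : e ≠ 0) : ∀ c ∈ sqs F, ∃ g ∈ D.stab (F ∙ e),
    ∀ x, g * Symp.tv D e x * g⁻¹ = Symp.tv D e ((c : F) • x) := by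
  rintro _ ⟨t, rfl⟩
  obtain ⟨g, hg⟩ := exists_map hD h0 (smul_ne_zero t.ne_zero h0)
  refine ⟨g, mem_stab_of_mapsTo _ fun x hx => ?_, fun x => by simp [Symp.conj_tv, hg, tv_smul]⟩
  obtain ⟨a, rfl⟩ := Submodule.mem_span_singleton.1 hx
  rw [map_smul, hg]
  exact Submodule.smul_mem _ _ (smul_mem_span _ _)

/-- The product `κ w`. -/
noncomputable abbrev kw (H : Subgroup D.isom) (e : V) : ℕ :=
  (kk H (D.fix (F ∙ e)) e).relIndex (D.fix (F ∙ e)) * (zs H e).relIndex (pe D e)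

theorem basic_s (hD : D.Nondeg) (h0 : e ≠ 0) (hA : Ap H e ≠ ⊤) :
    (Nat.card (sqs F) + 1) * kw H e ≤ H.index := by
  have := finite_isom (D := D)
  exact (tau' (fix_le_stab _ _) (Symp.tv D e) hA (fun _ => Iff.rfl) (sqs F) (exists_conj_sq hD h0)
    (fun g hg x => by rw [Symp.conj_tv, mem_fix_iff.1 hg]) (basic hD h0 Qe_le_fix)).trans
    ((relIndex_mono H le_top).trans (Subgroup.relIndex_top_right H).le)

theorem basic_s' (hD : D.Nondeg) (h0 : e ≠ 0) (hA : Ap H e ≠ ⊤) :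
    Nat.card (sqs F) * (kw H e * (Ap H e).index) ≤ H.index * ((Ap H e).index - 1) := by
  have := finite_isom (D := D)
  exact (Nat.mul_le_mul_left _ (basic hD h0 Qe_le_fix)).trans ((tau (fix_le_stab _ _) (Symp.tv D e)
    hA (fun _ => Iff.rfl) (sqs F) (exists_conj_sq hD h0) fun g hg x => by
      rw [Symp.conj_tv, mem_fix_iff.1 hg]).trans (Nat.mul_le_mul_right _
        ((relIndex_mono H le_top).trans (Subgroup.relIndex_top_right H).le)))

omit [Finite V] in
theorem card_span (h0 : e ≠ 0) : Nat.card (F ∙ e).toAddSubgroup = Nat.card F := by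
  rw [show Nat.card (F ∙ e).toAddSubgroup = _ from Module.natCard_eq_pow_finrank (K := F) (V := F ∙ e),
    finrank_span_singleton h0, pow_one]

/-- Orbits of the vector stabiliser on `e^⊥ \ ⟨e⟩`. -/
theorem orb (hD : D.Nondeg) (h0 : e ≠ 0) {y : V} (hy : D.B e y = 0) (hy' : y ∉ F ∙ e)
    {K : Subgroup D.isom} {A : Set V} (hK : ∀ g ∈ K, g.1 e = e → g.1 y ∈ A) :
    (Nat.card F ^ (finrank F V - 1) - Nat.card F) *
      K.relIndex (D.fix (F ∙ e) ⊓ D.fix (F ∙ y)) ≤ K.relIndex (D.fix (F ∙ e)) * A.ncard := by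
  have h1 := ncard_mul_le_vec K (D.fix (F ∙ e)) y (A := A)
    (T := (pe D e : Set V) \ (F ∙ e : Submodule F V)) (fun z hz => by
      obtain ⟨g, h1, h2⟩ := hD.exists_fix_map_top (F ∙ e) hy' hz.2 (fun x hx => by
        obtain ⟨a, rfl⟩ := Submodule.mem_span_singleton.1 hx
        simp [hy, mem_pe.1 hz.1]) (by simp [alt_Q])
      exact ⟨g, h1, h2⟩) fun g hg hg' => hK g hg (mem_fix_iff.1 hg')
  rwa [Set.ncard_sdiff (fun z hz => by
    obtain ⟨a, rfl⟩ := Submodule.mem_span_singleton.1 hz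
    exact mem_pe.2 (by simp [Symp.B_self])), show ((F ∙ e : Submodule F V) : Set V).ncard = _ from
      card_span h0, show (pe D e : Set V).ncard = _ from card_pe hD h0] at h1

theorem orb' (hD : D.Nondeg) (h0 : e ≠ 0) {y : V} (hy : D.B e y = 0) (hy' : y ∉ F ∙ e)
    {K : Subgroup D.isom} {Y : AddSubgroup V} (h1 : (F ∙ e).toAddSubgroup ≤ Y)
    (hK : ∀ g ∈ K, g.1 e = e → g.1 y ∈ Y) {k : ℕ} (hk : finrank F V = k + 2) :
    (Nat.card F ^ k - 1) * K.relIndex (D.fix (F ∙ e) ⊓ D.fix (F ∙ y)) ≤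
      K.relIndex (D.fix (F ∙ e)) * ((F ∙ e).toAddSubgroup.relIndex Y - 1) := by
  have h2 := orb hD h0 hy hy' (K := K) (A := (Y : Set V) \ (F ∙ e : Submodule F V))
    fun g hg hg' => ⟨hK g hg hg', fun h => hy' ((fix_le_stab _ _ (mem_fix_iff.2 hg') y).2 h)⟩
  have h3 := AddSubgroup.relIndex_mul_relIndex ⊥ _ _ bot_le h1
  rw [AddSubgroup.relIndex_bot_left, AddSubgroup.relIndex_bot_left, card_span h0] at h3
  rw [Set.ncard_sdiff (show ((F ∙ e : Submodule F V) : Set V) ⊆ Y from h1),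
    show ((F ∙ e : Submodule F V) : Set V).ncard = _ from card_span h0,
    show (Y : Set V).ncard = _ from h3.symm, hk, show k + 2 - 1 = k + 1 from rfl, pow_succ',
    ← Nat.mul_sub_one, ← Nat.mul_sub_one, mul_assoc, mul_left_comm _ (Nat.card F)] at h2
  exact Nat.le_of_mul_le_mul_left h2 Nat.card_pos

theorem relIndex_mul_pe (hD : D.Nondeg) (h0 : e ≠ 0) {Y : AddSubgroup V}
    (h1 : (F ∙ e).toAddSubgroup ≤ Y) (h2 : Y ≤ pe D e) {k : ℕ} (hk : finrank F V = k + 2) :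
    (F ∙ e).toAddSubgroup.relIndex Y * Y.relIndex (pe D e) = Nat.card F ^ k := by
  have h3 := hD.finrank_perp (F ∙ e)
  rw [AddSubgroup.relIndex_mul_relIndex _ _ _ h1 h2, relIndex_submodule (h1.trans h2)]
  rw [finrank_span_singleton h0] at *
  congr 1
  omega

/-- Stabilisers of totally isotropic subspaces. -/
theorem ts_bound (hD : D.Nondeg) {S : Submodule F V} (hS : D.IsTS S) (h0 : S ≠ ⊥)
    (hH : H ≤ D.stab S) : Nat.card F ^ finrank F V - 1 ≤ H.index * (Nat.card F - 1) := by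
  have := finite_isom (D := D)
  have hq := two_le_card (F := F)
  have hp : ∀ {a b}, a ≤ b → Nat.card F ^ a ≤ Nat.card F ^ b := Nat.pow_le_pow_right (by omega)
  obtain ⟨e, he, he0⟩ := Submodule.exists_mem_ne_zero_of_ne_bot h0
  have h1 := ncard_mul_le_pt H ⊤ e (T := {x | x ≠ 0 ∧ x ∈ (⊤ : Submodule F V)})
    (A := {x | x ≠ 0 ∧ x ∈ S}) (fun y hy => (exists_map hD he0 hy.1).elim fun g hg =>
      ⟨g, trivial, 1, one_ne_zero, by simpa using hg⟩)
    fun g hg _ c hc => ⟨by simp [hc, he0], S.smul_mem _ (stab_mem (hH hg) he)⟩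
  rw [ncard_ne_zero_mem, ncard_ne_zero_mem, finrank_top, Subgroup.relIndex_top_right,
    top_inf_eq] at h1
  have h2 : Nat.card F ^ finrank F S - 1 ≤ H.relIndex (D.fix (F ∙ e)) * (Nat.card F - 1) := by
    have h3 := Nat.pos_of_ne_zero (relIndex_ne_zero' H (D.fix (F ∙ e)))
    obtain ⟨j, hj⟩ : ∃ j, finrank F S = j + 1 :=
      ⟨_, (Nat.succ_pred_eq_of_pos (Submodule.one_le_finrank_iff.2 h0)).symm⟩
    by_cases h4 : j = 0
    · rw [hj, h4, zero_add, pow_one]
      exact Nat.le_mul_of_pos_left _ h3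
    have h5 := hS.two_mul_finrank_le hD
    obtain ⟨k, hk⟩ : ∃ k, finrank F V = k + 2 := ⟨finrank F V - 2, by omega⟩
    have h6 := finrank_span_singleton (K := F) he0
    obtain ⟨y, hy, hy'⟩ := exists_not_mem_of_finrank_lt (U := S) (W := F ∙ e) (by omega)
    have h7 : F ∙ e ≤ S := (Submodule.span_singleton_le_iff_mem _ _).2 he
    have h8 := orb' hD he0 (hS.B_eq _ he _ hy) hy' (K := H) (Y := S.toAddSubgroup) h7
      (fun g hg _ => stab_mem (hH hg) hy) hk
    rw [relIndex_submodule h7, hj, h6, Nat.add_sub_cancel] at h8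
    have h9 : 0 < Nat.card F ^ j - 1 := Nat.sub_pos_of_lt (Nat.one_lt_pow h4 hq)
    refine Nat.le_of_mul_le_mul_right ?_ h9
    rw [mul_right_comm]
    refine le_trans ?_ (Nat.mul_le_mul_right _ h8)
    rw [hj]
    by_cases h10 : j = 1
    · rw [h10, pow_one]
      exact Nat.mul_le_mul_right _ ((Nat.sub_le_sub_right (hp (by omega)) 1).trans
        (Nat.le_mul_of_pos_right _ (Nat.pos_of_ne_zero (relIndex_ne_zero' _ _))))
    obtain ⟨x, hx, hx'⟩ : ∃ x ∈ D.hp e y, x ∉ D.perp S := exists_not_mem_of_finrank_lt (by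
      have := hD.finrank_perp S
      have := hD.finrank_perp (Submodule.span F {e, y})
      have := finrank_span_pair_le (F := F) e y
      change _ < finrank F (D.perp _)
      omega)
    have h11 : Nat.card F ≤ H.relIndex (D.fix (F ∙ e) ⊓ D.fix (F ∙ y)) := by
      refine le_trans (le_of_eq ?_) (index_Ap_le (e := x) fun c =>
        ⟨tv_mem_fix (D.eq_zero_symm ((mem_hp D).1 hx).1) c,
          tv_mem_fix (D.eq_zero_symm ((mem_hp D).1 hx).2) c⟩)
      rw [((Ap H x).eq_bot_iff_forall).2 fun c hc => ?_, AddSubgroup.index_bot]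
      obtain ⟨z, hz, hz'⟩ := not_mem_perp_iff.1 hx'
      by_contra h
      exact hx' (hS.le_perp ((S.smul_mem_iff (mul_ne_zero h hz')).1 (by
        simpa [tv_apply] using sub_mem (stab_mem (hH hc) hz) hz)))
    refine le_trans ?_ (Nat.mul_le_mul_right _ (Nat.mul_le_mul_left _ h11))
    refine le_trans ?_ (Nat.le_mul_of_pos_right _ (by omega))
    have h12 := hp (show 2 * j ≤ k by omega)
    have h13 := hp (show 1 ≤ j by omega)
    rw [two_mul, pow_add] at h12
    rw [pow_one] at h13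
    obtain ⟨a, ha⟩ : ∃ a, Nat.card F ^ j = a + 1 := ⟨Nat.card F ^ j - 1, by omega⟩
    obtain ⟨b, hb⟩ : ∃ b, Nat.card F ^ k = b + 1 := ⟨Nat.card F ^ k - 1,
      (Nat.sub_add_cancel (Nat.one_le_pow _ _ (by omega))).symm⟩
    rw [ha, hb] at h12
    rw [pow_succ, ha, hb]
    simp only [Nat.add_sub_cancel]
    nlinarith [Nat.mul_le_mul_right a (Nat.sub_le ((a + 1) * Nat.card F) 1),
      Nat.mul_le_mul_right (Nat.card F) h12]
  refine Nat.le_of_mul_le_mul_right ?_ (Nat.sub_pos_of_lt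
    (Nat.one_lt_pow (Submodule.one_le_finrank_iff.2 h0 |> Nat.ne_of_gt) hq))
  calc _ ≤ (Nat.card F ^ finrank F V - 1) * (H.relIndex (D.stab (F ∙ e)) * (Nat.card F - 1)) :=
        Nat.mul_le_mul_left _ (h2.trans (Nat.mul_le_mul_right _ (relIndex_mono _ (fix_le_stab _ _))))
    _ ≤ _ := by
        rw [← mul_assoc, mul_right_comm H.index]
        exact Nat.mul_le_mul_right _ h1

end Sp

end Cfsg.Lib.Forms.MI
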