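import Cfsg.Agent.Lib.MinIdx.Sp1

/-!
Minimal index of symplectic groups, II: the three types of points.
-/

set_option autoImplicit false

namespace Cfsg.Lib.Forms.MI.Sp

open Module Form Symp

theorem ar_ups {q Q κ υ w : ℕ} (hq : 2 ≤ q) (hQ : q ^ 2 ≤ Q) (h1 : Q - 1 ≤ κ * (υ - 1))
    (h2 : κ * w * (q - 1) + 1 ≤ q * Q) (h3 : υ ≤ w) : q ≤ υ := by
  by_contra h
  obtain ⟨p, rfl⟩ : ∃ p, q = p + 1 := ⟨q - 1, by omega⟩
  obtain ⟨R, rfl⟩ : ∃ R, Q = R + 1 := ⟨Q - 1, by nlinarith [Nat.sub_add_cancel (show 1 ≤ Q by nlinarith)]⟩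
  obtain ⟨a, rfl⟩ : ∃ a, υ = a + 1 := ⟨υ - 1, by
    rcases υ with _ | υ
    · simp at h1; nlinarith
    · rfl⟩
  simp only [Nat.add_sub_cancel] at h1 h2
  obtain ⟨b, rfl⟩ : ∃ b, p = a + 1 + b := ⟨p - (a + 1), by omega⟩
  have h4 := Nat.mul_le_mul_right ((a + 1) * (a + 1 + b)) h1
  have h5 := Nat.mul_le_mul_left a ((Nat.add_le_add_right
    (Nat.mul_le_mul_right (a + 1 + b) (Nat.mul_le_mul_left κ h3)) 1).trans h2)
  have h6 := Nat.mul_le_mul_left (b + 1) hQ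
  nlinarith [Nat.zero_le (a * b), Nat.zero_le (a * a * b), Nat.zero_le (a * b * b),
    Nat.zero_le (b * b), Nat.zero_le (b * b * b), Nat.zero_le (a * a)]

variable {F : Type*} [Field F] {V : Type*} [AddCommGroup V] [Module F V]
  {D : Form (altKind F) V} {H : Subgroup D.isom} {e u : V} {k : ℕ}

theorem kk_le : kk H (D.fix (F ∙ e)) e ≤ D.fix (F ∙ e) := sup_le inf_le_right Qe_le_fix

theorem exists_kk (h0 : e ≠ 0) {g : D.isom} (hg : g ∈ kk H (D.fix (F ∙ e)) e) :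
    ∃ h ∈ H, h.1 e = e ∧ ∀ z, D.B e z = 0 → ∃ a : F, h.1 z = g.1 z + a • e := by
  obtain ⟨w, c, hc, h1, h2⟩ := exists_of_mem_kk h0 (fix_le_stab _ _) hg
  exact ⟨_, h1, mem_fix_iff.1 h2, fun z hz => ⟨D.B w z, by
    simp [isom_mul_apply, eich_apply_of_perp _ hc hz, mem_fix_iff.1 (kk_le hg)]⟩⟩

theorem eq_zero_of_forall {A : AddSubgroup F} (hA : A ≠ ⊤) {b : F} (h : ∀ c, c * b ∈ A) : b = 0 :=
  by_contra fun hb => hA ((AddSubgroup.eq_top_iff' A).2 fun c => by simpa [hb] using h (c / b))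

theorem eich_mul_two (h2 : (2 : F) = 0) (h : D.B e u = 0) {z : V} {s a d : F}
    (h1 : D.IsEich e (z + s • u + a • e) d) (h3 : D.IsEich e z d) :
    D.eich e _ d h1 * D.eich e z d h3 = zl h (s * D.B u z) s 0 := isom_ext fun x => by
  simp only [isom_mul_apply, eich_apply, zl_apply, D.B_lin, h, h3.B_ez, h3.B_ze, Symp.B_self,
    D.eq_zero_symm h, altKind_ε, RingHom.id_apply]
  match_scalars <;> grind

/-- The form as a biadditive map. -/
def bA (D : Form (altKind F) V) : V →+ V →+ F :=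
  AddMonoidHom.mk' (fun x => (D.B x).toAddMonoidHom) fun x y => by ext; simp

@[simp] theorem bA_apply (x y : V) : bA D x y = D.B x y := rfl

/-- A proper subgroup of small index. -/
structure Sm (H : Subgroup D.isom) (k : ℕ) : Prop where
  nd : D.Nondeg
  hk : finrank F V = k + 2
  k2 : 2 ≤ k
  k4 : Nat.card F ≤ 3 → 4 ≤ k
  ne : H ≠ ⊤
  lt : (H.index + 1) * (Nat.card F - 1) ≤ Nat.card F ^ (k + 2) - 1
  two : Nat.card F = 2 → H.index + 3 ≤ 2 ^ (k + 1)

variable [Finite V] [FiniteDimensional F V] [Finite F]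

omit [Finite V] [FiniteDimensional F V] in
theorem three_le_index (h2 : (2 : F) ≠ 0) {A : AddSubgroup F} (hA : A ≠ ⊤) : 3 ≤ A.index := by
  have h1 := (odd_card_iff.2 h2).of_dvd_nat A.index_dvd_card
  have := mt AddSubgroup.index_eq_one.1 hA
  have := Nat.odd_iff.1 h1
  omega

omit [Finite V] [FiniteDimensional F V] in
theorem exists_ne_ne' (h : Nat.card F ≠ 2) (a b : F) : ∃ r, r ≠ a ∧ r ≠ b := by
  have := two_le_card (F := F)
  exact ENat.exists_ne_ne_of_three_le (by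
    rw [ENat.card_eq_coe_natCard]; exact_mod_cast (show 3 ≤ Nat.card F by omega)) a b

namespace Sm
variable (h : Sm H k)
include h

theorem not_ts {S : Submodule F V} (hS : D.IsTS S) (h0 : S ≠ ⊥) : ¬ H ≤ D.stab S := fun h1 => by
  have h2 := ts_bound h.nd hS h0 h1
  have h3 := h.lt
  have := two_le_card (F := F)
  rw [h.hk] at h2
  rw [add_mul] at h3
  omega

theorem exists_B (h0 : e ≠ 0) : ∃ g ∈ H, D.B e (g.1 e) ≠ 0 := by
  by_contra! h1
  let s : Set V := {x | ∃ g ∈ H, g.1 e = x}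
  have hB : ∀ x ∈ s, ∀ y ∈ s, D.B x y = 0 := by
    rintro _ ⟨g, hg, rfl⟩ _ ⟨k, hk, rfl⟩
    rw [B_isom_left]
    exact h1 (g⁻¹ * k) (H.mul_mem (H.inv_mem hg) hk)
  have hB' : Submodule.span F s ≤ D.perp (Submodule.span F s) :=
    Submodule.span_le.2 fun x hx => (mem_perp_span D).2 fun y hy => hB y hy x hx
  refine h.not_ts (S := Submodule.span F s) (isTS fun x hx y hy => hB' hy x hx)
    (fun h2 => h0 ((Submodule.span_eq_bot.1 h2) e ⟨1, H.one_mem, rfl⟩))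
    fun g hg => mem_stab_of_mapsTo _ fun x hx => ?_
  refine Submodule.span_le.2 (show s ⊆ (Submodule.span F s).comap (g.1 : V →ₗ[F] V) from ?_) hx
  rintro _ ⟨k, hk, rfl⟩
  exact Submodule.subset_span ⟨g * k, H.mul_mem hg hk, rfl⟩

theorem not_at (h0 : e ≠ 0) : ¬ D.At H ⊤ e := fun h1 => by
  obtain ⟨g, hg, h2⟩ := h.exists_B h0
  exact h.ne (top_le_iff.1 (E_eq_top h.nd ▸ h1.E_le_of_map h.nd (alt_Q D e) hg h2))

omit [Finite V] [FiniteDimensional F V] in
theorem le : H.index * (Nat.card F - 1) + Nat.card F ≤ Nat.card F * (Nat.card F * Nat.card F ^ k) := by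
  have h1 := h.lt
  have := two_le_card (F := F)
  have := Nat.one_le_pow (k + 2) (Nat.card F) (by omega)
  rw [add_mul] at h1
  rw [← pow_succ', ← pow_succ', show k + 1 + 1 = k + 2 from rfl]
  omega

omit [Finite V] [FiniteDimensional F V] in
theorem sq_le : Nat.card F ^ 2 ≤ Nat.card F ^ k := Nat.pow_le_pow_right Nat.card_pos h.k2

theorem num_odd (h0 : e ≠ 0) (hA : Ap H e ≠ ⊤) (h2 : (2 : F) ≠ 0) :
    (Nat.card F + 1) * kw H e ≤ 2 * H.index := by
  have h1 := basic_s h.nd h0 hA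
  rw [(card_sqs F).1 (odd_card_iff.2 h2)]
  nlinarith

theorem num_even (h0 : e ≠ 0) (hA : Ap H e ≠ ⊤) (h2 : (2 : F) = 0) :
    Nat.card F * kw H e ≤ H.index :=
  (card_sqs F).2 (fun h => odd_card_iff.1 h h2) ▸ basic_s h.nd h0 hA

theorem num_even' (h0 : e ≠ 0) (hA : Ap H e ≠ ⊤) (h2 : (2 : F) = 0) :
    kw H e * (Nat.card F - 1) + 1 ≤ Nat.card F * Nat.card F ^ k := by
  refine Nat.le_of_mul_le_mul_left (le_trans ?_ h.le) Nat.card_pos
  rw [mul_add, mul_one, ← mul_assoc]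
  exact Nat.add_le_add_right (Nat.mul_le_mul_right _ (h.num_even h0 hA h2)) _

theorem small (h0 : e ≠ 0) (hA : Ap H e ≠ ⊤) {m : ℕ} (hm : (Nat.card F ^ k - 1) * m ≤ kw H e)
    (hm0 : m ≠ 0) : Nat.card F ≠ 2 ∧ ((2 : F) = 0 → m = 1) ∧
      ∀ A : AddSubgroup F, A.index ≤ m → A = ⊤ := by
  have hq := two_le_card (F := F)
  have h3 := h.sq_le
  obtain ⟨R, hR⟩ : ∃ R, Nat.card F ^ k = R + 1 := ⟨_, (Nat.sub_add_cancel (Nat.one_le_pow _ _ (by omega))).symm⟩
  have h4 : Nat.card F ≠ 2 := fun h4 => by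
    have h5 := h.num_even h0 hA (by_contra fun h5 => absurd (h4 ▸ odd_card_iff.2 h5) (by decide))
    have h6 := h.two h4
    rw [h4] at hR h5 hm
    rw [pow_succ, hR] at h6
    rw [hR, Nat.add_sub_cancel] at hm
    nlinarith [Nat.pos_of_ne_zero hm0]
  obtain ⟨p, hp⟩ : ∃ p, Nat.card F = p + 3 := ⟨Nat.card F - 3, by omega⟩
  have h5 : (2 : F) = 0 → m = 1 := fun h2 => by
    have h5 := h.num_even' h0 hA h2
    have h6 : p ≠ 0 := fun h6 => odd_card_iff.1 (by rw [hp, h6]; decide) h2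
    by_contra h7
    rw [hR] at h3 h5 hm
    rw [hp] at h3 h5
    simp only [Nat.add_sub_cancel, show p + 3 - 1 = p + 2 from rfl] at h5 hm
    have := Nat.mul_le_mul_right (p + 2) ((Nat.mul_le_mul_left R (show 2 ≤ m by omega)).trans hm)
    nlinarith [Nat.pos_of_ne_zero h6, Nat.mul_le_mul_right R (Nat.pos_of_ne_zero h6)]
  refine ⟨h4, h5, fun A hA' => by_contra fun h6 => ?_⟩
  by_cases h2 : (2 : F) = 0
  · have := mt AddSubgroup.index_eq_one.1 h6
    have := A.index_ne_zero_of_finite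
    have := h5 h2
    omega
  have h7 := h.num_odd h0 hA h2
  have h8 := h.le
  rw [hR] at h3 h8 hm
  rw [hp] at h3 h7 h8
  simp only [Nat.add_sub_cancel, show p + 3 - 1 = p + 2 from rfl] at h8 hm
  have h9 := Nat.mul_le_mul_right (p + 2) ((Nat.mul_le_mul_left (p + 3 + 1)
    ((Nat.mul_le_mul_left R ((three_le_index h2 h6).trans hA')).trans hm)).trans h7)
  have h10 := Nat.mul_le_mul_left (p * p + 6 * p + 6) h3
  nlinarith [Nat.zero_le (p * p), Nat.zero_le (p * p * p), Nat.zero_le (p * p * p * p)]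

theorem tv_mem (h0 : e ≠ 0) (hA : Ap H e ≠ ⊤) {K P : Subgroup D.isom}
    (hm : (Nat.card F ^ k - 1) * K.relIndex P ≤ kw H e) {x : V} (hx : ∀ c, Symp.tv D x c ∈ P)
    (c : F) : Symp.tv D x c ∈ K :=
  have := finite_isom (D := D)
  Ap_eq_top.1 ((h.small h0 hA hm (relIndex_ne_zero' _ _)).2.2 _ (index_Ap_le hx)) c

/-- The middle case. -/
theorem mid (h0 : e ≠ 0) (hA : Ap H e ≠ ⊤) (h1 : ¬ zs H e ≤ (F ∙ e).toAddSubgroup)
    (h2 : ¬ pe D e ≤ zs H e) : k = 2 ∧ ∃ u ∉ F ∙ e, D.B e u = 0 ∧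
      ∀ z, z ∈ zs H e ↔ z ∈ Submodule.span F {e, u} := by
  have := finite_isom (D := D)
  obtain ⟨ψ, -, hψ⟩ := exists_chK (A := (⊥ : AddSubgroup F)) bot_ne_top
  have hd := fun {x} => exists_dual (bA D) (fun x hx c =>
    (h.nd.exists_perp_B_eq' (H := ⊥) hx c).imp fun _ h => h.2) rfl hψ (W := zs H e) (x := x)
  set Y := dl (bA D) (chK ψ) (zs H e)
  have h3 : (F ∙ e).toAddSubgroup ≤ Y := fun x hx z hz => by
    obtain ⟨a, rfl⟩ := Submodule.mem_span_singleton.1 hx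
    simp [perp_of_mem_zSet hz]
  have h4 : ∀ y ∈ Y, D.B e y = 0 := fun y hy => D.eq_zero_symm (eq_zero_of_forall hψ fun c => by
    simpa using hy _ (smul_mem_zSet _ c))
  have h5 : ∀ g ∈ kk H (D.fix (F ∙ e)) e, ∀ y ∈ Y, g.1 y ∈ Y := fun g hg y hy z hz => by
    obtain ⟨t, ht, h5, h6⟩ := exists_kk h0 hg
    obtain ⟨a, ha⟩ := h6 y (h4 y hy)
    have := hy _ (map_mem_zSet' hz (H.inv_mem ht) (isom_inv_apply_eq.2 h5))
    rw [bA_apply, ← B_isom_left, ha] at this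
    simpa [perp_of_mem_zSet hz] using this
  have h6 := relIndex_le_of_pairing (bA D) hψ (R := (F ∙ e).toAddSubgroup) (W := Y) (L := pe D e)
    (W' := zs H e) (fun x _ hx c => h.nd.exists_perp_B_eq' hx c) fun x hx z hz _ => hx z hz
  have h7 := fun y hy hy' => orb' h.nd h0 (h4 y hy) hy' h3 (fun g hg _ => h5 g hg y hy) h.hk
  have h8 := fun y hy hy' => (h7 y hy hy').trans
    (Nat.mul_le_mul_left _ ((Nat.sub_le _ 1).trans h6))
  have h9 : ∀ y ∈ Y, y ∉ F ∙ e → ∀ x ∈ D.hp e y, ∀ c, Symp.tv D x c ∈ kk H (D.fix (F ∙ e)) e :=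
    fun y hy hy' x hx => h.tv_mem h0 hA (h8 y hy hy') fun c =>
      ⟨tv_mem_fix (D.eq_zero_symm ((mem_hp D).1 hx).1) c,
        tv_mem_fix (D.eq_zero_symm ((mem_hp D).1 hx).2) c⟩
  have h10 : ∀ {y y'}, y ∈ Y → y ∉ F ∙ e → y' ∈ Y → y' ∉ Submodule.span F {e, y} →
      ∃ x₀ ∈ D.hp e y, D.B x₀ y' = 1 ∧ ∀ x ∈ D.hp e y, x ∈ Y := fun {y y'} hy h10 hy' h11 => by
    obtain ⟨x₀, h12, h13⟩ := h.nd.exists_perp_B_eq h11 1
    have key : ∀ x ∈ D.hp e y, D.B x y' ≠ 0 → x ∈ Y := fun x hx hx' => by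
      simpa [tv_apply, hx'] using Y.sub_mem (h5 _ (h9 y hy h10 x hx (D.B x y')⁻¹) y' hy') hy'
    refine ⟨x₀, h12, h13, fun x hx => by_contra fun hx' => hx' ?_⟩
    simpa using Y.sub_mem (key (x + x₀) (add_mem hx h12) (by
      simp [h13, not_not.1 (mt (key x hx) hx')])) (key x₀ h12 (by simp [h13]))
  obtain ⟨x₁, hx₁, h11⟩ := SetLike.not_le_iff_exists.1 h2
  obtain ⟨y, hy, h12⟩ := hd h11
  have hy' : y ∉ F ∙ e := fun h => h12 (by
    obtain ⟨a, rfl⟩ := Submodule.mem_span_singleton.1 h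
    simp [mem_pe.1 hx₁])
  have h13 : Y ≤ (Submodule.span F {e, y}).toAddSubgroup := fun y' h13 => by_contra fun h14 => by
    obtain ⟨x₀, h15, h16, h17⟩ := h10 hy hy' h13 h14
    obtain ⟨-, -, -, h18⟩ := h10 h13 (fun h => h14 (Submodule.span_mono (by simp) h)) hy fun h => by
      obtain ⟨a, b, h⟩ := Submodule.mem_span_pair.1 h
      have hb : b ≠ 0 := fun hb => hy' (Submodule.mem_span_singleton.2 ⟨a, by simpa [hb] using h⟩)
      exact h14 (Submodule.mem_span_pair.2 ⟨-(a / b), b⁻¹, by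
        rw [← h]; match_scalars <;> field_simp <;> ring⟩)
    obtain ⟨z, hz, hz'⟩ := SetLike.not_le_iff_exists.1 h1
    obtain ⟨x, hx, hx'⟩ := h.nd.exists_perp_B_eq hz' 1
    refine one_ne_zero (eq_zero_of_forall hψ fun c => ?_)
    simpa [hx'] using Y.add_mem (h17 _ (Submodule.smul_mem _ (D.B (c • x) y') h15))
      (h18 (c • x - D.B (c • x) y' • x₀) ((mem_hp D).2 ⟨by
        simp [mem_pe.1 hx, ((mem_hp D).1 h15).1], D.eq_zero_symm (by simp [h16])⟩)) z hz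
  have h14 : ∀ x ∈ D.hp e y, x ∈ zs H e := fun x hx => by_contra fun hx' => by
    obtain ⟨z, hz, hz'⟩ := hd hx'
    obtain ⟨a, b, rfl⟩ := Submodule.mem_span_pair.1 (h13 hz)
    simp [((mem_hp D).1 hx).1, ((mem_hp D).1 hx).2] at hz'
  have h15 : finrank F (Submodule.span F {e, y}) = 2 := by
    rw [Set.pair_comm, Submodule.span_insert, sup_comm, Submodule.finrank_sup_span_singleton hy',
      finrank_span_singleton h0]
  have h16 : ∀ z ∈ zs H e, ∀ x ∈ D.hp e y, D.B x z = 0 := fun z hz x hx => by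
    by_cases h16 : (2 : F) = 0
    swap
    · exact (mul_eq_zero.1 (eq_zero_of_forall hA fun c => by
        simpa [mul_left_comm] using B_mem_Ap (h14 _ (Submodule.smul_mem _ c hx)) hz)).resolve_left h16
    have h17 := AddSubgroup.relIndex_mul_relIndex _ _ _ h3 h13
    rw [relIndex_submodule (h3.trans h13), h15, finrank_span_singleton h0,
      show 2 - 1 = 1 from rfl, pow_one] at h17
    have h18 := ar_ups two_le_card h.sq_le ((Nat.le_mul_of_pos_right _ (Nat.pos_of_ne_zero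
      (relIndex_ne_zero' _ _))).trans (h7 y hy hy')) (h.num_even' h0 hA h16) h6
    have h19 : Y.relIndex (Submodule.span F {e, y}).toAddSubgroup = 1 := by
      have h20 : 0 < Nat.card F := Nat.card_pos
      rcases h : Y.relIndex (Submodule.span F {e, y}).toAddSubgroup with _ | _ | k
      · simp [h] at h17; omega
      · rfl
      · rw [h] at h17; nlinarith
    have h20 : z ∈ D.hp e y := (mem_hp D).2 ⟨perp_of_mem_zSet hz, eq_zero_of_forall hψ fun c => by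
      simpa using AddSubgroup.relIndex_eq_one.1 h19
        (Submodule.smul_mem _ c (Submodule.subset_span (by simp : y ∈ _))) z hz⟩
    by_contra h21
    have h22 : ∀ c : F, c ≠ 0 → zl ((mem_hp D).1 hx).1 c 1 0 ∈ H := fun c hc => by
      obtain ⟨t, ht, h22, h23⟩ := exists_kk h0 (h9 y hy hy' x hx c⁻¹)
      obtain ⟨d, hd, h24⟩ := h14 _ (Submodule.smul_mem _ (c / D.B x z) h20)
      obtain ⟨a, ha⟩ := h23 _ hd.B_ez
      have h25 := H.mul_mem (H.mul_mem ht h24) (H.inv_mem ht)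
      rw [conj_eich, D.eich_congr _ (isEich (z := (c / D.B x z) • z + (1 : F) • x + a • e)
        (by simp [((mem_hp D).1 hx).1, perp_of_mem_zSet hz, Symp.B_self]) d) h22
          (by rw [ha, tv_apply, D.B_smul_right]; match_scalars <;> field_simp) rfl] at h25
      have h26 := H.mul_mem h25 h24
      rw [eich_mul_two h16 ((mem_hp D).1 hx).1] at h26
      simpa [h21] using h26
    refine hA (Ap_eq_top.2 fun c => ?_)
    obtain ⟨r, h23, h24⟩ := exists_ne_ne' (h.small h0 hA (h8 y hy hy') (relIndex_ne_zero' _ _)).1 0 (-c)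
    simpa [tv_eq_zl ((mem_hp D).1 hx).1] using
      zl_sub_mem (h22 (r + c) fun h => h24 (eq_neg_of_add_eq_zero_left h)) (h22 r h23)
  have h17 : ∀ z ∈ zs H e, z ∈ Submodule.span F {e, y} := fun z hz =>
    h.nd.perp_perp (Submodule.span F {e, y}) ▸ h16 z hz
  have h18 := h.nd.finrank_perp (Submodule.span F {e, y})
  have h19 : D.perp (Submodule.span F {e, y}) ≤ _ := fun x hx => h17 x (h14 x hx)
  have h20 := Submodule.finrank_mono h19
  have h21 := h.k2
  rw [h.hk] at h18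
  exact ⟨by omega, y, hy', h4 y hy, fun z => ⟨h17 z, fun hz => h14 z
    ((Submodule.eq_of_le_of_finrank_eq h19 (by omega)).ge hz)⟩⟩

end Sm

end Cfsg.Lib.Forms.MI.Sp
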