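import Cfsg.Agent.Lib.MinIdx.Sp2

/-!
Minimal index of symplectic groups, III: points with trivial unipotent part.
-/

set_option autoImplicit false

namespace Cfsg.Lib.Forms.MI.Sp

open Module Form Symp

variable {F : Type*} [Field F] {V : Type*} [AddCommGroup V] [Module F V]
  {D : Form (altKind F) V} {H : Subgroup D.isom} {e u : V} {k : ℕ}

theorem conj_zl_mem' {h : D.B e u = 0} {g : D.isom} (hg : g ∈ H) {s r γ : F} (h1 : g.1 e = s • e)
    (h2 : g.1 u = r • u + γ • e) {c b d : F} (h3 : zl h c b d ∈ H) :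
    zl h (c * s ^ 2 + 2 * b * s * γ + d * γ ^ 2) (b * s * r + d * r * γ) (d * r ^ 2) ∈ H := by
  convert H.mul_mem (H.mul_mem hg h3) (H.inv_mem hg) using 1
  rw [conj_zl]
  exact isom_ext fun x => by simp only [zl_apply, h1, h2, D.B_lin, RingHom.id_apply]; module

theorem tv_mul_tv (h : D.B e u = 0) (a c d : F) :
    Symp.tv D (u + a • e) d * Symp.tv D e c = zl h (c + d * a ^ 2) (d * a) d :=
  isom_ext fun x => by
    simp only [isom_mul_apply, tv_apply, zl_apply, D.B_lin, RingHom.id_apply, Symp.B_self,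
      D.eq_zero_symm h]
    module

theorem exists_kk' {P : Subgroup D.isom} (h0 : e ≠ 0) (hP : P ≤ D.stab (F ∙ e)) {g : D.isom}
    (hg : g ∈ kk H P e) {s : F} (hs : g.1 e = s • e) :
    ∃ h ∈ H, h.1 e = s • e ∧ ∀ z, D.B e z = 0 → ∃ a : F, h.1 z = g.1 z + a • e := by
  obtain ⟨w, c, hc, h1, -⟩ := exists_of_mem_kk h0 hP hg
  exact ⟨_, h1, by rw [isom_mul_apply, eich_apply_self, hs], fun z hz => ⟨D.B w z * s, by
    simp [isom_mul_apply, eich_apply_of_perp _ hc hz, hs, smul_smul]⟩⟩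

theorem Ap_smul (h : Ap H e = ⊤) (c : F) : Ap H (c • e) = ⊤ :=
  Ap_eq_top.2 fun d => tv_smul c e d ▸ Ap_eq_top.1 h _

theorem Ap_conj (h : Ap H e = ⊤) {g : D.isom} (hg : g ∈ H) : Ap H (g.1 e) = ⊤ :=
  Ap_eq_top.2 fun d => Symp.conj_tv g e d ▸
    H.mul_mem (H.mul_mem hg (Ap_eq_top.1 h d)) (H.inv_mem hg)

theorem eq_bot_of_index [Finite F] {A : AddSubgroup F} (h : Nat.card F < 2 * A.index) : A = ⊥ := by
  have h1 := A.card_mul_index
  have h2 : 0 < Nat.card A := Nat.card_pos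
  exact AddSubgroup.eq_bot_of_card_le A (by nlinarith)

variable [FiniteDimensional F V]

theorem fix_le (hD : D.Nondeg) (h0 : e ≠ 0) {K : Subgroup D.isom} (h1 : Qe D e ≤ K)
    (h2 : ∀ x, D.B e x = 0 → ∀ c, Symp.tv D x c ∈ K) : D.fix (F ∙ e) ≤ K := fun g hg => by
  obtain ⟨f, hf⟩ := exists_isHyp' hD h0
  have h3 : D.B e (g.1 f) = D.B e f := by
    conv_lhs => rw [← mem_fix_iff.1 hg, B_isom]
  obtain ⟨d, hd, h4⟩ := D.exists_eich_map (alt_Q D e) h3 (by simp [h3, hf.B_ef]) (Q_isom g f)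
  obtain ⟨t, ht⟩ : D.eich _ _ d hd * g ∈ (extend hf.isOrthCompl.symm).range := by
    rw [range_extend _ hD, mem_fix_span]
    rintro _ (rfl | rfl)
    · rw [isom_mul_apply, mem_fix_iff.1 hg, eich_apply_self]
    · exact h4
  have h5 := eq_top_of_tv (hf.nondeg_hp hD) (K.comap (extend hf.isOrthCompl.symm)) fun p c =>
    Subgroup.mem_comap.2 ((extend_rk1 _ p c _).symm ▸ h2 p ((mem_hp D).1 p.2).1 c)
  simpa [ht] using K.mul_mem (K.inv_mem (h1 (eich_mem_Qs _ (AddSubgroup.mem_top _) hd)))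
    (Subgroup.mem_comap.1 (h5.ge (Subgroup.mem_top t)))

variable [Finite V] [Finite F]

namespace Sm
variable (h : Sm H k) (h0 : e ≠ 0) (hA : Ap H e ≠ ⊤) (hW : zs H e ≤ (F ∙ e).toAddSubgroup)
include h h0 hA hW

omit hA in
theorem t_w : (zs H e).relIndex (pe D e) = Nat.card F ^ k := by
  simpa [AddSubgroup.relIndex_eq_one.2 hW] using relIndex_mul_pe h.nd h0 (Y := zs H e) (fun x hx => by
    obtain ⟨a, rfl⟩ := Submodule.mem_span_singleton.1 hx
    exact smul_mem_zSet _ a) (zSet_le_pe _) h.hk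

omit hA in
theorem t_le : (Nat.card F ^ k - 1) * (kk H (D.fix (F ∙ e)) e).relIndex (D.fix (F ∙ e)) ≤ kw H e := by
  rw [kw, h.t_w h0 hW, mul_comm]
  exact Nat.mul_le_mul_left _ (Nat.sub_le _ _)

theorem t_lift : D.fix (F ∙ e) ≤ kk H (D.fix (F ∙ e)) e :=
  fix_le h.nd h0 le_sup_right fun _ hx => h.tv_mem h0 hA (h.t_le h0 hW) fun c =>
    tv_mem_fix (D.eq_zero_symm hx) c

theorem t_torus : ∃ t ∈ H, ∃ s r : F, t.1 e = s • e ∧ r * r = 1 ∧ s ≠ r ∧
    ∀ z, D.B e z = 0 → ∃ a : F, t.1 z = r • z + a • e := by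
  have := finite_isom (D := D)
  obtain ⟨f, hf⟩ := exists_isHyp' h.nd h0
  have key : ∀ {g : D.isom} {s r : F}, g.1 e = s • e → (∀ w ∈ D.hp e f, g.1 w = r • w) →
      g ∈ kk H (D.stab (F ∙ e)) e → r * r = 1 → s ≠ r → ∃ t ∈ H, ∃ s r : F, t.1 e = s • e ∧
        r * r = 1 ∧ s ≠ r ∧ ∀ z, D.B e z = 0 → ∃ a : F, t.1 z = r • z + a • e :=
    fun {g s r} h1 h2 h3 h4 h5 => by
      obtain ⟨t, ht, h6, h7⟩ := exists_kk' h0 le_rfl h3 h1
      refine ⟨t, ht, s, r, h6, h4, h5, fun z hz => ?_⟩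
      obtain ⟨a, ha⟩ := h7 z hz
      obtain ⟨w, hw, h8⟩ := hf.exists_comb z
      generalize (altKind F).ε * D.B f z = b at h8
      refine ⟨a + b * (s - r), ?_⟩
      rw [ha, h8, hz, map_add, map_add, map_smul, h1, h2 w hw, zero_smul, map_zero]
      module
  by_cases h2 : (2 : F) = 0
  swap
  · obtain ⟨g, h1, -, h3⟩ := hf.exists_torus h.nd (c := -1) (by simp)
    have h4 : (negOne D * g).1 e = e := by simp [isom_mul_apply, h1]
    exact key (g := negOne D * g) (s := 1) (r := -1) (by rw [h4, one_smul])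
      (fun w hw => by simp [isom_mul_apply, h3 w hw])
      (sup_le_sup_right (inf_le_inf_left _ (fix_le_stab _ _)) _
        (h.t_lift h0 hA hW (mem_fix_iff.2 h4))) (by simp) fun h => h2 (by linear_combination h)
  have hq := (h.small h0 hA (h.t_le h0 hW) (relIndex_ne_zero' _ _)).1
  obtain ⟨s, h1, h3⟩ := exists_ne_ne' hq 0 1
  obtain ⟨g, h4, -, h5⟩ := hf.exists_torus h.nd h1
  refine key h4 (r := 1) (by simpa using h5) (Subgroup.relIndex_eq_one.1 ?_
    (mem_stab_of_mapsTo (W := F ∙ e) _ fun x hx => ?_)) (one_mul 1) h3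
  swap
  · obtain ⟨a, rfl⟩ := Submodule.mem_span_singleton.1 hx
    rw [map_smul, h4]
    exact Submodule.smul_mem _ _ (smul_mem_span _ _)
  have h6 := basic_s' h.nd h0 hA
  have h7 := (basic (H := H) h.nd h0 (Qe_le_fix.trans (fix_le_stab _ _))).trans
    ((relIndex_mono H le_top).trans (Subgroup.relIndex_top_right H).le)
  have h8 := h.le
  have h9 := (card_sqs F).2 fun h => odd_card_iff.1 h h2
  have h10 : 0 < Nat.card F ^ k := Nat.pow_pos Nat.card_pos
  have h11 := two_le_card (F := F)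
  rw [kw, h.t_w h0 hW, Subgroup.relIndex_eq_one.2 (h.t_lift h0 hA hW), one_mul] at h6
  rw [h.t_w h0 hW, eq_bot_of_index (A := Ap H e) ?_, AddSubgroup.index_bot] at h7
  · have h12 := relIndex_ne_zero' (kk H (D.stab (F ∙ e)) e) (D.stab (F ∙ e))
    by_contra h13
    have := Nat.mul_le_mul_right (Nat.card F - 1) ((Nat.mul_le_mul_right _ (Nat.mul_le_mul_right _
      (show 2 ≤ _ by omega))).trans h7)
    generalize Nat.card F ^ k = Q at *
    obtain ⟨p, hp⟩ : ∃ p, Nat.card F = p + 3 := ⟨Nat.card F - 3, by omega⟩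
    rw [hp, show p + 3 - 1 = p + 2 from rfl] at h8 this
    nlinarith [Nat.zero_le (p * Q), Nat.zero_le (p * p * Q)]
  · obtain ⟨a, ha⟩ : ∃ a, (Ap H e).index = a + 1 :=
      ⟨_, (Nat.succ_pred_eq_of_ne_zero AddSubgroup.index_ne_zero_of_finite).symm⟩
    by_contra! h12
    generalize Nat.card F ^ k = Q at *
    rw [h9, Nat.add_sub_cancel] at h8
    rw [ha, Nat.add_sub_cancel] at h6
    rw [ha, h9] at h12
    generalize Nat.card (sqs F) = p at *
    have h13 : Q * (p * p * (a + 1)) ≤ Q * ((p + 1) * (p + 1) * a) := by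
      nlinarith [Nat.mul_le_mul_right p h6, Nat.mul_le_mul_right a h8]
    nlinarith [Nat.le_of_mul_le_mul_left h13 h10, Nat.mul_le_mul_right p h12]

theorem t_case : ∃ U : Submodule F V, e ∉ U ∧ (∀ u ∈ U, Ap H u = ⊤) ∧
    ∀ z, D.B e z = 0 → ∃ a : F, z + a • e ∈ U := by
  have := finite_isom (D := D)
  obtain ⟨t, ht, s, r, h1, h2, h3, h4⟩ := h.t_torus h0 hA hW
  let U := D.perp (F ∙ e) ⊓ LinearMap.ker ((t.1 : V →ₗ[F] V) - r • LinearMap.id)
  have hU : ∀ {x}, x ∈ U ↔ D.B e x = 0 ∧ t.1 x = r • x := by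
    simp [U, mem_perp_span_singleton, sub_eq_zero]
  have h5 : ∀ {x}, x ∈ U → x ∈ F ∙ e → x = 0 := fun hx hx' => by
    obtain ⟨a, rfl⟩ := Submodule.mem_span_singleton.1 hx'
    have := (hU.1 hx).2
    rw [map_smul, h1, smul_smul, smul_smul, mul_comm r] at this
    simp [(mul_eq_mul_left_iff.1 (smul_left_injective F h0 this)).resolve_left h3]
  have h6 : ∀ z, D.B e z = 0 → ∃ a : F, z + a • e ∈ U := fun z hz => by
    obtain ⟨a, ha⟩ := h4 z hz
    refine ⟨a / (r - s), hU.2 ⟨by simp [hz, Symp.B_self], ?_⟩⟩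
    have := sub_ne_zero.2 h3.symm
    rw [map_add, map_smul, ha, h1]
    match_scalars <;> field_simp
    ring
  have h7 : ∀ u ∈ U, ∀ d, ∃ c, Symp.tv D u d * Symp.tv D e c ∈ H := fun u hu d => by
    obtain ⟨w, c, hc, h7, -⟩ := exists_of_mem_kk h0 (fix_le_stab _ _)
      (h.t_lift h0 hA hW (tv_mem_fix (D.eq_zero_symm (hU.1 hu).1) d))
    have h8 := H.mul_mem (H.inv_mem h7) (H.mul_mem (H.mul_mem ht h7) (H.inv_mem ht))
    have h9 : D.B e (s • t.1 w) = 0 := by
      rw [D.B_smul_right, ← smul_eq_mul, ← LinearMap.smul_apply, ← RingHom.id_apply s,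
        ← LinearMap.map_smulₛₗ, ← h1, B_isom, hc.B_ez]
    rw [show t * (Symp.tv D u d * D.eich e w c hc) * t⁻¹ = Symp.tv D u d *
      D.eich e (s • t.1 w) (s * s * c) (isEich h9 _) by
        rw [← conj_mul, Symp.conj_tv, conj_eich, (hU.1 hu).2, tv_smul, sq, h2, one_mul,
          D.eich_congr _ ((hc.isom t).smul_left 1 |> fun _ => isEich (by simpa using h9) c) h1 rfl rfl,
          D.eich_smul_left s (isEich h9 _)]; rfl, mul_inv_rev, mul_assoc, inv_mul_cancel_left,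
      eich_inv, eich_mul] at h8
    obtain ⟨a, ha⟩ := h4 w hc.B_ez
    obtain ⟨b, hb⟩ := Submodule.mem_span_singleton.1 (hW ⟨_, _, h8⟩)
    have h10 : s * r - 1 ≠ 0 := fun h => h3 (by linear_combination r * h - s * h2)
    obtain ⟨c', hc', h11⟩ := exists_eich_eq_of_mem_span hc (Submodule.mem_span_singleton.2
      ⟨(b - s * a) / (s * r - 1), by
        rw [div_eq_inv_mul, mul_smul, inv_smul_eq_iff₀ h10]
        rw [ha] at hb
        linear_combination (norm := module) hb⟩)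
    exact ⟨c', by rwa [h11, eich_zero_eq_tv] at h7⟩
  have h8 : ∀ {u u' d c}, u ∈ U → u ≠ 0 → u' ∈ U → u' ≠ 0 → Symp.tv D u d * Symp.tv D e c ∈ H →
      Symp.tv D u' d * Symp.tv D e c ∈ H := fun {u u' d c} hu hu0 hu' hu0' h8 => by
    obtain ⟨g, h9, h10⟩ := h.nd.exists_fix_map_top (F ∙ e) (mt (h5 hu) hu0) (mt (h5 hu') hu0')
      (fun x hx => by
        obtain ⟨a, rfl⟩ := Submodule.mem_span_singleton.1 hx
        simp [(hU.1 hu).1, (hU.1 hu').1]) (by simp [alt_Q])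
    obtain ⟨l, hl, h11, h12⟩ := exists_kk h0 (h.t_lift h0 hA hW h9)
    obtain ⟨a, ha⟩ := h12 u (hU.1 hu).1
    obtain ⟨c', h13⟩ := h7 u' hu' d
    have h14 := H.mul_mem (H.mul_mem hl h8) (H.inv_mem hl)
    rw [← conj_mul, Symp.conj_tv, Symp.conj_tv, ha, h10, h11, tv_mul_tv (hU.1 hu').1] at h14
    have h15 := fun c => tv_mul_tv (hU.1 hu').1 0 c d
    simp only [zero_smul, add_zero] at h15
    rw [h15] at h13
    have h17 := zl_sub_mem h14 h13
    rw [sub_self, mul_zero, sub_zero] at h17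
    have h16 : d * a = 0 := by_contra fun h16 => hu0' (h5 hu' ((Submodule.smul_mem_iff _ h16).1
      (hW ((smul_mem_zs_iff (hU.1 hu').1).2 ⟨_, h17⟩))))
    rw [sq, ← mul_assoc, h16] at h14
    simpa [h15] using h14
  refine ⟨U, fun h => h0 (h5 h (Submodule.mem_span_singleton_self e)), fun u hu => ?_, h6⟩
  by_cases hu0 : u = 0
  · simp [Ap_eq_top, hu0]
  refine Ap_eq_top.2 fun d => ?_
  by_cases hq : 4 ≤ Nat.card F
  · obtain ⟨a, ha, ha'⟩ := exists_sq_ne_one (F := F) (Or.inl hq)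
    obtain ⟨c, hc⟩ := h7 u hu (d / (a ^ 2 - 1))
    have h9 := H.mul_mem (h8 hu hu0 (U.smul_mem a hu) (smul_ne_zero ha hu0) hc) (H.inv_mem hc)
    rw [mul_inv_rev, mul_assoc, mul_inv_cancel_left, tv_smul, tv_inv, ← Symp.tv_add] at h9
    convert h9 using 2
    have := sub_ne_zero.2 ha'
    field_simp
    ring
  have hq' := (h.small h0 hA (h.t_le h0 hW) (relIndex_ne_zero' _ _)).1
  have h9 := two_le_card (F := F)
  have h10 : (2 : F) ≠ 0 := odd_card_iff.1 (by rw [show Nat.card F = 3 by omega]; decide)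
  obtain ⟨v, hv, hv'⟩ : ∃ v ∈ D.hp e u, v ∉ Submodule.span F {e, u} :=
    exists_not_mem_of_finrank_lt (by
      have := h.nd.finrank_perp (Submodule.span F {e, u})
      have := finrank_span_pair_le (F := F) e u
      have := h.k4 (by omega)
      have := h.hk
      change _ < finrank F (D.perp _)
      omega)
  obtain ⟨a, ha⟩ := h6 v ((mem_hp D).1 hv).1
  have h11 : ∀ b c : F, c ≠ 0 → b • u + c • (v + a • e) ≠ 0 := fun b c hc h =>
    hv' (Submodule.mem_span_pair.2 ⟨-a, -(b / c), by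
      rw [← sub_eq_zero, ← smul_eq_zero_iff_right hc, ← neg_eq_zero, ← h]
      match_scalars <;> field_simp <;> ring⟩)
  have h12 : D.B u (v + a • e) = 0 := by simp [((mem_hp D).1 hv).2, D.eq_zero_symm (hU.1 hu).1]
  generalize v + a • e = w at *
  obtain ⟨c, hc⟩ := h7 u hu (d / 2)
  have h13 := fun b c' hc' => h8 hu hu0 (add_mem (U.smul_mem b hu) (U.smul_mem c' ha))
    (h11 b c' hc') hc
  convert H.mul_mem (H.mul_mem (H.mul_mem (h13 1 1 one_ne_zero) (h13 (-1) 1 one_ne_zero))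
    (H.inv_mem (h13 0 1 one_ne_zero))) (H.inv_mem (h13 0 1 one_ne_zero)) using 1
  rw [eq_mul_inv_iff_mul_eq, eq_mul_inv_iff_mul_eq]
  refine isom_ext fun x => ?_
  simp only [isom_mul_apply, tv_apply, D.B_lin, RingHom.id_apply, Symp.B_self, h12, (hU.1 hu).1,
    (hU.1 ha).1, D.eq_zero_symm h12, D.eq_zero_symm (hU.1 hu).1, D.eq_zero_symm (hU.1 ha).1]
  match_scalars <;> field_simp <;> ring

omit h0 hA hW in
/-- Not all points outside `X` are of the trivial type. -/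
theorem not_all (hT : ∀ e ≠ 0, Ap H e ≠ ⊤ → zs H e ≤ (F ∙ e).toAddSubgroup) : False := by
  have h0 : ∀ {e}, Ap H e ≠ ⊤ → e ≠ 0 := fun he h => he (by simp [Ap_eq_top, h])
  let S : Submodule F V :=
    { carrier := {x | Ap H x = ⊤}
      zero_mem' := by simp [Ap_eq_top]
      smul_mem' := fun c _ hx => Ap_smul hx c
      add_mem' := fun {a b} ha hb => by
        by_cases hab : D.B a b = 0
        swap
        · simpa using at_iff.1 (At_hyp (at_iff.2 ha) (at_iff.2 hb) (alt_Q D a) (alt_Q D b) hab 1)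
        by_contra h1
        obtain ⟨U, h2, h3, h4⟩ := h.t_case (h0 h1) h1 (hT _ (h0 h1) h1)
        have key : ∀ x, Ap H x = ⊤ → D.B (a + b) x = 0 → x ∈ U := fun x hx hx' => by
          obtain ⟨c, hc⟩ := h4 x hx'
          have h5 := Ap_eq_top.1 (h3 _ hc) 1
          rw [← mul_one (Symp.tv D _ 1), ← tv_zero (a + b), tv_mul_tv hx'] at h5
          have h8 := Ap_eq_top.1 hx 1
          rw [tv_eq_zl' hx'] at h8
          obtain ⟨r, hr⟩ := Submodule.mem_span_singleton.1 (hT _ (h0 h1) h1 ((smul_mem_zs_iff hx').2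
            ⟨_, by simpa using zl_sub_mem h5 h8⟩))
          by_cases h6 : c = 0
          · simpa [h6] using hc
          by_cases h7 : r = 0
          · simp [(smul_eq_zero.1 (hr.symm.trans (by simp [h7]))).resolve_left h6]
          · exact (h1 (by simpa [← hr, h7] using Ap_smul (Ap_smul hx c) r⁻¹)).elim
        exact h2 (add_mem (key a ha (by simp [Symp.B_self, D.eq_zero_symm hab]))
          (key b hb (by simp [Symp.B_self, hab]))) }
  have h1 : ∀ e ∉ S, ∀ z, D.B e z = 0 → ∃ a : F, z + a • e ∈ S := fun e he z hz => by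
    obtain ⟨U, -, h3, h4⟩ := h.t_case (h0 he) he (hT _ (h0 he) he)
    exact (h4 z hz).imp fun a ha => h3 _ ha
  have h2 : ¬ ⊤ ≤ S := fun h2 => h.ne (eq_top_of_tv h.nd H fun p => Ap_eq_top.1 (h2 trivial))
  obtain ⟨e, -, he, he'⟩ := exists_not_mem_not_mem h2 (B := D.perp S) fun h3 => by
    obtain ⟨e, -, he⟩ := SetLike.not_le_iff_exists.1 h2
    obtain ⟨z, hz, hz'⟩ := exists_not_mem_of_finrank_lt (U := D.perp (F ∙ e)) (W := F ∙ e) (by
      have := h.nd.finrank_perp (F ∙ e)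
      have := finrank_span_singleton_le (F := F) e
      have := h.k2
      have := h.hk
      omega)
    obtain ⟨a, ha⟩ := h1 e he z (mem_pe.1 hz)
    exact hz' (Submodule.mem_span_singleton.2 ⟨-a, by
      rw [neg_smul, neg_eq_iff_add_eq_zero, add_comm]; exact h.nd _ fun y => h3 trivial _ ha⟩)
  obtain ⟨s, hs, hs'⟩ := not_mem_perp_iff.1 he'
  have h3 : ∀ x ∈ D.perp S, D.B e x = 0 → x = 0 := fun x hx hx' => h.nd _ fun y => by
    obtain ⟨a, ha⟩ := h1 e he (y - (D.B e y / D.B e s) • s) (by simp [hs'])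
    simpa [hx s hs, hx'] using D.eq_zero_comm.2 (show D.B y x = 0 by simpa [hx s hs, hx'] using hx _ ha)
  refine h.not_ts (S := D.perp S) (isTS fun x hx y hy => ?_) (fun h4 => h2 ?_) fun g hg =>
    stab_le_stab_perp _ _ (mem_stab_of_mapsTo _ fun x hx => Ap_conj hx hg)
  · by_cases h4 : D.B e x = 0
    · simp [h3 x hx h4]
    · simpa [Symp.B_self, h4] using congrArg (D.B x) (h3 (D.B e x • y - D.B e y • x)
        (sub_mem (Submodule.smul_mem _ _ hy) (Submodule.smul_mem _ _ hx)) (by simp [mul_comm]))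
  · rw [← h.nd.perp_perp S, h4, perp_bot]

end Sm

end Cfsg.Lib.Forms.MI.Sp
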