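import Cfsg.Agent.Lib.MinIdx.Sp3

/-!
Minimal index of symplectic groups, IV: points of line type in dimension four.
-/

set_option autoImplicit false

namespace Cfsg.Lib.Forms.MI.Sp

open Module Form Symp

variable {F : Type*} [Field F] {V : Type*} [AddCommGroup V] [Module F V]
  {D : Form (altKind F) V} {H : Subgroup D.isom} {e u : V}

theorem tv_mul_eich' (h : D.B e u = 0) {a b c : F} (d : F) (h' : D.IsEich e (a • e + b • u) c) :
    Symp.tv D u d * D.eich e _ c h' = zl h (c + 2 * a) b d := isom_ext fun x => by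
  simp only [isom_mul_apply, tv_apply, eich_apply, zl_apply, D.B_lin, RingHom.id_apply, Symp.B_self,
    D.eq_zero_symm h, altKind_ε]
  module

theorem sq_tv_mul_eich (h2 : (2 : F) = 0) (h : D.B e u = 0) {z : V} {c : F} (d : F)
    (h' : D.IsEich e z c) : Symp.tv D u d * D.eich e z c h' * (Symp.tv D u d * D.eich e z c h') =
      zl h (d * D.B u z ^ 2) (d * D.B u z) 0 := isom_ext fun x => by
  simp only [isom_mul_apply, tv_apply, eich_apply, zl_apply, D.B_lin, RingHom.id_apply, Symp.B_self,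
    h, D.eq_zero_symm h, h'.B_ez, h'.B_ze, altKind_ε, B_symm D u z]
  match_scalars <;> grind

variable [FiniteDimensional F V] [Finite V] [Finite F]

namespace Sm
variable (h : Sm H 2) (h0 : e ≠ 0) (hA : Ap H e ≠ ⊤) (hu : u ∉ F ∙ e) (hB : D.B e u = 0)
  (hW : ∀ z, z ∈ zs H e ↔ z ∈ Submodule.span F {e, u})
include h h0 hu hB hW

theorem l_num : kw H e = (kk H (D.fix (F ∙ e)) e).relIndex (D.fix (F ∙ e)) * Nat.card F ∧
    (Nat.card F ^ 2 - 1) * (kk H (D.fix (F ∙ e)) e).relIndex (D.fix (F ∙ e) ⊓ D.fix (F ∙ u)) ≤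
      (kk H (D.fix (F ∙ e)) e).relIndex (D.fix (F ∙ e)) * (Nat.card F - 1) := by
  have h1 : zs H e = (Submodule.span F {e, u}).toAddSubgroup := AddSubgroup.ext hW
  have h2 : F ∙ e ≤ Submodule.span F {e, u} := Submodule.span_mono (by simp)
  have h3 : (F ∙ e).toAddSubgroup.relIndex (zs H e) = Nat.card F := by
    rw [h1, relIndex_submodule h2, Set.pair_comm, Submodule.span_insert, sup_comm,
      Submodule.finrank_sup_span_singleton hu, Nat.add_sub_cancel_left, pow_one]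
  have h4 := relIndex_mul_pe h.nd h0 (Y := zs H e) (h1 ▸ h2) (zSet_le_pe _) h.hk
  rw [h3, sq] at h4
  refine ⟨by rw [kw, Nat.eq_of_mul_eq_mul_left Nat.card_pos h4], ?_⟩
  rw [← h3]
  conv_lhs => rw [h3]
  refine orb' h.nd h0 hB hu (h1 ▸ h2) (fun g hg _ => ?_) h.hk
  obtain ⟨t, ht, h5, h6⟩ := exists_kk h0 hg
  obtain ⟨a, ha⟩ := h6 u hB
  simpa [ha] using (zs H e).sub_mem (map_mem_zSet' ((hW u).2 (Submodule.subset_span (by simp))) ht h5)
    (smul_mem_zSet _ a)

theorem l_le : Nat.card F + 1 ≤ (kk H (D.fix (F ∙ e)) e).relIndex (D.fix (F ∙ e)) := by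
  have := finite_isom (D := D)
  have h1 := (Nat.le_mul_of_pos_right _ (Nat.pos_of_ne_zero (relIndex_ne_zero' _ _))).trans
    (h.l_num h0 hu hB hW).2
  rw [← one_pow 2, Nat.sq_sub_sq, one_pow] at h1
  exact Nat.le_of_mul_le_mul_right h1 (Nat.sub_pos_of_lt two_le_card)

include hA

theorem l_torus : ∃ t ∈ H, ∃ r γ : F, t.1 e = e ∧ r ^ 2 ≠ 1 ∧ t.1 u = r • u + γ • e := by
  have := finite_isom (D := D)
  by_contra! h1
  have h2 := orb h.nd h0 hB hu (K := kk H (D.fix (F ∙ e)) e)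
    (A := (fun γ : F => u + γ • e) '' Set.univ ∪ (fun γ : F => -u + γ • e) '' Set.univ)
    fun g hg _ => by
      obtain ⟨t, ht, h5, h6⟩ := exists_kk h0 hg
      obtain ⟨a, ha⟩ := h6 u hB
      obtain ⟨γ, r, h7⟩ := Submodule.mem_span_pair.1 ((hW _).1
        (map_mem_zSet' ((hW u).2 (Submodule.subset_span (by simp))) ht h5))
      have h8 : g.1 u = r • u + (γ - a) • e := by
        rw [ha] at h7; linear_combination (norm := module) -h7
      rcases sq_eq_one_iff.1
        (by_contra fun h => h1 t ht r γ h5 h (by rw [← h7, add_comm])) with rfl | rfl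
      · exact Or.inl ⟨γ - a, trivial, by simp [h8]⟩
      · exact Or.inr ⟨γ - a, trivial, by simp [h8]⟩
  have h3 := fun f : F → V => (Set.ncard_image_le (f := f) (s := Set.univ)).trans (Set.ncard_univ F).le
  have h4 := ((Nat.le_mul_of_pos_right _ (Nat.pos_of_ne_zero (relIndex_ne_zero' _ _))).trans h2).trans
    (Nat.mul_le_mul_left _ ((Set.ncard_union_le _ _).trans (Nat.add_le_add (h3 _) (h3 _))))
  have h5 := (h.l_num h0 hu hB hW).1
  have h6 := h.le
  have h7 := mt h.k4 (by decide)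
  rw [h.hk, tsub_le_iff_right] at h4
  generalize (kk H (D.fix (F ∙ e)) e).relIndex (D.fix (F ∙ e)) = κ at *
  by_cases h8 : (2 : F) = 0
  · have h9 := h.num_even' h0 hA h8
    obtain ⟨p, hp⟩ : ∃ p, Nat.card F = p + 4 := ⟨Nat.card F - 4, by omega⟩
    rw [h5, hp, show p + 4 - 1 = p + 3 from rfl] at h9
    rw [hp, show 2 + 2 - 1 = 3 from rfl] at h4
    nlinarith [Nat.mul_le_mul_right (p + 3) h4, Nat.zero_le (p ^ 2), Nat.zero_le (p ^ 3),
      Nat.zero_le (p ^ 4)]
  · have h9 := Nat.mul_le_mul_right (Nat.card F - 1) (h.num_odd h0 hA h8)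
    have h10 := Nat.odd_iff.1 (odd_card_iff.2 h8)
    obtain ⟨p, hp⟩ : ∃ p, Nat.card F = p + 5 := ⟨Nat.card F - 5, by omega⟩
    rw [h5] at h9
    rw [hp, show p + 5 - 1 = p + 4 from rfl] at h9 h6
    rw [hp, show 2 + 2 - 1 = 3 from rfl] at h4
    nlinarith [Nat.mul_le_mul_right ((p + 6) * (p + 4)) h4, Nat.zero_le (p ^ 2), Nat.zero_le (p ^ 3),
      Nat.zero_le (p ^ 4), Nat.zero_le (p ^ 5)]

theorem l_bot (h2 : (2 : F) = 0) : Ap H e = ⊥ := by
  have h6 := basic_s' h.nd h0 hA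
  have h8 := h.le
  have h9 := (card_sqs F).2 fun h => odd_card_iff.1 h h2
  have h10 := h.l_le h0 hu hB hW
  rw [(h.l_num h0 hu hB hW).1] at h6
  refine eq_bot_of_index ?_
  obtain ⟨a, ha⟩ : ∃ a, (Ap H e).index = a + 1 :=
    ⟨_, (Nat.succ_pred_eq_of_ne_zero AddSubgroup.index_ne_zero_of_finite).symm⟩
  by_contra! h12
  have h13 := (Nat.mul_le_mul_left _ (Nat.mul_le_mul_right _ (Nat.mul_le_mul_right _ h10))).trans h6
  rw [ha, Nat.add_sub_cancel, h9] at h13
  rw [ha, h9] at h12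
  rw [h9, Nat.add_sub_cancel] at h8
  generalize Nat.card (sqs F) = p at *
  have h14 : (p + 1) * p * (p * (p + 2) * (a + 1)) ≤ (p + 1) * p * ((p * p + 3 * p + 3) * a) := by
    nlinarith [Nat.mul_le_mul_right p h13, Nat.mul_le_mul_right a h8]
  nlinarith [Nat.le_of_mul_le_mul_left h14 (by nlinarith), Nat.mul_le_mul_right (p + 3) h12]

theorem l_aux {t : D.isom} (ht : t ∈ H) {r : F} (h1 : t.1 e = e) (h2 : r ^ 2 ≠ 1)
    (h3 : t.1 u = r • u) : False := by
  have := finite_isom (D := D)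
  have h4 : ∀ {c b d}, zl hB c b d ∈ H → zl hB c (b * r) (d * r ^ 2) ∈ H := fun h4 => by
    simpa using conj_zl_mem ht (s := 1) (by simp [h1]) h3 h4
  have h5 : ∀ b, zl hB 0 b 0 ∈ H := fun b => by
    have h5 : r - 1 ≠ 0 := fun h => h2 (by rw [sub_eq_zero.1 h, one_pow])
    obtain ⟨c, hc⟩ := (smul_mem_zs_iff hB).1 ((hW ((b / (r - 1)) • u)).2
      (Submodule.smul_mem _ _ (Submodule.subset_span (by simp))))
    convert zl_sub_mem (h4 hc) hc using 2 <;> field_simp <;> ring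
  have h6 : Ap H u = ⊤ := Ap_eq_top.2 fun d => by
    have h6 := sub_ne_zero.2 h2
    obtain ⟨z, c, hc, h7, h8⟩ := exists_of_mem_kk h0 (fix_le_stab _ _) (h.tv_mem h0 hA
      ((h.l_num h0 hu hB hW).2.trans ((Nat.mul_le_mul_left _ (Nat.sub_le _ 1)).trans
        (h.l_num h0 hu hB hW).1.ge)) (x := u) (fun c => ⟨tv_mem_fix (D.eq_zero_symm hB) c,
          tv_mem_fix (Symp.B_self D u) c⟩) (d / (r ^ 2 - 1)))
    by_cases hd : d = 0
    · simp [hd]
    have h9 : D.B u z = 0 := by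
      by_cases h9 : (2 : F) = 0
      · have h10 := H.mul_mem h7 h7
        rw [sq_tv_mul_eich h9 hB] at h10
        have h11 := zl_sub_mem h10 (h5 (d / (r ^ 2 - 1) * D.B u z))
        rw [sub_self, sub_self, ← tv_eq_zl, ← mem_Ap] at h11
        simpa [h.l_bot h0 hA hu hB hW h9, hd, h6] using h11
      refine D.eq_zero_symm ((mul_eq_zero.1 (eq_zero_of_forall hA fun b => ?_)).resolve_left h9)
      have h10 := zl_sub_mem (conj_zl_mem' h7 (s := 1) (r := 1) (γ := D.B z u)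
        (by rw [mem_fix_iff.1 h8, one_smul]) (by simp [isom_mul_apply, eich_apply_of_perp _ hc hB, tv_apply,
          Symp.B_self, D.eq_zero_symm hB]) (h5 b)) (h5 b)
      rw [mem_Ap, tv_eq_zl hB]
      convert h10 using 2 <;> ring
    obtain ⟨a, b, rfl⟩ := Submodule.mem_span_pair.1 (((isTS fun x hx y hy => by
      obtain ⟨a, b, rfl⟩ := Submodule.mem_span_pair.1 hx
      obtain ⟨a', b', rfl⟩ := Submodule.mem_span_pair.1 hy
      simp [Symp.B_self, hB, D.eq_zero_symm hB]).eq_perp h.nd (by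
        rw [h.hk, Set.pair_comm, Submodule.span_insert, sup_comm,
          Submodule.finrank_sup_span_singleton hu, finrank_span_singleton h0])).le
            ((mem_hp D).2 ⟨hc.B_ez, h9⟩))
    rw [tv_mul_eich' hB] at h7
    have h10 := zl_sub_mem h7 (h5 b)
    rw [tv_eq_zl' hB]
    convert zl_sub_mem (h4 h10) h10 using 2 <;> field_simp <;> ring
  obtain ⟨g, hg, h7⟩ := h.exists_B (e := u) fun h => hu (h ▸ zero_mem _)
  have h8 := Ap_eq_top.1 (Ap_conj h6 hg) 1
  generalize g.1 u = y at h7 h8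
  have h9 : ∀ x ∈ ({u, y, e} : Set V), x ∈ Submodule.span F {u, y, e} := fun _ hx =>
    Submodule.subset_span hx
  have h10 : D.At H (Submodule.span F {u, y, e}) u :=
    at_of_zSet (he := alt_Q D u) (at_iff.2 h6) fun z hz hz' => by
      obtain ⟨a, b, c, rfl⟩ := Submodule.mem_span_triple.1 hz
      obtain rfl : b = 0 := by simpa [Symp.B_self, D.eq_zero_symm hB, h7] using hz'
      simpa using (zs H u).add_mem (smul_mem_zSet _ a)
        ((smul_mem_zs_iff (D.eq_zero_symm hB)).2 ⟨0, zl_swap hB 0 c 0 ▸ h5 c⟩)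
  have h11 := h10.full (h10.conj h8 fun z hz => by
      rw [tv_inv, tv_apply]
      exact add_mem hz (Submodule.smul_mem _ _ (h9 y (by simp)))) (h9 u (by simp))
    (add_mem (h9 u (by simp)) (Submodule.smul_mem _ _ (h9 y (by simp)))) (alt_Q D _) (alt_Q D _)
    (by simp [tv_apply, Symp.B_self, h7, D.ne_zero_symm h7])
  by_cases h12 : e ∈ D.perp (Submodule.span F {u, y, e})
  swap
  · exact hA (at_iff.1 ((h11 e (h9 e (by simp)) h12).mono bot_le))
  have h13 := h12 y (h9 y (by simp))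
  have h14 := h11 y (h9 y (by simp)) (fun h => h7 (h u (h9 u (by simp)))) e (h9 e (by simp)) 0
    (isEich h13 0)
  rw [eich_eq_zl', zl_swap] at h14
  obtain ⟨a, b, rfl⟩ := Submodule.mem_span_pair.1 ((hW y).1 ((mem_zs_iff _).2 ⟨0, h14⟩))
  simp [Symp.B_self, D.eq_zero_symm hB] at h7

theorem l_case : False := by
  obtain ⟨t, ht, r, γ, h1, h2, h3⟩ := h.l_torus h0 hA hu hB hW
  have h4 : r - 1 ≠ 0 := fun h => h2 (by rw [sub_eq_zero.1 h, one_pow])
  refine h.l_aux h0 hA (u := u + (γ / (r - 1)) • e)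
    (fun h => hu (by simpa using sub_mem h (smul_mem_span (γ / (r - 1)) e))) (B_add_smul hB _) (fun z => ?_) ht h1
    h2 (by rw [map_add, map_smul, h1, h3]; match_scalars <;> field_simp <;> ring)
  rw [hW, Submodule.mem_span_pair, Submodule.mem_span_pair]
  exact ⟨fun ⟨a, b, h⟩ => ⟨a - b * (γ / (r - 1)), b, by rw [← h]; module⟩,
    fun ⟨a, b, h⟩ => ⟨a + b * (γ / (r - 1)), b, by rw [← h]; module⟩⟩

end Sm

end Cfsg.Lib.Forms.MI.Sp
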