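import Cfsg.Agent.Lib.MinIdx.Sp4

/-!
Minimal index of symplectic groups, V: points of orthogonal type in characteristic two.
-/

set_option autoImplicit false

namespace Cfsg.Lib.Forms.MI.Sp

open Module Form Symp

variable {F : Type*} [Field F] {V : Type*} [AddCommGroup V] [Module F V]
  {D : Form (altKind F) V} {H : Subgroup D.isom} {e u v : V} {k : ℕ}
  {D₁ D₂ : Form (quadKind F) V}

/-- The quadratic form `D₁` polarises to `D`. -/
def Cp (D : Form (altKind F) V) (D₁ : Form (quadKind F) V) : Prop := ∀ x y, D₁.B x y = D.B x y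

/-- The quadratic form `Q + B(v, ·)²`. -/
def sh (h2 : (2 : F) = 0) (D₁ : Form (quadKind F) V) (v : V) : Form (quadKind F) V where
  B := D₁.B
  Q x := D₁.Q x + D₁.B v x ^ 2
  symm := D₁.symm
  Q_add x y := by
    rw [D₁.Q_add, map_add]; linear_combination D₁.B v x * D₁.B v y * h2
  Q_smul c x := by simp [D₁.Q_smul]; ring
  B_self x := by simp [D₁.B_self, h2]
  Q_mem _ := ⟨_, rfl⟩

theorem Cp.comap (h : Cp D D₁) (g : D.isom) : Cp D (D₁.comap (g.1 : V →ₗ[F] V)) := fun x y => by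
  simp [h _ _]

theorem Cp.nondeg (h : Cp D D₁) (hD : D.Nondeg) : D₁.Nondeg := fun x hx =>
  hD x fun y => h x y ▸ hx y

/-- The orthogonal group inside the symplectic group. -/
def incl (h : Cp D D₁) : D₁.isom →* D.isom where
  toFun g := ⟨g.1, Symp.mem_isom.2 fun x y => by rw [← h, ← h, B_isom]⟩
  map_one' := rfl
  map_mul' _ _ := rfl

theorem incl_eich (h2 : (2 : F) = 0) (h : Cp D D₁) {z : V} {d : F} (hd : D₁.IsEich e z d)
    (hd' : D.IsEich e z d) : incl h (D₁.eich e z d hd) = D.eich e z d hd' := isom_ext fun x => by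
  change (D₁.eich e z d hd).1 x = _
  simp only [eich_apply, h _ _, altKind_ε, quadKind_ε]
  match_scalars <;> grind

/-- `H` contains the Siegel elements of `D₁` at `e`. -/
def Sg (H : Subgroup D.isom) (D₁ : Form (quadKind F) V) (e : V) : Prop :=
  ∀ z (hz : D.B e z = 0), D.eich e z (D₁.Q z) (isEich hz _) ∈ H

theorem Sg.mem (h : Sg H D₁ e) (h2 : (2 : F) = 0) (hc : Cp D D₁) {z : V} {d : F}
    (hd : D₁.IsEich e z d) : D₁.eich e z d hd ∈ H.comap (incl hc) := by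
  obtain rfl : d = D₁.Q z := hd.tr_d
  exact Subgroup.mem_comap.2 ((incl_eich h2 hc hd _).symm ▸ h z (hc e z ▸ hd.B_ez))

theorem Sg.conj (h : Sg H D₁ e) {g : D.isom} (hg : g ∈ H) :
    Sg H (D₁.comap ((g⁻¹).1 : V →ₗ[F] V)) (g.1 e) := fun z hz => by
  have := H.mul_mem (H.mul_mem hg (h ((g⁻¹).1 z) (by rwa [← B_isom_left]))) (H.inv_mem hg)
  rwa [conj_eich, D.eich_congr _ (isEich hz _) rfl (isom_apply_inv g z) rfl] at this

theorem Sg.of_smul {c : F} (h : Sg H D₁ (c • e)) (hc : c ≠ 0) : Sg H D₁ e := fun z hz => by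
  have := h (c⁻¹ • z) (by simp [hz])
  rwa [D.eich_smul_left c (isEich (by simp [hz]) _), D.eich_congr _ (isEich hz (D₁.Q z)) rfl
    (by simp [hc]) (by simp [quad_Q_smul]; field_simp)] at this

theorem Sg.congr (h : Sg H D₁ e) (h' : ∀ z, D.B e z = 0 → D₂.Q z = D₁.Q z) : Sg H D₂ e :=
  fun z hz => D.eich_congr _ _ rfl rfl (h' z hz).symm ▸ h z hz

theorem sub_mem_Ap {z : V} {d d' : F} {h : D.IsEich e z d} {h' : D.IsEich e z d'}
    (h1 : D.eich e z d h ∈ H) (h2 : D.eich e z d' h' ∈ H) : d' - d ∈ Ap H e := by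
  obtain ⟨h3, h4⟩ := eich_eq_mul h h'
  rwa [h4, H.mul_mem_cancel_left h1, eich_zero_eq_tv] at h2

theorem sq_inj (h2 : (2 : F) = 0) {a b : F} (h : a ^ 2 = b ^ 2) : a = b :=
  sub_eq_zero.1 (pow_eq_zero_iff two_ne_zero |>.1 (by linear_combination h + (b ^ 2 - a * b) * h2))

variable [Finite F]

theorem exists_sq (h2 : (2 : F) = 0) (a : F) : ∃ b, b ^ 2 = a :=
  (isSquare_of_two_eq_zero h2 a).imp fun _ h => by rw [h, sq]

theorem eq_zero_of_sq (h2 : (2 : F) = 0) {A : AddSubgroup F} (hA : A ≠ ⊤) {b : F}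
    (h : ∀ c, c ^ 2 * b ∈ A) : b = 0 :=
  eq_zero_of_forall hA fun c => (exists_sq h2 c).elim fun s hs => hs ▸ h s

theorem Sg.adjust (h : Sg H D₁ e) (h2 : (2 : F) = 0) (hc : Cp D D₁) (he : D₁.Q e = 0)
    (hu : D.B e u ≠ 0) : ∃ D₂, Cp D D₂ ∧ D₂.Q e = 0 ∧ D₂.Q u = 0 ∧ Sg H D₂ e := by
  obtain ⟨s, hs⟩ := exists_sq h2 (D₁.Q u)
  refine ⟨sh h2 D₁ ((s / D.B e u) • e), hc, by simp [sh, hc _ _, he, Symp.B_self], ?_,
    h.congr fun z hz => by simp [sh, hc _ _, hz]⟩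
  simp only [sh, hc _ _, D.B_lin, RingHom.id_apply, div_mul_cancel₀ _ hu, hs]
  linear_combination D₁.Q u * h2

variable [FiniteDimensional F V]

theorem exists_diff (h2 : (2 : F) = 0) (hD : D.Nondeg) (h1 : Cp D D₁) (h3 : Cp D D₂) :
    ∃ v, ∀ x, D₂.Q x = D₁.Q x + D.B v x ^ 2 := by
  choose s hs using exists_sq h2
  obtain ⟨v, hv⟩ := hD.exists_rep
    { toFun := fun x => s (D₂.Q x - D₁.Q x)
      map_add' := fun x y => sq_inj h2 (by
        rw [add_sq, hs, hs, hs, quad_Q_add, quad_Q_add, h1, h3, h2]; ring)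
      map_smul' := fun c x => sq_inj h2 (by
        rw [RingHom.id_apply, smul_eq_mul, mul_pow, hs, hs, quad_Q_smul, quad_Q_smul]; ring) }
  exact ⟨v, fun x => by simp [hv, hs]⟩

omit [Finite F] in
theorem exists_quad (h2 : (2 : F) = 0) (hD : D.Nondeg) {V' : Type*} [AddCommGroup V'] [Module F V']
    [FiniteDimensional F V'] {D' : Form (quadKind F) V'} (h1 : D'.Nondeg)
    (hn : finrank F V = finrank F V') : ∃ D₁, Cp D D₁ ∧ D₁.Iso D' := by
  obtain ⟨φ, hφ⟩ := Symp.iso hD (D' := ofAlt D'.B fun x => by simp [quad_B_self, h2]) h1 hn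
  exact ⟨D'.comap φ, hφ.B_map, iso_comap D' φ⟩

/-- `D₁` describes `H ∩ Q_e` modulo `A`. -/
def Pc (H : Subgroup D.isom) (e : V) (A : AddSubgroup F) (D₁ : Form (quadKind F) V) : Prop :=
  Cp D D₁ ∧ ∀ z d h, D.eich e z d h ∈ H → d + D₁.Q z ∈ A

omit [FiniteDimensional F V] in
theorem Pc.Q_e (h2 : (2 : F) = 0) {A : AddSubgroup F} (hA : A ≠ ⊤) (h : Pc H e A D₁) :
    D₁.Q e = 0 := eq_zero_of_sq h2 hA fun c => by
  have h1 : D.B e (c • e) = 0 := by simp [Symp.B_self]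
  simpa [quad_Q_smul] using h.2 _ 0 (isEich h1 0) (by
    convert H.one_mem
    exact isom_ext fun x => by
      simp only [eich_apply, D.B_lin, altKind_ε, RingHom.id_apply, isom_one_apply]
      match_scalars <;> grind)

omit [FiniteDimensional F V] in
theorem Pc.inv (h2 : (2 : F) = 0) {A : AddSubgroup F} (hA : A ≠ ⊤) (h0 : e ≠ 0)
    (hW : pe D e ≤ zs H e) (h : Pc H e A D₁) {g : D.isom} (hg : g ∈ kk H (D.fix (F ∙ e)) e) {z : V}
    (hz : D.B e z = 0) : D₁.Q (g.1 z) = D₁.Q z := by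
  obtain ⟨t, ht, h1, h3⟩ := exists_kk h0 hg
  obtain ⟨a, ha⟩ := h3 z hz
  have h4 : D₁.Q (t.1 z) - D₁.Q z = 0 := eq_zero_of_sq h2 hA fun c => by
    obtain ⟨d, hd, h4⟩ := hW (mem_pe.2 (show D.B e (c • z) = 0 by simp [hz]))
    have h5 := H.mul_mem (H.mul_mem ht h4) (H.inv_mem ht)
    rw [conj_eich, D.eich_congr _ (h1 ▸ hd.isom t) h1 rfl rfl] at h5
    simpa [quad_Q_smul, mul_sub] using A.sub_mem (h.2 _ _ _ h5) (h.2 _ _ _ h4)
  have h5 : D.B (g.1 z) e = 0 := by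
    rw [← mem_fix_iff.1 (kk_le hg), B_isom, D.eq_zero_symm hz]
  simpa [ha, quad_Q_add, quad_Q_smul, h.Q_e h2 hA, h.1 _ _, h5, sub_eq_zero] using h4

variable [Finite V]

theorem exists_pc (h2 : (2 : F) = 0) (hD : D.Nondeg) (h0 : e ≠ 0) (hW : pe D e ≤ zs H e)
    {χ : AddChar F ℂ} (h1 : Ap H e ≤ chK χ) (hχ : chK χ ≠ ⊤) : ∃ D₁, Pc H e (chK χ) D₁ := by
  obtain ⟨m, hm⟩ := exists_finrank_eq hD
  obtain ⟨D₀, h3, -⟩ := exists_quad h2 hD (fPlus_nondeg m) (hm.trans (finrank_plus m).symm)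
  obtain ⟨f, hf⟩ := exists_isHyp' hD h0
  let π : V →ₗ[F] V := LinearMap.id - (D.B e).smulRight f
  choose d hd hd' using fun x => hW (mem_pe.2 (show D.B e (π x) = 0 by simp [π, hf.B_ef]))
  obtain ⟨v, hv⟩ := exists_char_rep (AddMonoidHom.mk' (fun v => AddMonoidHom.mk'
    (fun x => D.B v x ^ 2) fun x y => by rw [map_add, add_sq, h2]; ring) fun x y => by
      ext z; simp [add_sq, h2]) (fun x hx c => by
        obtain ⟨s, rfl⟩ := exists_sq h2 c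
        obtain ⟨z, -, hz⟩ := hD.exists_perp_B_eq' (H := ⊥) hx s
        exact ⟨z, by simp [hz]⟩) rfl (not_forall.1 (mt (AddSubgroup.eq_top_iff' (chK χ)).2 hχ))
    { toFun := fun x => χ (d x + D₀.Q (π x))
      map_zero_eq_one' := by
        have := hd' 0
        rw [D.eich_congr _ (isEich (D.B_zero_right e) _) rfl (map_zero π) rfl, eich_zero_eq_tv] at this
        simpa using mem_chK.1 (h1 this)
      map_add_eq_mul' := fun x y => by
        have h4 := H.mul_mem (hd' x) (hd' y)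
        rw [eich_mul, D.eich_congr _ (isEich (hd (x + y)).B_ez _) rfl (map_add π x y).symm rfl] at h4
        rw [← one_mul (χ _ * _), ← mem_chK.1 (h1 (sub_mem_Ap h4 (hd' _))), ← χ.map_add_eq_mul,
          ← χ.map_add_eq_mul, map_add π, quad_Q_add, h3]
        congr 1
        linear_combination D.B (π x) (π y) * h2 }
  refine ⟨sh h2 D₀ v, h3, fun z c hc h4 => ?_⟩
  have h5 : π z = z := by simp [π, hc.B_ez]
  have h6 := hd' z
  rw [D.eich_congr _ (isEich hc.B_ez _) rfl h5 rfl] at h6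
  have h7 : χ (d z + D₀.Q (π z)) = χ (D.B v z ^ 2) := hv z
  rw [mem_chK, show c + (sh h2 D₀ v).Q z = c - d z + (d z + D₀.Q (π z) + D.B v z ^ 2) by
    simp [sh, h3 _ _, h5]; ring, χ.map_add_eq_mul, χ.map_add_eq_mul, h7, ← χ.map_add_eq_mul,
    ← two_mul, h2, zero_mul, χ.map_zero_eq_one, mul_one]
  exact h1 (sub_mem_Ap h6 h4)

/-- `H` contains all Siegel elements of `D₁`. -/
def All (H : Subgroup D.isom) (D₁ : Form (quadKind F) V) : Prop :=
  Cp D D₁ ∧ ∀ x, D₁.Q x = 0 → Sg H D₁ x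

omit [Finite F] [FiniteDimensional F V] [Finite V] in
theorem All.comap (h : All H D₁) {g : D.isom} (hg : g ∈ H) :
    All H (D₁.comap (g.1 : V →ₗ[F] V)) :=
  ⟨h.1.comap g, fun x hx => by simpa using (h.2 _ hx).conj (H.inv_mem hg)⟩

omit [Finite F] [FiniteDimensional F V] [Finite V] in
theorem all_of_E (h2 : (2 : F) = 0) (hc : Cp D D₁) (h : D₁.E ≤ H.comap (incl hc)) : All H D₁ :=
  ⟨hc, fun x hx z hz => incl_eich h2 hc (isEich_quad hx ((hc x z).trans hz)) _ ▸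
    Subgroup.mem_comap.1 (h (eich_mem_E _ _ _ _))⟩

namespace Sm
variable (h : Sm H k) (h2 : (2 : F) = 0)
include h h2

theorem pc_eq (h0 : e ≠ 0) (hA : Ap H e ≠ ⊤) (hW : pe D e ≤ zs H e) {A A' : AddSubgroup F}
    (hA₁ : A ≠ ⊤) (hA₂ : A' ≠ ⊤) (h1 : Pc H e A D₁) (h3 : Pc H e A' D₂) {z : V} (hz : D.B e z = 0) :
    D₂.Q z = D₁.Q z := by
  have := finite_isom (D := D)
  obtain ⟨y, hy⟩ := exists_diff h2 h.nd h1.1 h3.1
  have h4 : D.B e y = 0 := D.eq_zero_symm (by simpa [h1.Q_e h2 hA₁, h3.Q_e h2 hA₂] using (hy e).symm)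
  by_cases h5 : y ∈ F ∙ e
  · obtain ⟨a, rfl⟩ := Submodule.mem_span_singleton.1 h5
    simp [hy, hz]
  have h6 := (orb h.nd h0 h4 h5 (K := kk H (D.fix (F ∙ e)) e)
    (A := (fun γ : F => y + γ • e) '' Set.univ) fun g hg _ => by
      obtain ⟨a, ha⟩ := Submodule.mem_span_singleton.1 (h.nd.perp_perp (F ∙ e) ▸ (mem_perp' D).2
        fun x hx => (by
          have h6 := hy ((g⁻¹).1 x)
          rw [h1.inv h2 hA₁ h0 hW (inv_mem hg) (mem_pe.1 hx),
            h3.inv h2 hA₂ h0 hW (inv_mem hg) (mem_pe.1 hx), hy, add_right_inj] at h6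
          rw [D.B_sub_left, B_isom_left, sq_inj h2 h6, sub_self] : D.B (g.1 y - y) x = 0))
      exact ⟨a, trivial, by simp [ha]⟩).trans
        (Nat.mul_le_mul_left _ ((Set.ncard_image_le (s := Set.univ)).trans (Set.ncard_univ F).le))
  rw [h.hk, show k + 2 - 1 = k + 1 from rfl, pow_succ', ← Nat.mul_sub_one, mul_assoc,
    mul_comm _ (Nat.card F)] at h6
  have h7 := (Nat.le_of_mul_le_mul_left h6 Nat.card_pos).trans (Nat.le_mul_of_pos_right _
    (Nat.pos_of_ne_zero (AddSubgroup.index_ne_zero_of_finite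
      (H := (zs H e).addSubgroupOf (pe D e)))))
  obtain ⟨c, h8, h9⟩ := exists_ne_ne' (h.small h0 hA h7 (relIndex_ne_zero' _ _)).1 0 1
  obtain ⟨x, hx, hx'⟩ := h.nd.exists_perp_B_eq' h5 1
  have h10 := fun c => h1.inv h2 hA₁ h0 hW (h.tv_mem h0 hA h7 (x := y) (fun c =>
    ⟨tv_mem_fix (D.eq_zero_symm h4) c, tv_mem_fix (Symp.B_self D y) c⟩) c) (mem_pe.1 hx)
  simp only [tv_apply, quad_Q_add, quad_Q_smul, h1.1 _ _, D.B_lin, B_symm D y x, hx'] at h10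
  exact (mul_ne_zero h8 (sub_ne_zero.2 h9) (by linear_combination h10 c - c ^ 2 * h10 1)).elim

theorem exists_sg (h0 : e ≠ 0) (hA : Ap H e ≠ ⊤) (hW : pe D e ≤ zs H e) :
    ∃ D₁, Cp D D₁ ∧ D₁.Q e = 0 ∧ Sg H D₁ e := by
  obtain ⟨χ, h1, h3⟩ := exists_chK hA
  obtain ⟨D₁, h4⟩ := exists_pc h2 h.nd h0 hW h1 h3
  refine ⟨D₁, h4.1, h4.Q_e h2 h3, fun z hz => ?_⟩
  obtain ⟨d, hd, h5⟩ := hW (mem_pe.2 hz)
  obtain ⟨h6, h7⟩ := eich_eq_mul hd (isEich hz (D₁.Q z))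
  rw [h7, eich_zero_eq_tv]
  refine H.mul_mem h5 (by_contra fun h8 => ?_)
  obtain ⟨ψ, h9, h10⟩ := exists_char_of_not_mem (W := Ap H e) h8
  have h11 : chK ψ ≠ ⊤ := fun h => h10 (mem_chK.1 (h ▸ AddSubgroup.mem_top _))
  obtain ⟨D₂, h12⟩ := exists_pc h2 h.nd h0 hW h9 h11
  refine h10 (mem_chK.1 ?_)
  convert h12.2 z d hd h5 using 1
  rw [h.pc_eq h2 h0 hA hW h3 h11 h4 h12 hz]
  linear_combination -d * h2

theorem two_forms (h0 : e ≠ 0) (h1 : Sg H D₁ e) (h3 : Sg H D₂ e)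
    (hv : ∀ x, D₂.Q x = D₁.Q x + D.B v x ^ 2) (hv' : v ∉ F ∙ e) : False :=
  h.not_at h0 (at_of_zSet (he := alt_Q D e) (at_iff.2 (Ap_eq_top.2 fun c => by
    obtain ⟨s, rfl⟩ := exists_sq h2 c
    obtain ⟨z, hz, hz'⟩ := h.nd.exists_perp_B_eq' hv' s
    simpa [hv, hz', mem_Ap] using sub_mem_Ap (h1 z (mem_pe.1 hz)) (h3 z (mem_pe.1 hz))))
      fun z _ hz => ⟨_, _, h1 z hz⟩)

theorem exists_all (h0 : e ≠ 0) (hc : Cp D D₁) (he : D₁.Q e = 0) (h1 : Sg H D₁ e) :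
    ∃ D₁, All H D₁ := by
  obtain ⟨g, hg, hb⟩ := h.exists_B h0
  obtain ⟨D₂, hc₂, hb₂, he₂, h3⟩ := (h1.conj hg).adjust h2 (hc.comap _) (by simpa using he)
    (D.ne_zero_symm hb)
  generalize g.1 e = b at *
  obtain ⟨D₁, hc, he, hb₁, h1⟩ := h1.adjust h2 hc he hb
  obtain ⟨v, hv⟩ := exists_diff h2 h.nd hc hc₂
  have h4 : D.B v e = 0 := by simpa [he, he₂] using (hv e).symm
  have h5 : D.B v b = 0 := by simpa [hb₁, hb₂] using (hv b).symm
  have hN := hc.nondeg h.nd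
  have h6 : D₁.At (H.comap (incl hc)) ⊤ e := fun _ _ _ hd => h1.mem h2 hc hd
  have h7 : ∀ {z d} (hd : D₁.IsEich b z d), D.B v z = 0 → D₁.eich b z d hd ∈ H.comap (incl hc) :=
    fun {z d} hd hz => by
      obtain rfl : d = D₂.Q z := by simpa [hv, hz] using hd.tr_d
      exact Subgroup.mem_comap.2 ((incl_eich h2 hc hd _).symm ▸ h3 z (hc b z ▸ hd.B_ez))
  refine ⟨D₁, all_of_E h2 hc ?_⟩
  by_cases h8 : v = 0
  · exact h6.E_le hN (fun _ _ _ hd => h7 hd (by simp [h8])) he hb₁ (hc e b ▸ hb)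
  by_cases h9 : ∃ z, D.B e z = 0 ∧ D.B b z = 0 ∧ D.B v z = 0 ∧ D₁.Q z ≠ 0
  · obtain ⟨z, h9, h10, h11, h12⟩ := h9
    refine h6.E_le_of_map hN he (h7 (isEich_quad hb₁ ((hc b z).trans h10)) h11) ?_
    simp [eich_apply, hc _ _, Symp.B_self, D.eq_zero_symm h9, h9, h12, hb, D.ne_zero_symm hb]
  exfalso
  push Not at h9
  have h10 := h9 v (D.eq_zero_symm h4) (D.eq_zero_symm h5) (Symp.B_self D v)
  obtain ⟨τ, h11, h12⟩ := exists_ne_ne' (F := F) (fun hq => by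
    obtain ⟨U, -, h11, h12⟩ := exists_le_kers ⊤ [D.B e, D.B b, D.B v]
    simp only [Submodule.mem_top, true_and, List.forall_mem_cons, List.not_mem_nil] at h12
    have h13 := ((isTS_quad (D := D₁) (U := U) fun z hz => h9 z ((h12 z).1 hz).1 ((h12 z).1 hz).2.1
      ((h12 z).1 hz).2.2.1).sup_span he fun z hz => (hc z e).trans
        (D.eq_zero_symm ((h12 z).1 hz).1)).two_mul_finrank_le hN
    rw [Submodule.finrank_sup_span_singleton fun h => D.ne_zero_symm hb ((h12 e).1 h).2.1] at h13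
    have := h.k4 (by omega)
    have := h.hk
    simp at h11
    omega) 0 1
  obtain ⟨w, h13, h14, h15⟩ := hN.exists_partner (H := Submodule.span F {e, b}) h10 (fun h => by
    obtain ⟨a, c, rfl⟩ := Submodule.mem_span_pair.1 h
    simp [Symp.B_self, hb, D.ne_zero_symm hb] at h4 h5
    simp [h4, h5] at h8) ((mem_hp D₁).2 ⟨(hc e v).trans (D.eq_zero_symm h4),
      (hc b v).trans (D.eq_zero_symm h5)⟩) 1 one_ne_zero
  obtain ⟨h16, h17⟩ := (mem_hp D₁).1 h13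
  rw [← hc] at hb h4 h5
  have h18 : ∀ y : F, D₁.IsEich e (y • w) 0 := fun y => ⟨he, by simp [h16], by simp [quad_Q_smul, h14]⟩
  have h19 : ∀ y : F, D₁.IsEich b (y • v) 0 := fun y =>
    ⟨hb₁, by simp [D₁.eq_zero_symm h5], by simp [quad_Q_smul, h10]⟩
  set t := D₁.eich _ _ _ (h18 (-τ⁻¹)) * D₁.eich _ _ _ (h19 ((1 - τ) / D₁.B e b)) *
    D₁.eich _ _ _ (h18 1) with ht
  have h20 : incl hc t ∈ H := (H.comap (incl hc)).mul_mem ((H.comap (incl hc)).mul_mem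
    (h6 _ trivial _ _) (h7 _ (by simp [Symp.B_self]))) (h6 _ trivial _ _)
  have h21 : t.1 b = τ • b ∧ t.1 v = τ • v := by
    simp only [ht, isom_mul_apply, eich_apply, D₁.B_lin, quadKind_ε, RingHom.id_apply, h4, h5, h15, h16,
      h17, D₁.eq_zero_symm h4, D₁.eq_zero_symm h5, D₁.eq_zero_symm h16, D₁.eq_zero_symm h17,
      quad_symm D₁ w v, quad_symm D₁ b e, D₁.B_self_of_Q he, D₁.B_self_of_Q hb₁, D₁.B_self_of_Q h10,
      D₁.B_self_of_Q h14]
    constructor <;> match_scalars <;> field_simp <;> ring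
  refine h.two_forms h2 (v := (τ - 1) • v) (fun h => hb (by simp [h])) h3
    (Sg.of_smul (h21.1 ▸ h3.conj h20) h11) (fun x => ?_) fun h => ?_
  · change D₂.Q ((t⁻¹).1 x) = _
    rw [hv, hv, Q_isom, ← hc, ← B_isom_left, h21.2, hc]
    simp only [D.B_lin, RingHom.id_apply]
    linear_combination (τ - 1) * D.B v x ^ 2 * h2
  · obtain ⟨a, ha⟩ := Submodule.mem_span_singleton.1 h
    simpa [h15, h17, sub_eq_zero, h12] using (congrArg (D₁.B · w) ha).symm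

theorem all_eq₁ (h1 : All H D₁) (h3 : All H D₂) (hv : ∀ x, D₂.Q x = D₁.Q x + D.B v x ^ 2) :
    D₁.Q v = 0 := by
  obtain ⟨x, -, h4, h5, h6⟩ := (Quad.sing D₁).exists ⊤ [D.B v] (by
    have := h.k2; simp [h.hk]; omega)
  by_contra h7
  refine h.two_forms h2 h4 (h1.2 x h5) (h3.2 x (by simp [hv, h5, h6 (D.B v) (by simp)])) hv fun h => ?_
  obtain ⟨a, rfl⟩ := Submodule.mem_span_singleton.1 h
  simp [quad_Q_smul, h5] at h7

theorem all_eq (h1 : All H D₁) (h3 : All H D₂) (x : V) : D₂.Q x = D₁.Q x := by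
  obtain ⟨v, hv⟩ := exists_diff h2 h.nd h1.1 h3.1
  have h4 := h.all_eq₁ h2 h1 h3 hv
  by_cases h0 : v = 0
  · simp [hv, h0]
  exfalso
  by_cases hq : Nat.card F = 2
  · obtain ⟨x, -, h5, h6, h7⟩ := (Quad.sing D₁).exists_not_mem ⊤ (F ∙ v) [D.B v] (by
      have := h.k4 (by omega); simp [h.hk, finrank_span_singleton h0]; omega)
    refine h.two_forms h2 (fun h => h5 (by simp [h])) (h1.2 x h6)
      (h3.2 x (by simp [hv, h6, h7 (D.B v) (by simp)])) hv fun h => h5 ?_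
    obtain ⟨a, rfl⟩ := Submodule.mem_span_singleton.1 h
    exact Submodule.mem_span_singleton.2 ⟨a⁻¹, by simp [smul_smul, left_ne_zero_of_smul h0]⟩
  obtain ⟨c, h5, h6⟩ := exists_ne_ne' hq 0 1
  have hN := h1.1.nondeg h.nd
  obtain ⟨f, hf⟩ := hN.exists_isHyp h4 h0
  obtain ⟨z, hz⟩ := Quad.exists_Q_eq (hf.nondeg_hp hN) (by
    have := hf.finrank_hp; have := h.hk; have := h.k2; omega) c
  obtain ⟨h7, h8⟩ := (mem_hp D₁).1 z.2
  set t := D₁.eich f z _ (isEich_quad hf.Q_f h8) with ht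
  have h9 := h.all_eq₁ h2 h3 (h3.comap (H.inv_mem (Subgroup.mem_comap.1
    ((h1.2 f hf.Q_f).mem h2 h1.1 (isEich_quad hf.Q_f h8))))) (v := t.1 v - v) fun x => by
      change D₂.Q ((t⁻¹).1 x) = _
      rw [hv, hv, Q_isom, ← h1.1, ← B_isom_left, h1.1, D.B_sub_left]
      linear_combination (D.B (t.1 v) x - D.B v x) * D.B v x * h2
  have h10 : D₁.B v (t.1 v) = -c := by
    simp [ht, eich_apply, hf.B_ee, hf.B_ef, hf.B_fe, h7, D₁.eq_zero_symm h7, ← hz]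
  rw [hv, quad_Q_sub, Q_isom, h4, quad_symm, h10, D.B_sub_right, ← h1.1, h10, Symp.B_self] at h9
  exact mul_ne_zero h5 (sub_ne_zero.2 h6) (by linear_combination h9 - c * h2)

omit h2 in
theorem main : (2 : F) = 0 ∧ ∃ D₁, Cp D D₁ ∧ ∀ g ∈ H, ∀ x, D₁.Q (g.1 x) = D₁.Q x := by
  obtain ⟨e, h0, hA, h1⟩ : ∃ e ≠ 0, Ap H e ≠ ⊤ ∧ ¬ zs H e ≤ (F ∙ e).toAddSubgroup := by
    by_contra! h1
    exact h.not_all h1
  by_cases hW : pe D e ≤ zs H e
  swap
  · obtain ⟨rfl, u, hu, hB, h3⟩ := h.mid h0 hA h1 hW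
    exact (h.l_case h0 hA hu hB h3).elim
  have h2 : (2 : F) = 0 := eq_zero_of_forall hA fun c => by
    obtain ⟨z, hz, hz'⟩ := SetLike.not_le_iff_exists.1 h1
    obtain ⟨x, hx, hx'⟩ := h.nd.exists_perp_B_eq hz' c
    simpa [hx', mul_comm] using B_mem_Ap (hW hx) hz
  obtain ⟨D₁, h3, h4, h5⟩ := h.exists_sg h2 h0 hA hW
  obtain ⟨D₁, h6⟩ := h.exists_all h2 h0 h3 h4 h5
  exact ⟨h2, D₁, h6.1, fun g hg => h.all_eq h2 h6 (h6.comap hg)⟩

end Sm

end Cfsg.Lib.Forms.MI.Sp
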