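import Cfsg.Agent.Lib.MinIdx.Sp5

/-!
Minimal index of symplectic groups, VI: the main theorems.
-/

set_option autoImplicit false

namespace Cfsg.Lib.Forms.MI.Sp

open Module Form Symp

theorem transfer {G P : Type*} [Group G] [Group P] (φ : P ≃* G ⧸ Subgroup.center G) {t : ℕ}
    (h1 : ∀ H : Subgroup G, H ≠ ⊤ → t ≤ H.index) {H : Subgroup G} (h2 : Subgroup.center G ≤ H)
    (h3 : H.index = t) : (∀ H : Subgroup P, H ≠ ⊤ → t ≤ H.index) ∧ ∃ H : Subgroup P, H.index = t := by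
  let π := φ.symm.toMonoidHom.comp (QuotientGroup.mk' (Subgroup.center G))
  have hπ : Function.Surjective π := φ.symm.surjective.comp (QuotientGroup.mk'_surjective _)
  refine ⟨fun K hK => ?_, H.map π, h3 ▸ H.index_map_eq hπ fun g hg => h2 (by simpa [π] using hg)⟩
  rw [← K.index_comap_of_surjective hπ]
  exact h1 _ fun h => hK (Subgroup.comap_injective hπ (by rw [h]; rfl))

variable {F : Type*} [Field F] {V : Type*} [AddCommGroup V] [Module F V]
  {D : Form (altKind F) V} {H : Subgroup D.isom} {D₁ : Form (quadKind F) V} {m : ℕ}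
  [Finite F] [FiniteDimensional F V]

theorem index_incl (hD : D.Nondeg) (hn : finrank F V = 2 * (m + 1)) (hc : Cp D D₁) :
    (D₁.HasTS (m + 1) → 2 * (incl hc).range.index =
      Nat.card F ^ (m + 1) * (Nat.card F ^ (m + 1) + 1)) ∧ (¬ D₁.HasTS (m + 1) →
        2 * (incl hc).range.index = Nat.card F ^ (m + 1) * (Nat.card F ^ (m + 1) - 1)) := by
  have h1 := (incl hc).range.index_mul_card
  have hq := two_le_card (F := F)
  rw [← Nat.card_congr (MonoidHom.ofInjective (f := incl hc) fun a b h =>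
      isom_ext fun x => DFunLike.congr_fun (congrArg Subtype.val h) x).toEquiv, Symp.card_isom hD hn,
    spOrder, Finset.prod_range_succ, show (m + 1) ^ 2 = (m + 1) * m + (m + 1) by ring, pow_add,
    mul_comm 2 (m + 1), pow_mul _ (m + 1) 2, ← one_pow 2, Nat.sq_sub_sq, one_pow] at h1
  have h2 : 0 < Nat.card F ^ ((m + 1) * m) * ∏ i ∈ Finset.range m, (Nat.card F ^ (2 * (i + 1)) - 1) :=
    Nat.mul_pos (Nat.pow_pos (by omega)) (Finset.prod_pos fun i _ =>
      Nat.sub_pos_of_lt (Nat.one_lt_pow (by omega) hq))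
  have h3 : 0 < Nat.card F ^ (m + 1) - 1 := Nat.sub_pos_of_lt (Nat.one_lt_pow (by omega) hq)
  refine ⟨fun h => ?_, fun h => ?_⟩
  · rw [Quad.card_isom_plus (hc.nondeg hD) hn h] at h1
    exact Nat.eq_of_mul_eq_mul_right (Nat.mul_pos h2 h3) (by linarith)
  · rw [Quad.card_isom_minus (hc.nondeg hD) hn h] at h1
    exact Nat.eq_of_mul_eq_mul_right (Nat.mul_pos h2 (Nat.succ_pos (Nat.card F ^ (m + 1))))
      (by rw [Nat.succ_eq_add_one]; linarith)

theorem Sm.le_index (h : Sm H (2 * m)) : (2 : F) = 0 ∧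
    Nat.card F ^ (m + 1) * (Nat.card F ^ (m + 1) - 1) ≤ 2 * H.index := by
  have := Module.finite_of_finite F (M := V)
  have := finite_isom (D := D)
  obtain ⟨h2, D₁, hc, h1⟩ := h.main
  have h3 := index_incl h.nd h.hk hc
  refine ⟨h2, le_trans ?_ (Nat.mul_le_mul_left 2 (Subgroup.index_antitone (K := (incl hc).range)
    fun g hg => ⟨⟨g.1, mem_isom_quad.2 (h1 g hg)⟩, rfl⟩))⟩
  by_cases h4 : D₁.HasTS (m + 1)
  · rw [h3.1 h4]; exact Nat.mul_le_mul_left _ (by omega)
  · exact (h3.2 h4).ge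

theorem min_index (hD : D.Nondeg) (hn : finrank F V = 2 * (m + 1)) (hm : 1 ≤ m)
    (hq : 3 ≤ Nat.card F) (h3 : Nat.card F = 3 → 2 ≤ m) {P : Type*} [Group P]
    (φ : P ≃* D.isom ⧸ Subgroup.center D.isom) :
    (∀ H : Subgroup P, H ≠ ⊤ → (Nat.card F ^ (2 * (m + 1)) - 1) / (Nat.card F - 1) ≤ H.index) ∧
      ∃ H : Subgroup P, H.index = (Nat.card F ^ (2 * (m + 1)) - 1) / (Nat.card F - 1) := by
  have := Module.finite_of_finite F (M := V)
  obtain ⟨e, f, hf⟩ := Symp.exists_isHyp hD (by omega)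
  refine transfer φ (fun H hH => by_contra fun h => ?_) (H := D.stab (F ∙ e)) (fun g hg => ?_) ?_
  · have h1 : (H.index + 1) * (Nat.card F - 1) ≤ Nat.card F ^ (2 * m + 2) - 1 :=
      (Nat.mul_le_mul_right _ (not_le.1 h)).trans (Nat.div_mul_le_self _ _)
    obtain ⟨h2, h4⟩ := Sm.le_index (m := m) ⟨hD, hn, by omega, by omega, hH, h1, by omega⟩
    have h5 : Nat.card F ≠ 3 := fun h => odd_card_iff.1 (by rw [h]; decide) h2
    have h6 : 4 ^ 1 ≤ Nat.card F ^ (m + 1) :=
      (Nat.pow_le_pow_left (by omega) 1).trans (Nat.pow_le_pow_right (by omega) (by omega))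
    rw [show 2 * m + 2 = m + 1 + (m + 1) by ring, pow_add] at h1
    obtain ⟨Q, hQ⟩ : ∃ Q, Nat.card F ^ (m + 1) = Q + 1 := ⟨Nat.card F ^ (m + 1) - 1, by omega⟩
    rw [hQ] at h1 h4 h6
    have := (Nat.mul_le_mul_left _ (show 3 ≤ Nat.card F - 1 by omega)).trans
      (h1.trans (Nat.sub_le _ _))
    simp only [Nat.add_sub_cancel] at h4
    nlinarith
  · rcases (Symp.mem_center_iff hD).1 hg with rfl | rfl
    · exact one_mem _
    · exact fun x => by simp
  · have h1 := relIndex_stab_le (D := D) ⊤ hf.e_ne_zero (T := {x | x ≠ 0 ∧ x ∈ (⊤ : Submodule F V)})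
      fun g _ c hc => ⟨by simp [hc, hf.e_ne_zero], trivial⟩
    rw [ncard_ne_zero_mem, finrank_top, Subgroup.relIndex_top_right] at h1
    rw [← hn, le_antisymm (ts_bound hD (isTS_span_singleton hf.Q_e) (by simpa using hf.e_ne_zero)
      le_rfl) h1, Nat.mul_div_cancel _ (by omega)]

theorem min_index_two (hD : D.Nondeg) (hn : finrank F V = 2 * (m + 1)) (hm : 2 ≤ m)
    (hq : Nat.card F = 2) {P : Type*} [Group P] (φ : P ≃* D.isom ⧸ Subgroup.center D.isom) :
    (∀ H : Subgroup P, H ≠ ⊤ → 2 ^ m * (2 ^ (m + 1) - 1) ≤ H.index) ∧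
      ∃ H : Subgroup P, H.index = 2 ^ m * (2 ^ (m + 1) - 1) := by
  have h2 : (2 : F) = 0 := by_contra fun h => absurd (hq ▸ odd_card_iff.2 h) (by decide)
  obtain ⟨a, b, hab⟩ := exists_aniso_coeffs F
  obtain ⟨D₁, hc, h1⟩ := exists_quad h2 hD (fMinus_nondeg m hab) (hn.trans (finrank_minus m).symm)
  refine transfer φ (fun H hH => by_contra fun h => ?_) (H := (incl hc).range) (fun g hg => ?_) ?_
  · have h3 : 2 ^ 2 ≤ 2 ^ m := Nat.pow_le_pow_right (by omega) hm
    have h4 : H.index + 3 ≤ 2 ^ (2 * m + 1) := by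
      rw [Nat.mul_sub_one, ← pow_add, show m + (m + 1) = 2 * m + 1 by ring] at h
      omega
    have h5 := (Sm.le_index (m := m) ⟨hD, hn, by omega, by omega, hH, by
      rw [hq, pow_succ]; omega, fun _ => h4⟩).2
    rw [hq, pow_succ' 2 m, mul_assoc, ← pow_succ'] at h5
    omega
  · rcases (Symp.mem_center_iff hD).1 hg with rfl | rfl
    · exact one_mem _
    · exact ⟨D₁.scalar (-1) (by simp), rfl⟩
  · have h3 := (index_incl hD hn hc).2 (h1.hasTS_iff.not.2 (fMinus_not_hasTS m hab))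
    rw [hq, pow_succ' 2 m, mul_assoc, ← pow_succ'] at h3
    omega

end Cfsg.Lib.Forms.MI.Sp
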