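import Cfsg.Agent.Lib.MinIdx.U5
import Cfsg.Agent.Lib.MinIdx.Dual
import Cfsg.Agent.Lib.Linear.PLineStab

/-! Minimal index of `SU₃(q)`: frames and the Borel subgroup. -/

set_option autoImplicit false

namespace Cfsg.Lib.Forms.MI.U3

open Module Form

variable {F : Type*} [Field F] {σ : F →+* F} {q : ℕ} {h : IsConj σ q} {V : Type*}
  [AddCommGroup V] [Module F V] {D : Form h.kind V} {H : Subgroup D.isom} {e n f : V}

variable (D) in
/-- A frame of the three-dimensional space. -/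
structure Fr (e n f : V) : Prop where
  hyp : D.IsHyp e f
  en : D.B e n = 0
  fn : D.B f n = 0
  nn : D.Q n ≠ 0
  hn : finrank F V = 3

variable (D) in
/-- Coordinates of a unipotent element. -/
structure Un (e n f : V) (g : D.isom) (ψ δ : F) : Prop where
  he : g.1 e = e
  hn : g.1 n = n + ψ • e
  hf : g.1 f = f - (σ ψ / D.Q n) • n + δ • e

namespace Un
variable {g k : D.isom} {ψ δ ψ' δ' : F}

theorem one : Un D e n f 1 0 0 := ⟨rfl, by simp, by simp⟩

theorem mul (h1 : Un D e n f g ψ δ) (h2 : Un D e n f k ψ' δ') :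
    Un D e n f (g * k) (ψ + ψ') (δ + δ' - σ ψ' * ψ / D.Q n) :=
  ⟨by rw [isom_mul_apply, h2.he, h1.he],
    by rw [isom_mul_apply, h2.hn, map_add, map_smul, h1.he, h1.hn]; module,
    by
      rw [isom_mul_apply, h2.hf, map_add, map_sub, map_smul, map_smul, h1.he, h1.hn, h1.hf, map_add]
      match_scalars <;> ring⟩

theorem pow (h1 : Un D e n f g ψ δ) (m : ℕ) : ∃ d, Un D e n f (g ^ m) (m * ψ) d := by
  induction m with
  | zero => exact ⟨0, by simpa using one⟩
  | succ m ih => obtain ⟨d, ih⟩ := ih; exact ⟨_, by simpa [pow_succ, add_mul] using ih.mul h1⟩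

theorem pow' (h1 : Un D e n f g 0 δ) (m : ℕ) : Un D e n f (g ^ m) 0 (m * δ) := by
  induction m with
  | zero => simpa using one
  | succ m ih => simpa [pow_succ, add_mul] using ih.mul h1

end Un

namespace Fr
variable (hf : Fr D e n f)
include hf

theorem ee : D.B e e = 0 := hf.hyp.B_ee
theorem ff : D.B f f = 0 := hf.hyp.B_ff
theorem ef : D.B e f = 1 := hf.hyp.B_ef
theorem fe : D.B f e = 1 := hf.hyp.B_fe
theorem ne : D.B n e = 0 := D.eq_zero_symm hf.en
theorem nf : D.B n f = 0 := D.eq_zero_symm hf.fn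
theorem e0 : e ≠ 0 := hf.hyp.e_ne_zero
theorem n0 : n ≠ 0 := fun h => hf.nn (by simp [h])

theorem coord {a b c a' b' c' : F} (H : a • e + b • n + c • f = a' • e + b' • n + c' • f) :
    a = a' ∧ b = b' ∧ c = c' := by
  have h1 := congrArg (D.B f) H
  have h2 := congrArg (D.B n) H
  have h3 := congrArg (D.B e) H
  simp only [map_add, map_smul, smul_eq_mul, hf.ee, hf.ff, hf.ef, hf.fe, hf.ne, hf.nf, hf.en, hf.fn,
    ← herm_Q] at h1 h2 h3
  exact ⟨by simpa using h1, by simpa [hf.nn] using h2, by simpa using h3⟩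

theorem Q_comb (a b c : F) :
    D.Q (a • e + b • n + c • f) = σ a * c + a * σ c + b * σ b * D.Q n := by
  simp only [herm_Q, D.B_lin, hf.ee, hf.ff, hf.ef, hf.fe, hf.ne, hf.nf, hf.en, hf.fn]
  ring

theorem _root_.Cfsg.Lib.Forms.MI.U3.Un.unique {g : D.isom} {ψ δ ψ' δ' : F} (h1 : Un D e n f g ψ δ)
    (h2 : Un D e n f g ψ' δ') : ψ = ψ' ∧ δ = δ' := by
  obtain rfl : ψ = ψ' := smul_left_injective F hf.e0 (add_left_cancel (h1.hn.symm.trans h2.hn))
  exact ⟨rfl, smul_left_injective F hf.e0 (add_left_cancel (h1.hf.symm.trans h2.hf))⟩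

theorem _root_.Cfsg.Lib.Forms.MI.U3.Un.tr {g : D.isom} {ψ δ : F} (h1 : Un D e n f g ψ δ) :
    δ + σ δ + ψ * σ ψ / D.Q n = 0 := by
  have h2 := Q_isom g f
  rw [h1.hf, hf.hyp.Q_f, show f - (σ ψ / D.Q n) • n + δ • e =
    δ • e + (-(σ ψ / D.Q n)) • n + (1 : F) • f by module, hf.Q_comb] at h2
  simp only [map_neg, map_div₀, h.σσ, herm_σ_Q, map_one] at h2
  have := hf.nn
  field_simp at h2 ⊢
  linear_combination h2

variable [FiniteDimensional F V]

theorem comb (x : V) : ∃ a b c : F, x = a • e + b • n + c • f := by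
  obtain ⟨w, hw, h1⟩ := hf.hyp.exists_comb x
  have h2 := hf.hyp.finrank_hp
  obtain ⟨b, rfl⟩ := Submodule.mem_span_singleton.1 ((Submodule.eq_of_le_of_finrank_le
    ((Submodule.span_singleton_le_iff_mem n _).2 ((mem_hp D).2 ⟨hf.en, hf.fn⟩))
    (by rw [finrank_span_singleton hf.n0]; have := hf.hn; omega)).ge hw)
  exact ⟨_, b, _, h1.trans (add_right_comm _ _ _)⟩

theorem ext {g k : D.isom} (h1 : g.1 e = k.1 e) (h2 : g.1 n = k.1 n) (h3 : g.1 f = k.1 f) :
    g = k := isom_ext fun x => by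
  obtain ⟨a, b, c, rfl⟩ := hf.comb x
  simp only [map_add, map_smul, h1, h2, h3]

theorem nd : D.Nondeg := fun x hx => by
  obtain ⟨a, b, c, rfl⟩ := hf.comb x
  have h1 := D.eq_zero_symm (hx f)
  have h2 := D.eq_zero_symm (hx n)
  have h3 := D.eq_zero_symm (hx e)
  simp only [map_add, map_smul, smul_eq_mul, hf.ee, hf.ff, hf.ef, hf.fe, hf.ne, hf.nf, hf.en, hf.fn,
    ← herm_Q] at h1 h2 h3
  simp [show a = 0 by simpa using h1, show b = 0 by simpa [hf.nn] using h2,
    show c = 0 by simpa using h3]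

theorem det {g : D.isom} {c μ ν ψ β δ : F} (h1 : g.1 e = c • e) (h2 : g.1 n = μ • n + ψ • e)
    (h3 : g.1 f = ν • f + β • n + δ • e) : (D.det g : F) = c * μ * ν := by
  let b := basisOfTopLeSpanOfCardEqFinrank (R := F) ![e, n, f] (fun x _ => by
    obtain ⟨a, b, c, rfl⟩ := hf.comb x
    refine add_mem (add_mem ?_ ?_) ?_ <;>
      exact Submodule.smul_mem _ _ (Submodule.subset_span (by simp))) (by simp [hf.hn])
  have h4 : ⇑b = ![e, n, f] := coe_basisOfTopLeSpanOfCardEqFinrank ..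
  rw [show e = b 0 by simp [h4]] at h1 h2 h3
  rw [show n = b 1 by simp [h4]] at h2 h3
  rw [show f = b 2 by simp [h4]] at h3
  rw [coe_det, ← LinearMap.det_toMatrix b, Matrix.det_fin_three]
  simp [LinearMap.toMatrix_apply, h1, h2, h3]

theorem bor {g : D.isom} (hg : g ∈ D.E) {c : F} (h1 : g.1 e = c • e) : ∃ ψ β δ : F,
    g.1 n = (σ c / c) • n + ψ • e ∧ g.1 f = (σ c)⁻¹ • f + β • n + δ • e := by
  have hc : c ≠ 0 := fun hc => hf.e0 (by simpa [hc] using h1)
  have hc' := (map_ne_zero σ).2 hc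
  obtain ⟨ψ, μ, a, h2⟩ := hf.comb (g.1 n)
  obtain ⟨δ, β, ν, h3⟩ := hf.comb (g.1 f)
  have h4 := B_isom g e n
  have h5 := B_isom g e f
  simp only [h1, h2, h3, D.B_lin, hf.ee, hf.ef, hf.en] at h4 h5
  obtain rfl : a = 0 := by simpa [hc] using h4
  obtain rfl : ν = (σ c)⁻¹ := eq_inv_of_mul_eq_one_right (by linear_combination h5)
  replace h2 : g.1 n = μ • n + ψ • e := by rw [h2]; module
  replace h3 : g.1 f = (σ c)⁻¹ • f + β • n + δ • e := by rw [h3]; module
  have h6 := hf.det h1 h2 h3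
  rw [E_le_ker_det hg, Units.val_one] at h6
  obtain rfl : μ = σ c / c := by field_simp at h6 ⊢; exact h6.symm
  exact ⟨ψ, β, δ, h2, h3⟩

theorem un {g : D.isom} (hg : g ∈ D.E) (h1 : g.1 e = e) : ∃ ψ δ, Un D e n f g ψ δ := by
  obtain ⟨ψ, β, δ, h2, h3⟩ := hf.bor hg (h1.trans (one_smul F e).symm)
  simp only [map_one, div_one, one_smul, inv_one] at h2 h3
  have h4 := B_isom g n f
  simp only [h2, h3, D.B_lin, hf.ee, hf.ef, hf.en, hf.ne, hf.nf, ← herm_Q] at h4
  obtain rfl : β = -(σ ψ / D.Q n) := by have := hf.nn; field_simp; linear_combination h4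
  exact ⟨ψ, δ, h1, h2, by rw [h3]; module⟩

theorem _root_.Cfsg.Lib.Forms.MI.U3.Un.eq_one {g : D.isom} (h1 : Un D e n f g 0 0) : g = 1 :=
  hf.ext h1.he (by simpa using h1.hn) (by simpa using h1.hf)

theorem mem_span {y : V} (hy : D.Q y = 0) (h1 : D.B e y = 0) : y ∈ F ∙ e := by
  obtain ⟨a, b, c, rfl⟩ := hf.comb y
  obtain rfl : c = 0 := by simpa [hf.ee, hf.en, hf.ef] using h1
  obtain rfl : b = 0 := by simpa [hf.nn] using (hf.Q_comb a b 0).symm.trans hy
  simpa using Submodule.smul_mem _ a (Submodule.mem_span_singleton_self e)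

theorem eq_one {g : D.isom} (hg : g ∈ D.E) (h1 : g.1 e = e) {y : V} (hy : D.Q y = 0)
    (h2 : y ∉ F ∙ e) {c : F} (h3 : g.1 y = c • y) : g = 1 := by
  obtain ⟨ψ, δ, h4⟩ := hf.un hg h1
  have h5 : D.B e y ≠ 0 := fun h => h2 (hf.mem_span hy h)
  obtain ⟨a, b, d, rfl⟩ := hf.comb y
  replace h5 : d ≠ 0 := by simpa [hf.ee, hf.en, hf.ef] using h5
  obtain ⟨h6, h7, h8⟩ := hf.coord (a := a + b * ψ + d * δ) (b := b - d * (σ ψ / D.Q n)) (c := d)
    (a' := c * a) (b' := c * b) (c' := c * d) (by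
      simp only [map_add, map_smul, h4.he, h4.hn, h4.hf] at h3
      linear_combination (norm := module) h3)
  obtain rfl : c = 1 := by simpa [h5] using h8.symm
  obtain rfl : ψ = 0 := by simpa [h5, hf.nn] using h7
  obtain rfl : δ = 0 := by simpa [h5] using h6
  exact h4.eq_one hf

theorem conj {g u : D.isom} (hg : g ∈ D.E) (hu : u ∈ D.E) {c ψ δ : F} (h1 : g.1 e = c • e)
    (h2 : Un D e n f u ψ δ) : ∃ d, Un D e n f (g * u * g⁻¹) (c ^ 2 / σ c * ψ) d ∧
      (ψ = 0 → d = c * σ c * δ) := by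
  have hc : c ≠ 0 := fun hc => hf.e0 (by simpa [hc] using h1)
  have hc' := (map_ne_zero σ).2 hc
  obtain ⟨ψ₀, β, δ₀, h3, h4⟩ := hf.bor hg h1
  have h5 : ∀ x, (g * u * g⁻¹).1 (g.1 x) = g.1 (u.1 x) := fun x => by
    simp [isom_mul_apply, isom_inv_apply]
  obtain ⟨ψ', d, h6⟩ := hf.un (mul_mem (mul_mem hg hu) (inv_mem hg)) (by
    have := h5 e
    rw [h2.he, h1, map_smul] at this
    exact smul_right_injective V hc this)
  have h7 := h5 n
  have h8 := h5 f
  simp only [h2.hn, h2.hf, map_add, map_sub, map_smul, h1, h3, h4, h6.he, h6.hn, h6.hf] at h7 h8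
  obtain rfl : ψ' = c ^ 2 / σ c * ψ := by
    have := smul_left_injective F hf.e0 (show (σ c / c * ψ') • e = (ψ * c) • e by
      linear_combination (norm := module) h7)
    field_simp at this ⊢
    linear_combination this
  refine ⟨d, h6, ?_⟩
  rintro rfl
  have := smul_left_injective F hf.e0 (show ((σ c)⁻¹ * d) • e = (δ * c) • e by
    simp only [mul_zero, map_zero, zero_div, zero_smul] at h8
    linear_combination (norm := module) h8)
  field_simp at this ⊢
  linear_combination this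

end Fr

variable [FiniteDimensional F V]

theorem exists_fr (hD : D.Nondeg) (hn : finrank F V = 3) (hf : D.IsHyp e f) : ∃ n, Fr D e n f := by
  have h1 := hf.finrank_hp
  have : Nontrivial (D.hp e f) := Module.nontrivial_of_finrank_pos (R := F) (by omega)
  obtain ⟨n, h2⟩ := Herm.exists_Q_eq (hf.nondeg_hp hD) (map_one σ)
  exact ⟨n, hf, ((mem_hp D).1 n.2).1, ((mem_hp D).1 n.2).2, fun h => one_ne_zero (h2.symm.trans h),
    hn⟩

theorem exists_fr' (hD : D.Nondeg) (hn : finrank F V = 3) (he : D.Q e = 0) (h0 : e ≠ 0)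
    (h1 : D.Q n ≠ 0) (h2 : D.B e n = 0) : ∃ f, Fr D e n f := by
  obtain ⟨f, h3, h4⟩ := exists_isHyp_mem (U := D.perp (F ∙ n))
    ((mem_perp_span_singleton D).2 (D.eq_zero_symm h2)) he (by
      rw [hD.perp_perp]
      intro h
      obtain ⟨c, rfl⟩ := Submodule.mem_span_singleton.1 h
      exact h0 (by simp [show c = 0 by simpa [D.Q_smul, h1] using he]))
  exact ⟨f, h4, h2, D.eq_zero_symm ((mem_perp_span_singleton D).1 h3), h1, hn⟩

end Cfsg.Lib.Forms.MI.U3
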