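import Cfsg.Agent.Lib.MinIdx.T1

/-! Minimal index of `SU₃(q)`: transitivity and orders. -/

set_option autoImplicit false

namespace Cfsg.Lib.Forms.MI.U3

open Module Form MulAction Cfsg.Lib.Linear

variable {F : Type*} [Field F] {σ : F →+* F} {q : ℕ} {h : IsConj σ q} {V : Type*}
  [AddCommGroup V] [Module F V] {D : Form h.kind V} {H : Subgroup D.isom} {e n f : V}

theorem Un.inv {g : D.isom} {ψ δ : F} (h1 : Un D e n f g ψ δ) :
    Un D e n f g⁻¹ (-ψ) (-δ - σ ψ * ψ / D.Q n) := by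
  have h2 : ∀ x, g.1 ((g⁻¹).1 x) = x := fun x => by simp [isom_inv_apply]
  refine ⟨g.1.injective ?_, g.1.injective ?_, g.1.injective ?_⟩ <;>
    simp only [h2, map_add, map_sub, map_smul, h1.he, h1.hn, h1.hf, map_neg]
  · module
  · match_scalars <;> ring

/-- The multipliers on `e`. -/
def CC (H : Subgroup D.isom) (e : V) : Subgroup Fˣ where
  carrier := {c | ∃ g ∈ H, g.1 e = (c : F) • e}
  one_mem' := ⟨1, one_mem _, by simp⟩
  mul_mem' := fun ⟨g, hg, h1⟩ ⟨k, hk, h2⟩ => ⟨g * k, mul_mem hg hk, by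
    rw [isom_mul_apply, h2, map_smul, h1, smul_smul, Units.val_mul, mul_comm]⟩
  inv_mem' := fun {c} ⟨g, hg, h1⟩ => ⟨g⁻¹, inv_mem hg, g.1.injective (by
    simp [isom_inv_apply, h1, smul_smul])⟩

/-- The image of `H ∩ Q_e` in `Q_e / Z`. -/
def WW (H : Subgroup D.isom) (e n f : V) : AddSubgroup F where
  carrier := {ψ | ∃ g ∈ H, ∃ δ, Un D e n f g ψ δ}
  zero_mem' := ⟨1, one_mem _, 0, Un.one⟩
  add_mem' := fun ⟨_, hg, _, h1⟩ ⟨_, hk, _, h2⟩ => ⟨_, mul_mem hg hk, _, h1.mul h2⟩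
  neg_mem' := fun ⟨_, hg, _, h1⟩ => ⟨_, inv_mem hg, _, h1.inv⟩

/-- The parameters of the transvections in `H` with centre `e`. -/
def AA (H : Subgroup D.isom) (e n f : V) : AddSubgroup F where
  carrier := {δ | ∃ g ∈ H, Un D e n f g 0 δ}
  zero_mem' := ⟨1, one_mem _, Un.one⟩
  add_mem' := fun ⟨_, hg, h1⟩ ⟨_, hk, h2⟩ => ⟨_, mul_mem hg hk, by simpa using h1.mul h2⟩
  neg_mem' := fun ⟨_, hg, h1⟩ => ⟨_, inv_mem hg, by simpa using h1.inv⟩

theorem card_eq_mul {G X α : Type*} [Group G] [MulAction G X] (K : Subgroup G) (x : X) {S : Set α}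
    {φ : α → X} (h1 : Function.Injective φ) (h2 : ∀ a ∈ S, ∃ g ∈ K, g • x = φ a)
    (h3 : ∀ g ∈ K, ∃ a ∈ S, g • x = φ a) :
    Nat.card K = Nat.card S * Nat.card ↥(K ⊓ stabilizer G x) := by
  rw [← ncard_orbit_mul_card_inf_stabilizer K x, Nat.card_coe_set_eq,
    ← Set.ncard_image_of_injective S h1]
  congr 2
  ext y
  constructor
  · rintro ⟨g, rfl⟩
    obtain ⟨a, ha, h4⟩ := h3 g g.2
    exact ⟨a, ha, h4.symm⟩
  · rintro ⟨a, ha, rfl⟩
    obtain ⟨g, hg, h4⟩ := h2 a ha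
    exact ⟨⟨g, hg⟩, h4⟩

theorem map_span (g : D.isom) (x : V) : (F ∙ x).map (g.1 : V →ₗ[F] V) = F ∙ g.1 x := by
  simp [Submodule.map_span]

variable [FiniteDimensional F V]

theorem mem_stab_of_smul' {g : D.isom} {c : F} (h1 : g.1 e = c • e) : g ∈ D.stab (F ∙ e) :=
  mem_stab_of_mapsTo (W := F ∙ e) _ fun x hx => by
    obtain ⟨a, rfl⟩ := Submodule.mem_span_singleton.1 hx
    rw [map_smul, h1]
    exact Submodule.smul_mem _ _ (Submodule.smul_mem _ _ (Submodule.mem_span_singleton_self e))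

namespace Fr
variable (hf : Fr D e n f)
include hf

theorem card_stab (hH : H ≤ D.E) : Nat.card ↥(H ⊓ D.stab (F ∙ e)) =
    Nat.card (CC H e) * (Nat.card (WW H e n f) * Nat.card (AA H e n f)) := by
  rw [card_eq_mul (H ⊓ D.stab (F ∙ e)) e (S := (CC H e : Set Fˣ)) (φ := fun c => (c : F) • e)
      (fun _ _ h => Units.ext (smul_left_injective F hf.e0 h))
      (fun c ⟨g, hg, h1⟩ => ⟨g, ⟨hg, mem_stab_of_smul' h1⟩, h1⟩) (fun g hg => by
        obtain ⟨c, hc, h1⟩ := exists_smul_of_stab hf.e0 hg.2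
        exact ⟨Units.mk0 c hc, ⟨g, hg.1, h1⟩, h1⟩),
    card_eq_mul (H ⊓ D.stab (F ∙ e) ⊓ stabilizer _ e) n (S := (WW H e n f : Set F)) (φ := fun ψ => n + ψ • e)
      (fun _ _ h => smul_left_injective F hf.e0 (add_left_cancel h))
      (fun c ⟨g, hg, _, h1⟩ => ⟨g, ⟨⟨hg, mem_stab_of_smul' (h1.he.trans (one_smul F e).symm)⟩,
        h1.he⟩, h1.hn⟩) (fun g hg => by
        obtain ⟨ψ, δ, h1⟩ := hf.un (hH hg.1.1) hg.2
        exact ⟨ψ, ⟨g, hg.1.1, δ, h1⟩, h1.hn⟩),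
    card_eq_mul (H ⊓ D.stab (F ∙ e) ⊓ stabilizer _ e ⊓ stabilizer _ n) f (S := (AA H e n f : Set F)) (φ := fun δ => f + δ • e)
      (fun _ _ h => smul_left_injective F hf.e0 (add_left_cancel h))
      (fun c ⟨g, hg, h1⟩ => ⟨g, ⟨⟨⟨hg, mem_stab_of_smul' (h1.he.trans (one_smul F e).symm)⟩,
        h1.he⟩, by simpa [isom_smul_def] using h1.hn⟩, by simpa [isom_smul_def] using h1.hf⟩)
      (fun g hg => by
        obtain ⟨ψ, δ, h1⟩ := hf.un (hH hg.1.1.1) hg.1.2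
        obtain rfl : ψ = 0 := by simpa [hf.e0] using h1.hn.symm.trans hg.2
        exact ⟨δ, ⟨g, hg.1.1.1, h1⟩, by simpa [isom_smul_def] using h1.hf⟩),
    (Subgroup.card_eq_one (H := H ⊓ D.stab (F ∙ e) ⊓ stabilizer _ e ⊓ stabilizer _ n ⊓
      stabilizer _ f)).2 (eq_bot_iff.2 fun g hg => hf.ext (k := 1) hg.1.1.2 hg.1.2 hg.2), mul_one]
  rfl

theorem card_E_stab : Nat.card ↥(D.E ⊓ D.stab (F ∙ e)) = q ^ 3 * (q ^ 2 - 1) := by
  have h1 : D.IsTS (F ∙ e) := Herm.isTS fun u hu v hv => by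
    obtain ⟨a, rfl⟩ := Submodule.mem_span_singleton.1 hu
    obtain ⟨b, rfl⟩ := Submodule.mem_span_singleton.1 hv
    simp [hf.ee]
  have h2 := Herm.card_ker_inf_stab hf.nd (by rw [hf.hn]; omega) h1
  rw [Herm.card_stab hf.nd h1 (finrank_span_singleton hf.e0), ← Herm.E_eq hf.nd hf.hn.ge, hf.hn] at h2
  exact Nat.eq_of_mul_eq_mul_left q.succ_pos (h2.trans (by simp [guOrder]; ring))

theorem card_E : Nat.card D.E = (q ^ 3 + 1) * (q ^ 3 * (q ^ 2 - 1)) := by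
  have h2 := Herm.card_ker_det hf.nd (by rw [hf.hn]; omega)
  rw [← Herm.E_eq hf.nd hf.hn.ge, hf.hn] at h2
  exact Nat.eq_of_mul_eq_mul_left q.succ_pos (h2.trans (by
    simp [guOrder, Finset.prod_range_succ]; ring))

theorem card_orbit :
    Nat.card {W' // ∃ g ∈ D.E, (F ∙ e).map (g.1 : V →ₗ[F] V) = W'} = q ^ 3 + 1 := by
  have h1 := card_eq_orbit_mul_stab D.E (F ∙ e)
  have := h.two_le
  rw [hf.card_E, hf.card_E_stab] at h1
  exact (Nat.eq_of_mul_eq_mul_right (Nat.mul_pos (by positivity)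
    (Nat.sub_pos_of_lt (Nat.one_lt_pow two_ne_zero this))) h1).symm

theorem lam_mem (hH : H ≤ D.E) {c : Fˣ} (hc : c ∈ CC H e) {ψ : F} (h1 : ψ ∈ WW H e n f) :
    c ^ 2 / σ c * ψ ∈ WW H e n f := by
  obtain ⟨g, hg, h2⟩ := hc
  obtain ⟨u, hu, δ, h3⟩ := h1
  obtain ⟨d, h4, -⟩ := hf.conj (hH hg) (hH hu) h2 h3
  exact ⟨_, mul_mem (mul_mem hg hu) (inv_mem hg), d, h4⟩

theorem norm_mem (hH : H ≤ D.E) {c : Fˣ} (hc : c ∈ CC H e) {δ : F} (h1 : δ ∈ AA H e n f) :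
    c * σ c * δ ∈ AA H e n f := by
  obtain ⟨g, hg, h2⟩ := hc
  obtain ⟨u, hu, h3⟩ := h1
  obtain ⟨d, h4, h5⟩ := hf.conj (hH hg) (hH hu) h2 h3
  exact ⟨_, mul_mem (mul_mem hg hu) (inv_mem hg), by simpa [h5 rfl] using h4⟩

omit hf [FiniteDimensional F V] in
theorem comm_mem {ψ ψ' : F} (h1 : ψ ∈ WW H e n f) (h2 : ψ' ∈ WW H e n f) :
    (σ ψ * ψ' - σ (σ ψ * ψ')) / D.Q n ∈ AA H e n f := by
  obtain ⟨g, hg, δ, h3⟩ := h1
  obtain ⟨k, hk, δ', h4⟩ := h2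
  refine ⟨_, mul_mem (mul_mem hg hk) (inv_mem (mul_mem hk hg)), ?_⟩
  convert (h3.mul h4).mul (h4.mul h3).inv using 1
  · ring
  · simp only [map_mul, map_add, map_neg, h.σσ]; ring

omit [FiniteDimensional F V] in
theorem tr_of_mem {δ : F} (h1 : δ ∈ AA H e n f) : δ + σ δ = 0 := by
  obtain ⟨g, -, h2⟩ := h1
  simpa using h2.tr hf

theorem mem_AA {δ : F} (h1 : δ + σ δ = 0) : ∃ hd : D.IsRk1 e δ, Un D e n f (D.rk1 e δ hd) 0 δ :=
  ⟨(Herm.isRk1_iff_of_Q_eq_zero hf.hyp.Q_e).2 h1, by simp [rk1_apply, hf.ee],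
    by simp [rk1_apply, hf.en], by simp [rk1_apply, hf.ef]⟩

end Fr

/-- The hypotheses on a counterexample. -/
structure Bad (H : Subgroup D.isom) : Prop where
  nd : D.Nondeg
  hn : finrank F V = 3
  le : H ≤ D.E
  ne : ¬ D.E ≤ H
  idx : H.relIndex D.E < q ^ 3 + 1
  q3 : 3 ≤ q
  q5 : q ≠ 5

theorem finite_V (h : IsConj σ q) : Finite V := have := h.finite; Module.finite_of_finite F

namespace Bad
variable (hb : Bad H)
include hb

theorem exists_fr₀ (he : D.Q e = 0) (h0 : e ≠ 0) : ∃ n f, Fr D e n f := by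
  obtain ⟨f, hf⟩ := hb.nd.exists_isHyp he h0
  exact (exists_fr hb.nd hb.hn hf).imp fun n h => ⟨f, h⟩

theorem trans {x y : V} (hx : D.Q x = 0) (hx0 : x ≠ 0) (hy : D.Q y = 0) (hy0 : y ≠ 0) :
    ∃ g ∈ H, ∃ c : F, c ≠ 0 ∧ g.1 x = c • y := by
  have := finite_V (V := V) h
  have := finite_isom (D := D)
  let := D.subAction
  obtain ⟨n, f, hf⟩ := hb.exists_fr₀ hx hx0
  have h1 : ∀ {x y}, D.Q x = 0 → x ≠ 0 → D.Q y = 0 → y ≠ 0 →
      ∃ g ∈ D.E, ∃ c : F, c ≠ 0 ∧ g.1 x = c • y := fun h1 h2 h3 h4 =>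
    hb.nd.exists_mem_map_smul (fun _ _ _ _ => eich_mem_E _ _ _ _) (Herm.rich D 3) h1 h2 h3 h4
  have h2 : ∀ {g : D.isom} {x y : V} {c : F}, c ≠ 0 → g.1 x = c • y → g • (F ∙ x) = F ∙ y :=
    fun hc h => (map_span _ _).trans (by rw [h, Submodule.span_singleton_smul_eq hc.isUnit])
  have h3 : ∀ p : orbit D.E (F ∙ x), ∃ y, D.Q y = 0 ∧ y ≠ 0 ∧ p.1 = F ∙ y := fun ⟨_, g, rfl⟩ =>
    ⟨g.1.1 x, by simpa using hx, by simpa using hx0, map_span _ _⟩
  have h4 := fisher (Ω := orbit D.E (F ∙ x)) (H := H.subgroupOf D.E)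
    (is_two_pretransitive_iff.2 fun {a b c d} hab hcd => by
      obtain ⟨a', h4, h5, h6⟩ := h3 a
      obtain ⟨b', h7, h8, h9⟩ := h3 b
      obtain ⟨c', h10, h11, h12⟩ := h3 c
      obtain ⟨d', h13, h14, h15⟩ := h3 d
      obtain ⟨g, hg, s, hs, h16⟩ := h1 h4 h5 h10 h11
      obtain ⟨n', f', hf'⟩ := hb.exists_fr₀ h10 h11
      have h17 : ∀ y, D.Q y = 0 → y ≠ 0 → F ∙ y ≠ F ∙ c' → D.B c' y ≠ 0 := fun y h h' h'' h17 => by
        obtain ⟨t, rfl⟩ := Submodule.mem_span_singleton.1 (hf'.mem_span h h17)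
        exact h'' (Submodule.span_singleton_smul_eq (left_ne_zero_of_smul h').isUnit _)
      have h18 := h17 d' h13 h14 fun h => hcd (Subtype.ext (by rw [h12, h15, h]))
      have h19 := h17 (g.1 b') (by simpa using h7) (by simpa using h8) fun h =>
        hab (Subtype.ext (smul_left_cancel g (by rw [h6, h9, h2 hs h16, ← h]; exact (map_span _ _).symm)))
      obtain ⟨t, ht, h20⟩ := D.exists_eich_map (x := g.1 b') (y := (D.B c' (g.1 b') / D.B c' d') • d')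
        h10 (by simp [h18]) h19 (by simp [D.Q_smul, h7, h13])
      refine ⟨⟨_ * g, mul_mem (eich_mem_E _ _ _ ht) hg⟩, Subtype.ext ?_, Subtype.ext ?_⟩
      · exact h12 ▸ (congrArg (_ • ·) h6).trans (h2 hs (by
          rw [isom_mul_apply, h16, map_smul, eich_apply_self]))
      · exact h15 ▸ (congrArg (_ • ·) h9).trans (h2 (div_ne_zero h19 h18) h20))
    (hb.idx.trans_eq (hf.card_orbit.symm.trans (Nat.card_congr (Equiv.subtypeEquivRight fun b =>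
      ⟨fun ⟨g, hg, h⟩ => ⟨⟨g, hg⟩, h⟩, fun ⟨g, hg⟩ => ⟨g.1, g.2, hg⟩⟩))))
  obtain ⟨g, hg, c, hc, h5⟩ := h1 hx hx0 hy hy0
  obtain ⟨k, hk⟩ := h4.exists_smul_eq ⟨_, mem_orbit_self _⟩ ⟨_, ⟨g, hg⟩, h2 hc h5⟩
  obtain ⟨u, hu⟩ := Submodule.span_singleton_eq_span_singleton.1
    ((congrArg Subtype.val hk).symm.trans (map_span _ _))
  exact ⟨_, k.2, u, u.ne_zero, hu.symm⟩

variable (hf : Fr D e n f)
include hf

theorem card_eq : Nat.card H =
    (q ^ 3 + 1) * (Nat.card (CC H e) * (Nat.card (WW H e n f) * Nat.card (AA H e n f))) := by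
  rw [card_eq_orbit_mul_stab H (F ∙ e), hf.card_stab hb.le, ← hf.card_orbit]
  congr 1
  refine Nat.card_congr (Equiv.subtypeEquivRight fun b => ⟨fun ⟨g, hg, h⟩ => ⟨g, hb.le hg, h⟩, ?_⟩)
  rintro ⟨g, -, rfl⟩
  obtain ⟨k, hk, c, hc, h1⟩ := hb.trans hf.hyp.Q_e hf.e0 (y := g.1 e) (by simpa using hf.hyp.Q_e)
    (by simpa using hf.e0)
  exact ⟨k, hk, by rw [map_span, map_span, h1, Submodule.span_singleton_smul_eq hc.isUnit]⟩

theorem le_card :
    q ^ 2 - 1 ≤ Nat.card (CC H e) * (Nat.card (WW H e n f) * Nat.card (AA H e n f)) := by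
  have h1 := Subgroup.relIndex_mul_relIndex ⊥ H D.E bot_le hb.le
  rw [Subgroup.relIndex_bot_left, Subgroup.relIndex_bot_left, hf.card_E, hb.card_eq hf,
    mul_assoc] at h1
  have := h.two_le
  refine Nat.le_of_mul_le_mul_left ((Nat.eq_of_mul_eq_mul_left (by positivity) h1).ge.trans ?_)
    (show 0 < q ^ 3 by positivity)
  rw [mul_comm]
  exact Nat.mul_le_mul_right _ (Nat.le_of_lt_succ hb.idx)

theorem exists_not_mem : ∃ δ, δ + σ δ = 0 ∧ δ ∉ AA H e n f := by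
  by_contra! h1
  refine hb.ne ((Herm.E_eq hb.nd hb.hn.ge).trans_le ((Herm.T_eq hb.nd hb.hn.ge
    fun h => by have := hb.q3; omega).ge.trans ((Subgroup.closure_le _).2 ?_)))
  rintro _ ⟨x, c, hc, hx, rfl⟩
  by_cases h0 : x = 0
  · subst h0; exact (rk1_zero_left c hc).symm ▸ H.one_mem
  obtain ⟨g, hg, s, hs, h2⟩ := hb.trans hf.hyp.Q_e hf.e0 hx h0
  obtain rfl : x = g.1 (s⁻¹ • e) := by simp [h2, smul_smul, hs]
  rw [Herm.isRk1_iff_of_Q_eq_zero hx] at hc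
  have h3 : s⁻¹ * σ s⁻¹ * c + σ (s⁻¹ * σ s⁻¹ * c) = 0 := by
    simp only [map_mul, h.σσ]; linear_combination s⁻¹ * σ s⁻¹ * hc
  obtain ⟨u, hu, h4⟩ := h1 _ h3
  obtain ⟨h5, h6⟩ := hf.mem_AA h3
  obtain rfl := hf.ext (h4.he.trans h6.he.symm) (h4.hn.trans h6.hn.symm) (h4.hf.trans h6.hf.symm)
  refine (isom_ext (D := D) fun x => ?_).subst (motive := (· ∈ H))
    (mul_mem (mul_mem hg hu) (inv_mem hg))
  obtain ⟨x, rfl⟩ := g.1.surjective x
  have h7 : (g⁻¹).1 (g.1 x) = x := by simp [isom_inv_apply]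
  rw [isom_mul_apply, isom_mul_apply, h7, rk1_apply, rk1_apply, B_isom]
  simp only [D.B_lin, map_add, map_smul g.1]
  module

theorem card_WW_le : Nat.card (WW H e n f) ≤ q := by
  have := h.finite
  obtain ⟨δ, h1, h2⟩ := hb.exists_not_mem hf
  let φ : F →+ F := AddMonoidHom.mk' (fun x => (x - σ x) / D.Q n) fun x y => by simp; ring
  have h3 := relIndex_le_of_pairing (AddMonoidHom.mk' (fun x => AddMonoidHom.mulLeft (σ x))
    fun x y => by ext; simp [add_mul]) (A := (AA H e n f).comap φ) (fun h3 => by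
      obtain ⟨a, ha⟩ := Herm.comm (h := h) (δ * D.Q n) (by
        simp [herm_σ_Q]; linear_combination D.Q n * h1)
      have h4 : φ a ∈ AA H e n f := (AddSubgroup.eq_top_iff' _).1 h3 a
      simp only [hermKind_ε, one_mul] at ha
      exact h2 (by simpa [φ, ← ha, hf.nn] using h4)) (R := ⊥) (W := WW H e n f) (L := ⊤)
    (W' := WW H e n f) (fun x _ hx c => ⟨c / σ x, trivial, by
      simp [mul_div_cancel₀, show x ≠ 0 from hx]⟩) fun x hx y hy _ => Fr.comm_mem hx hy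
  rw [AddSubgroup.relIndex_bot_left, AddSubgroup.relIndex_top_right] at h3
  have h4 := (WW H e n f).card_mul_index
  rw [h.card] at h4
  exact (Nat.pow_le_pow_iff_left two_ne_zero).1 (by nlinarith)

end Bad

end Cfsg.Lib.Forms.MI.U3
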