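import Cfsg.Agent.Lib.MinIdx.T2
import Cfsg.Agent.Lib.Linear.Dickson

/-! Minimal index of `SU₃(q)`: the action on a hyperbolic line. -/

set_option autoImplicit false

namespace Cfsg.Lib.Forms.MI.U3

open Module Form MulAction Cfsg.Lib.Linear PL

variable {F : Type*} [Field F] {σ : F →+* F} {q : ℕ} {h : IsConj σ q} {V : Type*}
  [AddCommGroup V] [Module F V] {D : Form h.kind V} {H : Subgroup D.isom} {e n f : V}
  {K : Type*} [Field K] (ι : F →+* K)

/-- The isotropic points of the line. -/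
def II (σ : F →+* F) (ι : F →+* K) : Set (PL K) :=
  insert inf ((fun z => pt (ι z)) '' {z | z + σ z = 0})

theorem finite_II (h : IsConj σ q) : (II σ ι).Finite :=
  have := h.finite; ((Set.toFinite _).image _).insert _

theorem ncard_II (h : IsConj σ q) : (II σ ι).ncard = q + 1 := by
  have := h.finite
  rw [II, Set.ncard_insert_of_notMem (by rintro ⟨z, -, h⟩; exact pt_ne_inf _ h),
    Set.ncard_image_of_injective _ fun _ _ h => ι.injective (pt_injective h),
    ← Nat.card_coe_set_eq]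
  exact congrArg (· + 1) h.card_trace_zero

theorem cast_eq_zero (h : IsConj σ q) {p : ℕ} (hp : p.Prime) : (p : F) = 0 ↔ p ∣ q := by
  have := h.finite
  obtain ⟨r, k, hr, _, hk, rfl⟩ := exists_prime_pow_of_card_eq_sq h.card
  rw [CharP.cast_eq_zero_iff F r, hp.prime.dvd_pow_iff_dvd (by omega), Nat.prime_dvd_prime_iff_eq hr hp,
    Nat.prime_dvd_prime_iff_eq hp hr, eq_comm]

variable [FiniteDimensional F V]

namespace Fr
variable (hf : Fr D e n f)
include hf

theorem co {g : D.isom} (hg : g ∈ D.stab (F ∙ n)) {x : V} (hx : D.B n x = 0) :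
    g.1 x = D.B f (g.1 x) • e + D.B e (g.1 x) • f := by
  obtain ⟨c, hc, h1⟩ := exists_smul_of_stab hf.n0 hg
  have h2 := B_isom g n x
  obtain ⟨a, b, d, h3⟩ := hf.comb (g.1 x)
  rw [h1, hx, h3] at h2
  obtain rfl : b = 0 := by simpa [hf.ne, hf.nf, hc, ← herm_Q, hf.nn] using h2
  simp [h3, hf.ee, hf.ef, hf.fe, hf.ff]

omit [FiniteDimensional F V] in
theorem det_ne {g : D.isom} {a b c d : F} (h1 : g.1 e = a • e + c • f)
    (h2 : g.1 f = b • e + d • f) : ι a * ι d - ι b * ι c ≠ 0 := by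
  rw [← map_mul, ← map_mul, ← map_sub, map_ne_zero]
  have h3 := B_isom g e e
  have h4 := B_isom g e f
  have h5 := B_isom g f e
  have h6 := B_isom g f f
  simp only [h1, h2, D.B_lin, hf.ee, hf.ef, hf.fe, hf.ff] at h3 h4 h5 h6
  refine left_ne_zero_of_mul_eq_one (b := σ a * σ d - σ b * σ c) ?_
  linear_combination (σ b * c + σ d * a) * h4 + h5 - (σ b * d + σ d * b) * h3

/-- The action on the line spanned by `e` and `f`. -/
noncomputable def rho : D.stab (F ∙ n) →* PGL2 K :=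
  MonoidHom.mk' (fun g => mat _ _ _ _ (hf.det_ne ι (hf.co g.2 hf.ne) (hf.co g.2 hf.nf)))
    fun g k => by
      rw [mat_mul, mat_eq_mat_iff]
      refine ⟨1, one_ne_zero, ?_⟩
      obtain ⟨a, c, h1⟩ : ∃ a c : F, k.1.1 e = a • e + c • f := ⟨_, _, hf.co k.2 hf.ne⟩
      obtain ⟨b, d, h2⟩ : ∃ a c : F, k.1.1 f = a • e + c • f := ⟨_, _, hf.co k.2 hf.nf⟩
      simp [h1, h2, hf.ee, hf.ef, hf.fe, hf.ff, mul_comm]

theorem rho_eq (g : D.stab (F ∙ n)) {a b c d : F} (h1 : g.1.1 e = a • e + c • f)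
    (h2 : g.1.1 f = b • e + d • f) : hf.rho ι g = mat _ _ _ _ (hf.det_ne ι h1 h2) :=
  mat_eq_mat_iff.2 ⟨1, one_ne_zero, by simp [h1, h2, hf.ee, hf.ef, hf.fe, hf.ff]⟩

theorem rho_aff (g : D.stab (F ∙ n)) {a : F} (h1 : g.1.1 e = a • e) : ∃ b ha,
    g.1.1 f = b • e + (σ a)⁻¹ • f ∧ hf.rho ι g = aff (ι (a * σ a)) (ι (b * σ a)) ha := by
  have ha : a ≠ 0 := fun hc => hf.e0 (by simpa [hc] using h1)
  have ha' := (map_ne_zero σ).2 ha
  have h2 := hf.co g.2 hf.nf
  have h3 := B_isom g.1 e f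
  rw [h1, D.B_smul_left, hf.ef] at h3
  rw [eq_inv_of_mul_eq_one_right h3] at h2
  refine ⟨_, by simp [ha], h2, (hf.rho_eq ι g (c := 0) (by simpa using h1) h2).trans
    (mat_eq_mat_iff.2 ⟨ι (σ a), by simpa using ha, ?_⟩)⟩
  simp [ha]

theorem smul_of_rho {g : D.stab (F ∙ n)} (h1 : hf.rho ι g • (inf : PL K) = inf) :
    ∃ a : F, g.1.1 e = a • e :=
  ⟨_, by simpa [show D.B e (g.1.1 e) = 0 by simpa using mat_smul_inf_eq_inf.1 h1] using
    hf.co g.2 hf.ne⟩

theorem rho_inf_mem (g : D.stab (F ∙ n)) : hf.rho ι g • (inf : PL K) ∈ II σ ι := by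
  have h1 := hf.co g.2 hf.ne
  by_cases hc : D.B e (g.1.1 e) = 0
  · exact Or.inl (mat_smul_inf_eq_inf.2 (by simp [hc]))
  refine Or.inr ⟨D.B f (g.1.1 e) / D.B e (g.1.1 e), ?_, (mat_smul_inf_eq_pt.2 (by
    rw [← map_mul, mul_div_cancel₀ _ hc])).symm⟩
  have h2 := hf.Q_comb (D.B f (g.1.1 e)) 0 (D.B e (g.1.1 e))
  rw [zero_smul, add_zero, ← h1, Q_isom, hf.hyp.Q_e] at h2
  have := (map_ne_zero σ).2 hc
  simp only [Set.mem_ofPred_eq, map_div₀]
  field_simp
  linear_combination -h2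

omit [FiniteDimensional F V] in
theorem mem_AA_of {g : D.isom} (hg : g ∈ H) (h1 : g ∈ D.stab (F ∙ n)) {a b : F}
    (h2 : g.1 e = a • e) (h3 : g.1 f = b • e + (σ a)⁻¹ • f) (h4 : a * σ a = 1) :
    b * σ a ∈ AA H e n f := by
  obtain ⟨c, -, h5⟩ := exists_smul_of_stab hf.n0 h1
  have h6 : c * σ c = 1 := by simpa [h5, D.Q_smul, hf.nn] using Q_isom g n
  rw [← eq_inv_of_mul_eq_one_left h4] at h3
  have h7 : ∀ m : ℕ, (g ^ m).1 e = a ^ m • e ∧ (g ^ m).1 n = c ^ m • n ∧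
      (g ^ m).1 f = a ^ m • (f + (m * (b * σ a)) • e) := fun m => by
    induction m with
    | zero => simp
    | succ m ih =>
      simp only [pow_succ' g, isom_mul_apply, ih, map_smul, map_add, h2, h3, h5]
      refine ⟨by module, by module, ?_⟩
      match_scalars
      · linear_combination (-a ^ m * b) * h4
      · ring
  have h8 : (q : F) = 0 := by
    have := h.finite
    have := Fintype.ofFinite F
    simpa [← Nat.card_eq_fintype_card, h.card] using FiniteField.cast_card_eq_zero F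
  obtain ⟨h9, h10, h11⟩ := h7 (q + 1)
  rw [← h.norm_eq, h4] at h9 h11
  exact ⟨_, pow_mem hg (q + 1), by simpa using h9, by simpa [← h.norm_eq, h6] using h10,
    by simpa [h8] using h11⟩

variable (H) in
/-- The group induced by `H` on the line. -/
noncomputable def XX : Subgroup (PGL2 K) := (H.subgroupOf (D.stab (F ∙ n))).map (hf.rho ι)

theorem mem_XX {g : D.stab (F ∙ n)} (hg : g.1 ∈ H) : hf.rho ι g ∈ hf.XX H ι := ⟨g, hg, rfl⟩

theorem finite_XX : Finite (hf.XX H ι) :=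
  have := finite_V (V := V) h
  have := finite_isom (D := D)
  Finite.of_surjective _ (MonoidHom.subgroupMap_surjective _ _)

theorem orbit_sub : orbit (hf.XX H ι) (inf : PL K) ⊆ II σ ι := by
  rintro _ ⟨⟨_, g, -, rfl⟩, rfl⟩
  exact hf.rho_inf_mem ι g

theorem transl_XX : transl (hf.XX H ι) = (AA H e n f).map ι.toAddMonoidHom := by
  ext b
  constructor
  · rintro ⟨g, hg, h1⟩
    obtain ⟨a, h2⟩ := hf.smul_of_rho ι (g := g) (by rw [h1, aff_smul_inf])
    obtain ⟨c, h3, h4, h5⟩ := hf.rho_aff ι g h2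
    obtain ⟨h6, rfl⟩ := aff_inj.1 (h5.symm.trans h1)
    exact ⟨_, hf.mem_AA_of hg g.2 h2 h4 (ι.injective (by simpa using h6)), rfl⟩
  · rintro ⟨δ, ⟨g, hg, h1⟩, rfl⟩
    refine ⟨⟨g, mem_stab_of_smul' (c := 1) (by simpa using h1.hn)⟩, hg,
      (hf.rho_eq ι _ (a := 1) (b := δ) (c := 0) (d := 1) (by simpa using h1.he)
        (by simpa [add_comm] using h1.hf)).trans ?_⟩
    simp [aff]

theorem qH_XX : qH (hf.XX H ι) inf = Nat.card (AA H e n f) := by
  rw [← card_transl, transl_XX, AddSubgroup.card_map_of_injective ι.injective]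

theorem slopes_dvd : Nat.card (slopes (hf.XX H ι)) ∣ q - 1 := by
  have := hf.finite_XX (H := H) ι
  have := finite_slopes (H := hf.XX H ι)
  refine IsCyclic.exponent_eq_card.symm.dvd.trans (Monoid.exponent_dvd_of_forall_pow_eq_one ?_)
  rintro ⟨a, b, g, hg, h1⟩
  obtain ⟨c, h2⟩ := hf.smul_of_rho ι (g := g) (by rw [h1, aff_smul_inf])
  obtain ⟨d, h3, -, h5⟩ := hf.rho_aff ι g h2
  refine Subtype.ext (Units.ext ?_)
  rw [Subgroup.coe_pow, Units.val_pow_eq_pow_val, ← (aff_inj.1 (h5.symm.trans h1)).1, ← map_pow, (h.fixed_iff (by simpa using h3)).1 (by simp [h.σσ, mul_comm])]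
  simp

theorem pow_slopes {g : D.isom} (hg : g ∈ H) (h1 : g ∈ D.stab (F ∙ n)) {c : F}
    (h2 : g.1 e = c • e) : (c * σ c) ^ Nat.card (slopes (hf.XX H ι)) = 1 := by
  obtain ⟨d, h3, -, h5⟩ := hf.rho_aff ι ⟨g, h1⟩ h2
  have := pow_card_eq_one' (G := slopes (hf.XX H ι))
    (x := ⟨Units.mk0 _ h3, _, h5 ▸ hf.mem_XX ι (g := ⟨g, h1⟩) hg⟩)
  exact ι.injective (by simpa [Subtype.ext_iff, Units.ext_iff, -pow_card_eq_one'] using this)

end Fr

namespace Bad
variable (hb : Bad H) (hf : Fr D e n f)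
include hb hf

theorem two_le_qH (hA : AA H e n f ≠ ⊥) {z : F} (hz : z + σ z = 0) :
    2 ≤ qH (hf.XX H ι) (pt (ι z)) := by
  have := hf.finite_XX (H := H) ι
  have := finite_inf (H := hf.XX H ι) (unip (pt (ι z)))
  obtain ⟨⟨δ, u, hu, h1⟩, h2⟩ := AddSubgroup.ne_bot_iff_exists_ne_zero.1 hA
  replace h2 : δ ≠ 0 := fun h => h2 (Subtype.ext h)
  obtain ⟨h5, h6⟩ := hf.mem_AA (Fr.tr_of_mem hf ⟨u, hu, h1⟩)
  obtain rfl := hf.ext (h1.he.trans h6.he.symm) (h1.hn.trans h6.hn.symm) (h1.hf.trans h6.hf.symm)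
  obtain ⟨g, hg, s, hs, h3⟩ := hb.trans hf.hyp.Q_e hf.e0 (y := z • e + f)
    (by simpa [add_comm, hz] using hf.Q_comb z 0 1) fun h => by
      simpa [hf.ee, hf.ef] using congrArg (D.B e) h
  have h4 := mul_mem (mul_mem hg hu) (inv_mem hg)
  rw [conj_rk1] at h4
  have h7 : σ z = -z := by linear_combination hz
  have h8 : ι (δ * s * σ s) ≠ 0 := by simp [h2, hs]
  have h9 := hf.rho_eq ι ⟨D.rk1 _ δ (h5.isom g), mem_stab_of_smul' (c := 1) (by
      simp [rk1_apply, h3, hf.en, hf.fn])⟩ (a := 1 + δ * s * σ s * z) (c := δ * s * σ s)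
    (b := -(δ * s * σ s * z * z)) (d := 1 - δ * s * σ s * z)
    (by simp only [rk1_apply, h3, D.B_lin, hf.ee, hf.fe]; module)
    (by simp only [rk1_apply, h3, D.B_lin, hf.ef, hf.ff, h7]; module)
  refine (Subgroup.one_lt_card_iff_ne_bot _).2 (Subgroup.ne_bot_iff_exists_ne_one.2
    ⟨⟨_, h9 ▸ hf.mem_XX ι h4, ?_⟩, fun h => h8 (mat_eq_one_iff.1 (congrArg Subtype.val h)).2.1⟩)
  refine ⟨mat_smul_pt_eq_pt.2 (by simp; ring), Or.inr fun y hy => ?_⟩
  obtain rfl | ⟨w, rfl⟩ := eq_inf_or_pt y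
  · exact (h8 (mat_smul_inf_eq_inf.1 hy)).elim
  have h10 := mat_smul_pt_eq_pt.1 hy
  simp only [map_add, map_sub, map_mul, map_neg, map_one] at h10 h8
  exact congrArg pt (sub_eq_zero.1 (pow_eq_zero_iff two_ne_zero |>.1
    (mul_left_cancel₀ h8 (by linear_combination -h10))))

theorem card_AA_lt : Nat.card (AA H e n f) < q := by
  have := h.finite
  obtain ⟨δ, h1, h2⟩ := hb.exists_not_mem hf
  refine (Set.ncard_lt_ncard (s := AA H e n f) (t := {z | z + σ z = 0})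
    ⟨fun _ => hf.tr_of_mem, fun h => h2 (h h1)⟩).trans_eq ?_
  exact h.card_trace_zero

theorem case_one (hA : AA H e n f ≠ ⊥) :
    (∀ δ ∈ AA H e n f, ∀ δ' ∈ AA H e n f, δ ≠ 0 → δ' ≠ 0 → δ + δ' = 0) ∨
      (q = 9 ∧ Nat.card (AA H e n f) = 3) := by
  have := h.finite
  let ι := algebraMap F (AlgebraicClosure F)
  have := hf.finite_XX (H := H) ι
  have h1 := hf.qH_XX (H := H) ι
  have h2 : 2 ≤ qH (hf.XX H ι) inf := h1 ▸ (AddSubgroup.one_lt_card_iff_ne_bot _).2 hA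
  have h3 := hb.card_AA_lt hf
  have h4 : (orbit (hf.XX H ι) (inf : PL (AlgebraicClosure F))).ncard ≠ 1 := fun h4 => by
    have := finite_inf (H := hf.XX H ι) (unip (pt (ι 0)))
    obtain ⟨⟨x, hx, h5⟩, h6⟩ := Subgroup.ne_bot_iff_exists_ne_one.1
      ((Subgroup.one_lt_card_iff_ne_bot _).1 (hb.two_le_qH ι hf hA (z := 0) (by simp)))
    exact inf_ne_pt _ (eq_of_mem_unip h5 (fun h => h6 (Subtype.ext h))
      (fix_of_ncard_orbit_eq_one h4 x hx))
  have h5 : (orbit (hf.XX H ι) (inf : PL (AlgebraicClosure F))).ncard = q + 1 := by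
    obtain ⟨y, -, h5, h6, -⟩ := dickson_wild_orbits h2 h4
    rw [← ncard_II ι h, (hf.orbit_sub (H := H) ι).antisymm]
    rintro _ (rfl | ⟨z, hz, rfl⟩)
    · exact mem_orbit_self _
    have h7 := hb.two_le_qH ι hf hA hz
    exact (h6 _ (mem_special_of_two_le_qH h7)).resolve_right fun h => by
      rw [qH_of_mem_orbit h] at h7; omega
  obtain ⟨a, b, hab, h6⟩ | ⟨-, h6, h7⟩ | ⟨h6, -⟩ := dickson_wild_numerics h2 h4
  · refine Or.inl fun δ h7 δ' h8 h9 h10 => ?_
    have h11 : ∀ δ : F, aff 1 (ι δ) one_ne_zero • a = a → aff 1 (ι δ) one_ne_zero • b = b →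
        δ = 0 := fun δ h11 h12 => by
      by_contra h13
      have h14 := fun y => eq_of_mem_unip (y := y) ((aff_mem_unip_inf (b := ι δ)
        (ha := one_ne_zero)).2 rfl) (by simpa [aff_eq_one_iff] using h13)
      exact hab ((h14 a h11).trans (h14 b h12).symm)
    have h12 : ∀ δ ∈ AA H e n f, δ ≠ 0 → aff 1 (ι δ) one_ne_zero • a = b ∧
        aff 1 (ι δ) one_ne_zero • b = a := fun δ h12 h13 => (h6 _ (mem_transl.1
      ((hf.transl_XX ι).ge ⟨δ, h12, rfl⟩))).resolve_left fun h => h13 (h11 δ h.1 h.2)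
    have h13 : aff 1 (ι (δ + δ')) one_ne_zero =
      aff 1 (ι δ') one_ne_zero * aff 1 (ι δ) one_ne_zero := by simp [aff_mul]
    exact h11 _ (by rw [h13, mul_smul, (h12 _ h7 h9).1, (h12 _ h8 h10).2])
      (by rw [h13, mul_smul, (h12 _ h7 h9).2, (h12 _ h8 h10).1])
  · have h8 := ncard_orbit_mul_eH (H := hf.XX H ι) (inf : PL (AlgebraicClosure F))
    have h9 := qH_dvd_eH (H := hf.XX H ι) (inf : PL (AlgebraicClosure F))
    have h10 := (AA H e n f).card_addSubgroup_dvd_card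
    have h11 := (cast_eq_zero h Nat.prime_three).1 (ι.injective (by
      rw [map_natCast, map_zero]; exact_mod_cast h6))
    rw [h5, h7] at h8
    rw [h.card] at h10
    rw [h1] at h2 h9
    generalize Nat.card (AA H e n f) = a at *
    have h12 : q + 1 ≤ 60 := Nat.le_of_dvd (by omega) (Dvd.intro _ h8)
    obtain rfl | rfl : q = 3 ∨ q = 9 := by
      have := Dvd.intro _ h8
      clear * - this h11 h12 h3 h2
      have : q ≤ 59 := by omega
      interval_cases q <;> omega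
    · interval_cases a; omega
    · rw [show eH (hf.XX H ι) inf = 6 by omega] at h9
      interval_cases a <;> omega
  · omega

end Bad

end Cfsg.Lib.Forms.MI.U3
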