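import Cfsg.Agent.Lib.MinIdx.T3

/-! Minimal index of `SU₃(q)`: numerical consequences and Sylow normalisers. -/

set_option autoImplicit false

namespace Cfsg.Lib.Forms.MI.U3

open Module Form MulAction Cfsg.Lib.Linear PL

variable {F : Type*} [Field F] {σ : F →+* F} {q : ℕ} {h : IsConj σ q} {V : Type*}
  [AddCommGroup V] [Module F V] {D : Form h.kind V} {H : Subgroup D.isom} {e n f : V}

theorem card_dvd_of_pow [Finite F] (S : Subgroup Fˣ) {k : ℕ} (h : ∀ c ∈ S, (c : F) ^ k = 1) :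
    Nat.card S ∣ k :=
  IsCyclic.exponent_eq_card.symm.dvd.trans (Monoid.exponent_dvd_of_forall_pow_eq_one fun c =>
    Subtype.ext (Units.ext (by simpa using h c c.2)))

theorem pow_card_sub_one [Finite F] (W : AddSubgroup F) {c : F} (hc : c ≠ 0)
    (h : ∀ x ∈ W, c * x ∈ W) : c ^ (Nat.card W - 1) = 1 := by
  have h1 := card_dvd_ncard_of_semiregular (Subgroup.zpowers (Units.mk0 c hc))
    ((W : Set F) \ {0}) (Set.toFinite _) (fun a ha x hx => ⟨by
      obtain ⟨k, rfl⟩ := mem_powers_iff_mem_zpowers.2 ha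
      induction k with
      | zero => simpa using hx.1
      | succ k ih =>
        simpa [pow_succ', mul_assoc, Units.smul_def] using
          h _ (ih (mem_powers_iff_mem_zpowers.1 ⟨k, rfl⟩)),
      by simpa [Units.smul_def] using hx.2⟩) fun a _ x hx h =>
      Units.ext (mul_right_cancel₀ hx.2 (h.trans (one_mul x).symm))
  rw [Nat.card_zpowers, Set.ncard_sdiff_singleton_of_mem W.zero_mem, orderOf_dvd_iff_pow_eq_one,
    ← Nat.card_coe_set_eq] at h1
  simpa [Units.ext_iff] using h1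

variable [FiniteDimensional F V]

namespace Bad
variable (hb : Bad H)
include hb

theorem num_one (hf : Fr D e n f) (hA : AA H e n f ≠ ⊥) :
    (q = 8 ∧ Nat.card H = 36936) ∨ (q = 9 ∧ Nat.card H = 78840) := by
  have := h.finite
  have h1 := hb.le_card hf
  have h2 := hb.card_WW_le hf
  have h3 := hb.q3
  have h4 := card_dvd_of_pow (CC H e) (k := (q + 1) * (Nat.card (AA H e n f) - 1)) fun c hc => by
    rw [pow_mul, ← h.norm_eq]
    exact pow_card_sub_one _ (by simp) fun x => hf.norm_mem hb.le hc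
  have h5 : ∀ c ∈ CC H e, ((c : F) ^ 2 / σ c) ^ (Nat.card (WW H e n f) - 1) = 1 := fun c hc =>
    pow_card_sub_one _ (by simp) fun x => hf.lam_mem hb.le hc
  have h6 : 0 < Nat.card (WW H e n f) := Nat.card_pos
  rw [hb.card_eq hf]
  obtain h7 | ⟨h7, h8⟩ := hb.case_one hf hA
  · obtain ⟨⟨α, h8⟩, h9⟩ := AddSubgroup.ne_bot_iff_exists_ne_zero.1 hA
    replace h9 : α ≠ 0 := fun h => h9 (Subtype.ext h)
    have h10 : (2 : F) = 0 := mul_right_cancel₀ h9 (by linear_combination h7 α h8 α h8 h9 h9)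
    have h11 : ∀ δ ∈ AA H e n f, δ ≠ 0 → δ = α := fun δ h h' => by
      linear_combination h7 δ h α h8 h' h9 - α * h10
    have h12 : Nat.card (AA H e n f) = 2 := by
      rw [← Set.ncard_pair h9.symm, ← Nat.card_coe_set_eq]
      refine Nat.card_congr (Equiv.setCongr (Set.Subset.antisymm (fun δ h => ?_) ?_))
      · exact or_iff_not_imp_left.2 (h11 δ h)
      · rintro _ (rfl | rfl)
        exacts [zero_mem _, h8]
    have h13 : ∀ ψ ∈ WW H e n f, ψ ≠ 0 → σ ψ * ψ = -(α * D.Q n) := fun ψ ⟨g, hg, δ, h13⟩ h14 => by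
      have h15 := h13.mul h13
      rw [show ψ + ψ = 0 by linear_combination ψ * h10,
        show δ + δ = 0 by linear_combination δ * h10] at h15
      rw [← h11 _ ⟨_, mul_mem hg hg, h15⟩ (by simp [h14, hf.nn])]
      field_simp [hf.nn]
      ring
    have h14 : Nat.card (WW H e n f) ≤ 4 := by
      by_cases hW : WW H e n f = ⊥
      · simp [hW]
      obtain ⟨⟨a, ha⟩, h14⟩ := AddSubgroup.ne_bot_iff_exists_ne_zero.1 hW
      replace h14 : a ≠ 0 := fun h => h14 (Subtype.ext h)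
      classical
      refine (Set.ncard_le_ncard (s := (WW H e n f : Set F))
        (t := ((insert 0 (Polynomial.nthRoots 3 (a ^ 3)).toFinset : Finset F) : Set F))
        (fun b hb => ?_)).trans ?_
      · by_cases h15 : b = 0
        · simp [h15]
        suffices b ^ 3 = a ^ 3 by simp [this]
        by_cases h16 : a + b = 0
        · rw [show b = a by linear_combination h16 - a * h10]
        have h17 := h13 _ (add_mem ha hb) h16
        have h18 := h13 a ha h14
        have h19 := h13 b hb h15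
        rw [map_add] at h17
        refine mul_left_cancel₀ (mul_ne_zero h9 hf.nn) ?_
        linear_combination (a - b) * (a * b * h17 - (a * b + b ^ 2) * h18 - (a * b + a ^ 2) * h19)
      · rw [Set.ncard_coe_finset]
        exact (Finset.card_insert_le _ _).trans (Nat.succ_le_succ
          ((Multiset.toFinset_card_le _).trans (Polynomial.card_nthRoots _ _)))
    rw [h12] at h1 h4 ⊢
    have h15 := card_dvd_of_pow (CC H e) (k := 3 * (Nat.card (WW H e n f) - 1)) fun c hc => by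
      have h15 := orderOf_dvd_iff_pow_eq_one.1
        ((Subgroup.orderOf_dvd_natCard _ hc).trans h4)
      rw [pow_mul, ← h5 c hc, eq_inv_of_mul_eq_one_right ((h.norm_eq c).trans (by
        simpa [Units.ext_iff] using h15)), div_inv_eq_mul, ← pow_succ]
    have h16 := (cast_eq_zero h Nat.prime_two).1 (by exact_mod_cast h10)
    generalize Nat.card (CC H e) = t at *
    generalize Nat.card (WW H e n f) = m at *
    clear * - h1 h3 h4 h6 h14 h15 h16
    have h2 := Nat.le_of_dvd (by omega) h4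
    have h5 : q ≤ 9 := by
      by_contra! h5
      have : t * (m * 2) ≤ (q + 1) * 8 := Nat.mul_le_mul (by omega) (by omega)
      have : 10 * q ≤ q ^ 2 := by nlinarith
      omega
    interval_cases q <;> interval_cases m <;> interval_cases t <;> omega
  · rw [h8] at h1 h4 ⊢
    have h9 := card_dvd_of_pow (CC H e) (k := 7 * (Nat.card (WW H e n f) - 1)) fun c hc => by
      rw [pow_mul, ← inv_eq_one, ← inv_pow, ← h5 c hc, (h.apply c).trans (congrArg _ h7)]
      congr 1
      field_simp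
    have h10 := (WW H e n f).card_addSubgroup_dvd_card
    rw [h.card] at h10
    generalize Nat.card (CC H e) = t at *
    generalize Nat.card (WW H e n f) = m at *
    clear * - h1 h2 h4 h6 h7 h9 h10
    subst h7
    have := Nat.le_of_dvd (by omega) h4
    interval_cases m <;> interval_cases t <;> omega

theorem two_le_ker {s : D.isom} (hs : s ∈ D.E) (h1 : s * s = 1) (h2 : s ≠ 1) :
    2 ≤ finrank F (LinearMap.ker ((s.1 : V →ₗ[F] V) + LinearMap.id)) := by
  by_contra! h3
  have h4 := LinearMap.finrank_range_add_finrank_ker ((s.1 : V →ₗ[F] V) - LinearMap.id)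
  have h5 : finrank F (LinearMap.range ((s.1 : V →ₗ[F] V) - LinearMap.id)) ≤ _ :=
    Submodule.finrank_mono (t := LinearMap.ker ((s.1 : V →ₗ[F] V) + LinearMap.id)) (by
      rintro _ ⟨x, rfl⟩
      simp [← isom_mul_apply, h1])
  rw [hb.hn] at h4
  by_cases h6 : (2 : F) = 0
  · have := Submodule.finrank_mono (s := LinearMap.ker ((s.1 : V →ₗ[F] V) - LinearMap.id))
      (t := LinearMap.ker ((s.1 : V →ₗ[F] V) + LinearMap.id)) fun x hx => by
      simp only [LinearMap.mem_ker, LinearMap.sub_apply, LinearMap.add_apply, LinearMap.id_apply,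
        sub_eq_zero] at hx ⊢
      rw [hx, ← two_smul F, h6, zero_smul]
    omega
  obtain ⟨e, h7, h8, h9⟩ := Herm.sing D (LinearMap.ker ((s.1 : V →ₗ[F] V) - LinearMap.id))
    (by omega)
  obtain ⟨n, f, hf⟩ := hb.exists_fr₀ h9 h8
  obtain ⟨ψ, δ, h10⟩ := hf.un hs (by simpa [sub_eq_zero] using h7)
  obtain ⟨h11, h12⟩ := Un.unique hf (h10.mul h10) (h1 ▸ Un.one)
  obtain rfl : ψ = 0 := by simpa [← two_mul, h6] using h11
  obtain rfl : δ = 0 := by simpa [← two_mul, h6] using h12
  exact h2 (h10.eq_one hf)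

theorem eq_one_of_smul {r : ℕ} (hr : r.Coprime (q ^ 3 * (q ^ 2 - 1))) {g : D.isom} (hg : g ∈ D.E)
    (h1 : g ^ r = 1) {v : V} (hv : v ≠ 0) {c : F} (h2 : g.1 v = c • v) : g = 1 := by
  have := h.finite
  have := finite_V (V := V) h
  have h3 : ∀ k : ℕ, (g ^ k).1 v = c ^ k • v := fun k => by
    induction k with
    | zero => simp
    | succ k ih => rw [pow_succ, isom_mul_apply, h2, map_smul, ih, smul_smul, pow_succ']
  have h4 : c ^ r = 1 := smul_left_injective F hv (by simpa [h1] using (h3 r).symm)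
  obtain rfl : c = 1 := by
    have := Fintype.ofFinite F
    have h5 := FiniteField.pow_card_sub_one_eq_one c fun hc => hv (by simpa [hc] using h2)
    rw [← Nat.card_eq_fintype_card, h.card] at h5
    exact (pow_eq_one_iff_of_coprime hr.coprime_mul_left_right).1 ⟨h4, h5⟩
  obtain ⟨e, -, h5, h6⟩ := Herm.sing D ⊤ (by simp [hb.hn])
  obtain ⟨n, f, hf⟩ := hb.exists_fr₀ h6 h5
  have h7 := card_eq_mul D.E v (S := {x | x ≠ 0 ∧ D.Q x = D.Q v}) Function.injective_id
    (fun x hx => Herm.exists_mem_E_map hb.nd hb.hn.ge hv hx.1 hx.2.symm)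
    fun g _ => ⟨g.1 v, ⟨by simpa using hv, by simp⟩, rfl⟩
  obtain ⟨k, hk⟩ : q ^ 3 + 1 ∣ nv D (D.Q v) := by
    by_cases h8 : D.Q v = 0
    · simp [h8, nv_zero hb.nd hb.hn]
    · simp [nv_ne hb.nd (herm_σ_Q D v) h8 hb.hn]
  rw [hf.card_E, Nat.card_coe_set_eq, show Set.ncard _ = _ from hk, mul_assoc] at h7
  exact orderOf_eq_one_iff.1 (Nat.eq_one_of_dvd_coprimes hr (orderOf_dvd_of_pow_eq_one h1)
    ((Subgroup.orderOf_dvd_natCard (D.E ⊓ stabilizer _ v) ⟨hg, h2.trans (one_smul F v)⟩).trans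
      (Dvd.intro_left _ (Nat.eq_of_mul_eq_mul_left (by positivity) h7).symm)))

theorem eq_one_of_commute {r : ℕ} (hr : r.Coprime (q ^ 3 * (q ^ 2 - 1))) {g s : D.isom}
    (hg : g ∈ D.E) (h1 : g ^ r = 1) (hs : s ∈ D.E) (h2 : s * s = 1) (h3 : s ≠ 1)
    (h4 : s * g = g * s) : g = 1 := by
  have h5 := hb.two_le_ker hs h2 h3
  have h6 := LinearMap.finrank_range_add_finrank_ker ((s.1 : V →ₗ[F] V) + LinearMap.id)
  obtain ⟨w, hw⟩ : ∃ w, s.1 w + w ≠ 0 := by
    by_contra! h7
    simp only [add_eq_zero_iff_eq_neg] at h7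
    obtain ⟨e, -, h8, h9⟩ := Herm.sing D ⊤ (by simp [hb.hn])
    obtain ⟨n, f, hf⟩ := hb.exists_fr₀ h9 h8
    have h10 := hf.det (g := s) (c := -1) (μ := -1) (ν := -1) (ψ := 0) (β := 0) (δ := 0)
      (by simp [h7]) (by simp [h7]) (by simp [h7])
    rw [E_le_ker_det hs, Units.val_one] at h10
    exact h3 (isom_ext fun x => by
      rw [h7, ← neg_one_smul F, show (-1 : F) = 1 by linear_combination -h10, one_smul]; rfl)
  have h7 : (⟨_, w, rfl⟩ : LinearMap.range ((s.1 : V →ₗ[F] V) + LinearMap.id)) ≠ 0 :=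
    fun h => hw (congrArg Subtype.val h)
  have := nontrivial_of_ne _ _ h7
  obtain ⟨c, hc⟩ := exists_smul_eq_of_finrank_eq_one (K := F)
    (le_antisymm (by rw [hb.hn] at h6; omega) finrank_pos) h7 ⟨_, g.1 w, rfl⟩
  refine hb.eq_one_of_smul hr hg h1 hw (c := c) (.trans ?_ (congrArg Subtype.val hc).symm)
  rw [map_add, ← isom_mul_apply, ← h4]
  rfl

theorem odd_normalizer {r : ℕ} [hp : Fact r.Prime] (hr : r.Coprime (q ^ 3 * (q ^ 2 - 1)))
    (P : Sylow r H) (hP : Nat.card P = r) : Odd (Nat.card (Subgroup.normalizer (P : Set H))) := by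
  have := finite_V (V := V) h
  have := finite_isom (D := D)
  by_contra h1
  have := Fact.mk Nat.prime_two
  obtain ⟨⟨s, h2⟩, h3⟩ := exists_prime_orderOf_dvd_card' 2 (Nat.not_odd_iff_even.1 h1).two_dvd
  rw [← Subgroup.orderOf_coe, ← Subgroup.orderOf_coe, orderOf_eq_prime_iff, sq] at h3
  obtain ⟨h4, h5⟩ : s.1 * s.1 = 1 ∧ s.1 ≠ 1 := h3
  have := isCyclic_of_prime_card hP
  obtain ⟨g, h6⟩ := Subgroup.ne_bot_iff_exists_ne_one.1
    ((Subgroup.one_lt_card_iff_ne_bot P.1).1 (hp.1.one_lt.trans_eq hP.symm))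
  replace h6 : g.1.1 ≠ 1 := fun h => h6 (Subtype.ext (Subtype.ext h))
  have h7 : ∀ x : P.1, x.1.1 ^ r = 1 := fun x => by
    simpa [Subtype.ext_iff, -pow_card_eq_one', hP] using pow_card_eq_one' (x := x)
  let k : P.1 := ⟨s * g * s⁻¹, (Subgroup.mem_normalizer_iff.1 h2 _).1 g.2⟩
  have h8 : g.1.1 * (s * g.1 * s.1⁻¹) = s * g.1 * s.1⁻¹ * g.1 :=
    congrArg (·.1.1) (IsCyclic.commGroup.mul_comm g k)
  have h9 : s.1⁻¹ = s := inv_eq_of_mul_eq_one_right h4
  have h10 : g.1.1 * (s * g.1 * s.1⁻¹) = 1 :=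
    hb.eq_one_of_commute hr (hb.le (g * k).1.2) (h7 (g * k)) (hb.le s.2) h4 h5 (by
      conv_lhs => rw [h8, ← mul_assoc, ← mul_assoc, ← mul_assoc, h4]
      simp [mul_assoc, h4, h9])
  have h11 := hb.two_le_ker (hb.le s.2) h4 h5
  have h12 := hb.two_le_ker (hb.le (s * g).2) (by simpa [h9, mul_assoc] using h8.symm.trans h10) fun h =>
    h6 (hb.eq_one_of_commute hr (hb.le g.1.2) (h7 g) (hb.le s.2) h4 h5
      (h.trans (mul_eq_one_comm.1 h).symm))
  have h13 := Submodule.finrank_sup_add_finrank_inf_eq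
    (LinearMap.ker ((s.1.1 : V →ₗ[F] V) + LinearMap.id))
    (LinearMap.ker (((s * g).1.1 : V →ₗ[F] V) + LinearMap.id))
  have h14 := (Submodule.finrank_le (LinearMap.ker ((s.1.1 : V →ₗ[F] V) + LinearMap.id) ⊔
    LinearMap.ker (((s * g).1.1 : V →ₗ[F] V) + LinearMap.id))).trans_eq hb.hn
  obtain ⟨v, ⟨h15, h16⟩, hv⟩ := Submodule.exists_mem_ne_zero_of_ne_bot (p := _ ⊓ _) fun h => by
    rw [h, finrank_bot] at h13; omega
  exact h6 (hb.eq_one_of_smul hr (hb.le g.1.2) (h7 g) hv (c := 1) (s.1.1.injective (by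
    simpa using add_right_cancel (h16.trans h15.symm))))

theorem sylow {r : ℕ} [hp : Fact r.Prime] (hr : r.Coprime (q ^ 3 * (q ^ 2 - 1))) {N : ℕ}
    (h1 : Nat.card H = r * N) (h2 : ¬ r ∣ N) : ∃ P : Sylow r H, Nat.card P = r ∧
      ∃ k ∈ N.divisors, Nat.card (Subgroup.normalizer (P : Set H)) = k * r ∧ k % 2 = 1 ∧
        N / k % r = 1 % r := by
  have := finite_V (V := V) h
  have := finite_isom (D := D)
  obtain ⟨P⟩ : Nonempty (Sylow r H) := inferInstance
  have h3 : Nat.card P = r := by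
    rw [P.card_eq_multiplicity, h1, Nat.factorization_mul hp.1.ne_zero (by rintro rfl; simp at h2),
      Finsupp.add_apply, hp.1.factorization_self, Nat.factorization_eq_zero_of_not_dvd h2, pow_one]
  obtain ⟨k, hk⟩ : r ∣ Nat.card (Subgroup.normalizer (P : Set H)) :=
    h3.symm.dvd.trans (Subgroup.card_dvd_of_le Subgroup.le_normalizer)
  have h4 := (Subgroup.normalizer (P : Set H)).card_mul_index
  rw [hk, h1, mul_assoc, ← P.card_eq_index_normalizer] at h4
  obtain rfl := Nat.eq_of_mul_eq_mul_left hp.1.pos h4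
  have h5 := Nat.odd_iff.1 (Nat.Odd.of_mul_right (hk ▸ hb.odd_normalizer hr P h3))
  exact ⟨P, h3, k, Nat.mem_divisors.2 ⟨Dvd.intro _ rfl, by rintro h; simp [h] at h2⟩,
    hk.trans (mul_comm _ _), h5, by
      rw [Nat.mul_div_cancel_left _ (by omega)]; exact card_sylow_modEq_one r H⟩

theorem AA_eq_bot (hf : Fr D e n f) : AA H e n f = ⊥ := by
  by_contra hA
  obtain ⟨rfl, h1⟩ | ⟨rfl, h1⟩ := hb.num_one hf hA
  · have := Fact.mk (show Nat.Prime 19 by norm_num)
    obtain ⟨-, -, k, h2, -, h3⟩ := hb.sylow (r := 19) (N := 1944) (by norm_num) h1 (by norm_num)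
    revert k; decide +kernel
  · have := Fact.mk (show Nat.Prime 73 by norm_num)
    obtain ⟨-, -, k, h2, -, h3⟩ := hb.sylow (r := 73) (N := 1080) (by norm_num) h1 (by norm_num)
    revert k; decide +kernel

end Bad

end Cfsg.Lib.Forms.MI.U3
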