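import Cfsg.Agent.Lib.MinIdx.T4

/-! Minimal index of `SU₃(q)`: subgroups without transvections. -/

set_option autoImplicit false

namespace Cfsg.Lib.Forms.MI.U3

open Module Form MulAction Cfsg.Lib.Linear PL

variable {F : Type*} [Field F] {σ : F →+* F} {q : ℕ} {h : IsConj σ q} {V : Type*}
  [AddCommGroup V] [Module F V] {D : Form h.kind V} {H : Subgroup D.isom} {e n f : V}
  [FiniteDimensional F V]

namespace Bad
variable (hb : Bad H)
include hb

theorem exists_smul : ∃ e, D.Q e = 0 ∧ e ≠ 0 ∧ ∃ g ∈ H, ∃ c : F, g.1 e = c • e ∧ c * σ c = 1 ∧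
    c ^ 3 ≠ 1 := by
  have := h.finite
  have := finite_V (V := V) h
  have := finite_isom (D := D)
  obtain ⟨e, -, h1, h2⟩ := Herm.sing D ⊤ (by simp [hb.hn])
  obtain ⟨n, f, hf⟩ := hb.exists_fr₀ h2 h1
  by_cases h3 : (2 : F) = 0
  · have h4 : WW H e n f = ⊥ := eq_bot_iff.2 fun ψ ⟨g, hg, δ, h4⟩ => by
      have h5 := h4.mul h4
      rw [show ψ + ψ = 0 by linear_combination ψ * h3,
        show δ + δ = 0 by linear_combination δ * h3] at h5
      simpa [hf.nn] using (hb.AA_eq_bot hf).le ⟨_, mul_mem hg hg, h5⟩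
    have h5 := hb.le_card hf
    rw [h4, hb.AA_eq_bot hf, AddSubgroup.card_bot, mul_one, mul_one, ← h.card,
      ← Nat.card_units] at h5
    obtain ⟨c, h6, h7⟩ : ∃ c : F, c * σ c = 1 ∧ c ^ 3 ≠ 1 := by
      by_contra! h6
      have h7 := Nat.card_le_card_of_injective _ (Subtype.impEmbedding _ _ h6).injective
      rw [h.card_norm_one, card_pow_eq_one 3 (by omega)] at h7
      have := hb.q3
      have := Nat.gcd_le_right (Nat.card F - 1) (show 0 < 3 by omega)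
      omega
    obtain ⟨g, hg, h8⟩ := (Subgroup.eq_top_of_le_card _ h5).ge
      (Subgroup.mem_top (Units.mk0 c (left_ne_zero_of_mul_eq_one h6)))
    exact ⟨e, h2, h1, g, hg, c, h8, h6, h7⟩
  have := Fact.mk Nat.prime_two
  obtain ⟨s, h4⟩ := exists_prime_orderOf_dvd_card' (G := H) 2 (by
    rw [hb.card_eq hf]
    exact Dvd.dvd.mul_right (Odd.add_one (Odd.pow (Nat.not_even_iff_odd.1 fun h4 =>
      h3 (by exact_mod_cast (cast_eq_zero h Nat.prime_two).2 h4.two_dvd)))).two_dvd _)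
  rw [← Subgroup.orderOf_coe, orderOf_eq_prime_iff, sq] at h4
  obtain ⟨e, h5, h6, h7⟩ := Herm.sing D _ (hb.two_le_ker (hb.le s.2) h4.1 h4.2)
  exact ⟨e, h7, h6, s, s.2, -1, by simpa [add_eq_zero_iff_eq_neg] using h5, by simp,
    fun h => h3 (by linear_combination -h)⟩

theorem smul_f (hf : Fr D e n f) {g : D.isom} (hg : g ∈ H) (h1 : g ∈ D.stab (F ∙ n)) {c : F}
    (h2 : g.1 e = c • e) (h3 : c * σ c = 1) : g.1 f = c • f := by
  obtain ⟨b, -, h4, -⟩ := hf.rho_aff (RingHom.id F) ⟨g, h1⟩ h2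
  obtain rfl : b = 0 := by
    simpa [left_ne_zero_of_mul_eq_one h3] using
      (hb.AA_eq_bot hf).le (hf.mem_AA_of hg h1 h2 h4 h3)
  simpa [← eq_inv_of_mul_eq_one_left h3] using h4

theorem exists_lift : ∃ e n f, Fr D e n f ∧ ∀ k ∈ H, D.B n (k.1 e) = 0 →
    ∃ g ∈ H, g ∈ D.stab (F ∙ n) ∧ g.1 e = k.1 e := by
  have := h.finite
  obtain ⟨e, h1, h2, s, hs, c, h3, h4, h5⟩ := hb.exists_smul
  have hc := left_ne_zero_of_mul_eq_one h4
  have h6 : σ c / c - c ≠ 0 := fun h => h5 (by field_simp at h; linear_combination h4 - c * h)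
  obtain ⟨n, f, hf, h7⟩ : ∃ n f, Fr D e n f ∧ s.1 n = (σ c / c) • n := by
    obtain ⟨n, f, hf⟩ := hb.exists_fr₀ h1 h2
    obtain ⟨ψ, -, -, h7, -⟩ := hf.bor (hb.le hs) h3
    obtain ⟨f', h8⟩ := exists_fr' (n := (ψ / (σ c / c - c)) • e + n) hb.nd hb.hn h1 h2
      (by simpa using (hf.Q_comb _ 1 0).trans_ne (by simpa using hf.nn)) (by simp [hf.ee, hf.en])
    refine ⟨_, f', h8, ?_⟩
    rw [map_add, map_smul, h3, h7]
    generalize σ c / c = μ at h6
    match_scalars <;> field_simp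
    ring
  have h8 := hb.smul_f hf hs (mem_stab_of_smul' h7) h3 h4
  refine ⟨e, n, f, hf, fun k hk h9 => ?_⟩
  have h10 : s.1 (k.1 e) = c • k.1 e := by
    obtain ⟨a, b, d, h10⟩ := hf.comb (k.1 e)
    obtain rfl : b = 0 := by simpa [h10, hf.ne, hf.nf, ← herm_Q, hf.nn] using h9
    simp only [h10, map_add, map_smul, h3, h8]
    module
  have h11 := mul_mem (inv_mem (mul_mem hk hs)) (mul_mem hs hk)
  obtain ⟨ψ, δ, h12⟩ := hf.un (hb.le h11) (isom_inv_apply_eq.2 (show _ = s.1 (k.1 e) by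
    simp only [isom_mul_apply, h3, h10, map_smul]))
  have h13 : ∀ x ∈ WW H e n f, (σ c / c - c) / c * x ∈ WW H e n f := fun x hx => by
    convert sub_mem (hf.lam_mem hb.le (c := (Units.mk0 c hc)⁻¹) (inv_mem ⟨s, hs, h3⟩) hx) hx using 1
    simp; field_simp
  obtain ⟨ψ', ⟨v, hv, δ', h14⟩, h15⟩ := ((Set.toFinite (WW H e n f : Set F)).injOn_iff_bijOn_of_mapsTo
    h13).1 (mul_right_injective₀ (div_ne_zero h6 hc)).injOn |>.surjOn ⟨_, h11, δ, h12⟩
  have h16 : s.1 ((k * v).1 n) = (σ c / c) • (k * v).1 n := by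
    have h16 : _ = s.1 (k.1 n) := isom_inv_apply_eq.1 h12.hn
    simp only [isom_mul_apply, h14.hn, map_add, map_smul, h3, h7, h10, ← h15] at h16 ⊢
    rw [← h16]
    match_scalars <;> field_simp
    ring
  obtain ⟨a, b, d, h17⟩ := hf.comb ((k * v).1 n)
  obtain ⟨h18, -, h19⟩ := hf.coord (a := σ c / c * a) (b := σ c / c * b) (c := σ c / c * d)
    (a' := c * a) (b' := σ c / c * b) (c' := c * d) (by
      simp only [h17, map_add, map_smul, h3, h7, h8] at h16
      linear_combination (norm := module) -h16)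
  obtain rfl : a = 0 := mul_left_cancel₀ h6 (by linear_combination h18)
  obtain rfl : d = 0 := mul_left_cancel₀ h6 (by linear_combination h19)
  exact ⟨_, mul_mem hk hv, mem_stab_of_smul' (c := b) (by simpa using h17),
    by rw [isom_mul_apply, h14.he]⟩

theorem tame (hf : Fr D e n f) (hl : ∀ k ∈ H, D.B n (k.1 e) = 0 →
    ∃ g ∈ H, g ∈ D.stab (F ∙ n) ∧ g.1 e = k.1 e) :
    ∃ k, (∀ c ∈ CC H e, ((c : F) * σ c) ^ k = 1) ∧ (k = 2 ∨ (k ∣ q - 1 ∧
      ((q + 1) * k = 12 ∨ (q + 1) * k = 24 ∨ (q + 1) * k = 60))) := by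
  let ι := algebraMap F (AlgebraicClosure F)
  have := hf.finite_XX (H := H) ι
  have h0 := hb.q3
  have h1 : ∀ c ∈ CC H e, ∃ g ∈ H, g ∈ D.stab (F ∙ n) ∧ g.1 e = (c : F) • e :=
    fun c ⟨k, hk, h1⟩ => h1 ▸ hl k hk (by simp [h1, hf.ne])
  have h2 : (orbit (hf.XX H ι) (inf : PL (AlgebraicClosure F))).ncard = q + 1 := by
    rw [← ncard_II ι h, (hf.orbit_sub (H := H) ι).antisymm]
    rintro _ (rfl | ⟨z, hz, rfl⟩)
    · exact mem_orbit_self _
    obtain ⟨k, hk, s, hs, h3⟩ := hb.trans hf.hyp.Q_e hf.e0 (y := z • e + f)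
      (by simpa [add_comm, show z + σ z = 0 from hz] using hf.Q_comb z 0 1) fun h => by
        simpa [hf.ee, hf.ef] using congrArg (D.B e) h
    obtain ⟨g, hg, h4, h5⟩ := hl k hk (by simp [h3, hf.ne, hf.nf])
    exact ⟨⟨_, hf.mem_XX ι (g := ⟨g, h4⟩) hg⟩, mat_smul_inf_eq_pt.2 (by
      simp [h5, h3, hf.ee, hf.ef, hf.fe, hf.ff])⟩
  have h3 := ncard_orbit_mul_eH (H := hf.XX H ι) (inf : PL (AlgebraicClosure F))
  rw [h2, eH_inf, hf.qH_XX, hb.AA_eq_bot hf, AddSubgroup.card_bot, one_mul] at h3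
  have h4 := hf.slopes_dvd (H := H) ι
  have h5 : ∀ x, hf.XX H ι ⊓ unip x = ⊥ := fun x => eq_bot_iff.2 fun g hg => by
    by_contra h5
    have h6 := (pow_eq_one_iff_of_mem_unip hg.2 h5 _).1
      (orderOf_dvd_iff_pow_eq_one.1 (Subgroup.orderOf_dvd_natCard _ hg.1))
    have h7 : (q : AlgebraicClosure F) = 0 := by
      have := h.finite
      have := Fintype.ofFinite F
      rw [← map_natCast ι, map_eq_zero]
      simpa [← Nat.card_eq_fintype_card, h.card] using FiniteField.cast_card_eq_zero F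
    obtain ⟨k, hk⟩ := h4
    have h8 := congrArg (Nat.cast (R := AlgebraicClosure F)) hk
    rw [← h3, Nat.cast_mul, Nat.cast_succ, h7, zero_add, one_mul] at h6
    simp [Nat.cast_pred (show 0 < q by omega), h6, h7] at h8
  have h6 : ∀ a b, ∃ g ∈ hf.XX H ι, g • (inf : PL (AlgebraicClosure F)) ≠ a ∧
      g • (inf : PL (AlgebraicClosure F)) ≠ b := fun a b => by
    obtain ⟨_, ⟨g, rfl⟩, h6⟩ := Set.exists_mem_notMem_of_ncard_lt_ncard
      ((Set.ncard_insert_le a {b}).trans_lt (by rw [h2, Set.ncard_singleton]; omega))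
    exact ⟨g, g.2, not_or.1 h6⟩
  have h7 : (∀ g ∈ hf.XX H ι, g • (inf : PL (AlgebraicClosure F)) = inf → g * g = 1) →
      ∀ c ∈ CC H e, ((c : F) * σ c) ^ 2 = 1 := fun h7 c hc => by
    obtain ⟨g, hg, h8, h9⟩ := h1 c hc
    obtain ⟨b, h10, -, h11⟩ := hf.rho_aff ι ⟨g, h8⟩ h9
    have h12 := h7 _ (hf.mem_XX ι (g := ⟨g, h8⟩) hg) (by rw [h11, aff_smul_inf])
    rw [h11, aff_mul, aff_eq_one_iff, ← map_mul, ← map_one ι] at h12
    exact (sq _).trans (ι.injective h12.1)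
  obtain ⟨x, h8⟩ | ⟨a, b, h8, h9⟩ | ⟨-, h8⟩ := dickson_tame h5
  · refine ⟨2, h7 fun g hg h9 => ?_, Or.inl rfl⟩
    obtain ⟨k, hk, h10, h11⟩ := h6 inf x
    rw [eq_one_of_fix_three (fun h => h10 (by rw [h, h8 k hk])) h10.symm h11.symm h9 (h8 g hg) (by
      rw [← mul_smul, commute_of_le_stabilizer h8 (h5 x) hg hk, mul_smul, h9]), mul_one]
  · refine ⟨2, h7 fun g hg h10 => ?_, Or.inl rfl⟩
    obtain ⟨k, hk, h11, h12⟩ := h6 a b
    refine eq_one_of_fix_three h8 (z := inf) ?_ ?_ ?_ ?_ (by rw [mul_smul, h10, h10])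
    · rintro rfl; exact (h9 k hk).elim (h11 ·.1) (h12 ·.1)
    · rintro rfl; exact (h9 k hk).elim (h12 ·.2) (h11 ·.2)
    all_goals obtain h | h := h9 g hg <;> simp [mul_smul, h]
  · exact ⟨_, fun c hc => (h1 c hc).elim fun g ⟨hg, h9, h10⟩ => hf.pow_slopes ι hg h9 h10,
      Or.inr ⟨h4, h3 ▸ h8⟩⟩

set_option synthInstance.maxSize 10000 in
theorem num_two (hf : Fr D e n f) (hl : ∀ k ∈ H, D.B n (k.1 e) = 0 →
    ∃ g ∈ H, g ∈ D.stab (F ∙ n) ∧ g.1 e = k.1 e) :
    (q = 3 ∧ Nat.card H = 224) ∨ (q = 11 ∧ Nat.card H = 219780) ∨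
      (q = 11 ∧ Nat.card (CC H e) = 30 ∧ Nat.card (WW H e n f) = 11) := by
  have := h.finite
  obtain ⟨k, h1, h2⟩ := hb.tame hf hl
  have h3 := hb.le_card hf
  have h4 := hb.card_WW_le hf
  have h5 := hb.q3
  have h6 := hb.q5
  have h7 := (CC H e).card_subgroup_dvd_card
  have h8 := (WW H e n f).card_addSubgroup_dvd_card
  rw [Nat.card_units, h.card] at h7
  rw [h.card] at h8
  rw [hb.card_eq hf]
  rw [hb.AA_eq_bot hf, AddSubgroup.card_bot, mul_one] at h3 ⊢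
  by_cases hW : WW H e n f = ⊥
  · have h9 := card_dvd_of_pow (CC H e) (k := (q + 1) * k) fun c hc => by
      rw [pow_mul, ← h.norm_eq, h1 c hc]
    rw [hW, AddSubgroup.card_bot, mul_one] at h3 ⊢
    rw [← h3.antisymm (Nat.le_of_dvd (Nat.sub_pos_of_lt (by nlinarith)) h7)] at h9 ⊢
    rw [show q ^ 2 - 1 = (q + 1) * (q - 1) from Nat.sq_sub_sq q 1,
      Nat.mul_dvd_mul_iff_left (by omega)] at h9
    obtain rfl | ⟨h2, h10⟩ := h2
    · obtain rfl : q = 3 := by have := Nat.le_of_dvd (by omega) h9; omega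
      simp
    obtain rfl := Nat.dvd_antisymm h2 h9
    clear * - h5 h6 h10
    have : q ≤ 8 := by
      by_contra! h
      have : 9 * 8 ≤ (q + 1) * (q - 1) := Nat.mul_le_mul (by omega) (by omega)
      omega
    interval_cases q <;> omega
  obtain ⟨⟨ψ, h9⟩, h10⟩ := AddSubgroup.ne_bot_iff_exists_ne_zero.1 hW
  replace h10 : ψ ≠ 0 := fun h => h10 (Subtype.ext h)
  have h11 : ∀ c ∈ CC H e, σ ((c : F) ^ 3) = c ^ 3 := fun c hc => by
    have h11 := (hb.AA_eq_bot hf).le (Fr.comm_mem h9 (hf.lam_mem hb.le hc h9))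
    have h12 := c.ne_zero
    have h13 := (map_ne_zero σ).2 h12
    have h14 := (map_ne_zero σ).2 h10
    simp only [AddSubgroup.mem_bot, div_eq_zero_iff, hf.nn, or_false, map_mul, map_div₀, map_pow,
      h.σσ, sub_eq_zero] at h11 ⊢
    field_simp at h11
    exact h11.symm
  have h12 := card_dvd_of_pow (CC H e) (k := 3 * (q - 1)) fun c hc => by
    rw [pow_mul, (h.fixed_iff (by simp)).1 (h11 c hc)]
  have h13 := card_dvd_of_pow (CC H e) (k := 6 * k) fun c hc => by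
    rw [← one_pow 3, ← h1 c hc, ← pow_mul, mul_comm k, pow_mul, pow_mul, mul_pow, ← map_pow,
      h11 c hc, ← pow_add]
  have h14 := (AddSubgroup.one_lt_card_iff_ne_bot _).2 hW
  generalize Nat.card (CC H e) = t at *
  generalize Nat.card (WW H e n f) = m at *
  clear * - h2 h3 h4 h5 h6 h7 h8 h12 h13 h14
  have h9 : q ≤ t := by
    by_contra! h
    have : t * m ≤ (q - 1) * q := Nat.mul_le_mul (by omega) h4
    obtain ⟨r, rfl⟩ := Nat.exists_eq_add_of_le' h5
    simp at this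
    have := Nat.sub_le_iff_le_add.1 h3
    nlinarith
  have h10 : k ≤ 15 ∧ 0 < k := by
    obtain rfl | ⟨-, h⟩ := h2
    · omega
    · have : 4 * k ≤ (q + 1) * k := Nat.mul_le_mul_right _ (by omega)
      exact ⟨by omega, Nat.pos_of_ne_zero (by rintro rfl; omega)⟩
  have h11 := Nat.le_of_dvd (by omega) h13
  have h15 : q ≤ 18 := by
    obtain rfl | ⟨-, h⟩ := h2
    · omega
    · by_contra!
      have : 20 * k ≤ (q + 1) * k := Nat.mul_le_mul_right _ (by omega)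
      omega
  have : ∀ q < 19, ∀ k < 16, (3 ≤ q ∧ q ≠ 5 ∧ (k = 2 ∨ (k ∣ q - 1 ∧
      ((q + 1) * k = 12 ∨ (q + 1) * k = 24 ∨ (q + 1) * k = 60)))) → ∀ t < 91, (t ∣ q ^ 2 - 1 ∧
      t ∣ 3 * (q - 1) ∧ t ∣ 6 * k) → ∀ m < 19, (m ≤ q ∧ m ∣ q ^ 2 ∧ q ^ 2 - 1 ≤ t * m) →
      q = 11 ∧ m = 11 ∧ (t = 15 ∨ t = 30) := by decide +kernel
  obtain ⟨rfl, rfl, rfl | rfl⟩ := this q (by omega) k (by omega) ⟨h5, h6, h2⟩ t (by omega)
    ⟨h7, h12, h13⟩ m (by omega) ⟨h4, h8, h3⟩ <;> simp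

theorem elim : False := by
  have := h.finite
  have := finite_V (V := V) h
  have := finite_isom (D := D)
  obtain ⟨e, n, f, hf, hl⟩ := hb.exists_lift
  have := Fact.mk (show Nat.Prime 37 by norm_num)
  obtain ⟨rfl, h1⟩ | ⟨rfl, h1⟩ | ⟨rfl, h1, h2⟩ := hb.num_two hf hl
  · have := Fact.mk (show Nat.Prime 7 by norm_num)
    obtain ⟨-, -, k, h2, -, h3⟩ := hb.sylow (r := 7) (N := 32) (by norm_num) h1 (by norm_num)
    revert k; decide +kernel
  · obtain ⟨-, -, k, h2, -, h3⟩ := hb.sylow (r := 37) (N := 5940) (by norm_num) h1 (by norm_num)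
    revert k; decide +kernel
  have h3 := hb.card_eq hf
  have h4 := hf.card_stab hb.le
  rw [h1, h2, hb.AA_eq_bot hf, AddSubgroup.card_bot] at h3 h4
  obtain ⟨P, h5, k, h6, h7, h8⟩ := hb.sylow (r := 37) (N := 11880) (by norm_num) h3 (by norm_num)
  obtain rfl : k = 3 := by clear h7; revert k; decide +kernel
  have := Fact.mk Nat.prime_three
  obtain ⟨⟨ω, k, hk, h9⟩, h10⟩ := exists_prime_orderOf_dvd_card' (G := CC H e) 3 (by simp [h1])
  rw [← Subgroup.orderOf_coe, orderOf_eq_prime_iff] at h10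
  have h11 : (ω : F) ^ 3 = 1 := by simpa [Units.ext_iff] using h10.1
  obtain ⟨z, hz, h12, h13⟩ := hl k hk (by simp [h9, hf.ne])
  have h14 : ∀ x, z.1 x = (ω : F) • x := fun x => by
    rw [h9] at h13
    have h14 := hb.smul_f hf hz h12 h13 (by rw [h.norm_eq, show 11 + 1 = 3 * 4 from rfl, pow_mul,
      h11, one_pow])
    obtain ⟨ψ, -, -, h15, -⟩ := hf.bor (hb.le hz) h13
    obtain ⟨μ, -, h16⟩ := exists_smul_of_stab hf.n0 h12
    obtain rfl : μ = ω := by
      rw [← (hf.coord (a := ψ) (b := σ ω / ω) (c := 0) (a' := 0) (b' := μ) (c' := 0)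
        (by linear_combination (norm := module) h15.symm.trans h16)).2.1, h.apply]
      field_simp
      linear_combination ((ω : F) ^ 6 + ω ^ 3 + 1) * h11
    obtain ⟨a, b, c, rfl⟩ := hf.comb x
    simp only [map_add, map_smul, h13, h14, h16]
    module
  have := isCyclic_of_prime_card h5
  have hP : Subgroup.normalizer (P : Set H) ≤ Subgroup.centralizer (P : Set H) := by
    refine (Subgroup.eq_of_le_of_card_ge (Subgroup.centralizer_le_normalizer _) ?_).ge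
    refine h7.trans_le (Nat.le_of_dvd Nat.card_pos (Nat.Coprime.mul_dvd_of_dvd_of_dvd (by norm_num)
      ?_ (h5.symm.dvd.trans (Subgroup.card_dvd_of_le P.1.le_centralizer))))
    refine (orderOf_eq_prime (x := (⟨z, hz⟩ : H)) (Subtype.ext (isom_ext fun x => ?_)) fun h =>
      h10.2 (Units.ext (smul_left_injective F hf.e0 ?_))).symm.dvd.trans
      (Subgroup.orderOf_dvd_natCard _ fun g _ => Subtype.ext (isom_ext fun x => by
        simp [h14]))
    · simpa [pow_three, isom_mul_apply, h14, smul_smul] using congrArg (· • x) h11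
    · simpa [show z = 1 from congrArg Subtype.val h] using (h14 e).symm
  have h15 := (MonoidHom.ker_transferSylow_isComplement' P hP).card_mul_card
  let K := (MonoidHom.transferSylow P hP).ker.map H.subtype
  have h16 : H ⊓ D.stab (F ∙ e) ≤ K := fun g hg => ⟨⟨g, hg.1⟩, orderOf_eq_one_iff.1
    (Nat.eq_one_of_dvd_coprimes (show Nat.Coprime 37 330 by norm_num)
      ((orderOf_dvd_natCard _).trans h5.dvd) ((orderOf_map_dvd _ _).trans
      ((Subgroup.orderOf_mk _ _).dvd.trans ((Subgroup.orderOf_dvd_natCard _ hg).trans h4.dvd)))),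
    rfl⟩
  have h17 := card_eq_orbit_mul_stab K (F ∙ e)
  rw [show K ⊓ D.stab (F ∙ e) = H ⊓ D.stab (F ∙ e) from le_antisymm
    (inf_le_inf_right _ (Subgroup.map_subtype_le _)) (le_inf h16 inf_le_right), h4,
    Subgroup.card_subtype] at h17
  obtain ⟨⟨ψ, u, hu, δ, h18⟩, h19⟩ := AddSubgroup.ne_bot_iff_exists_ne_zero.1
    ((AddSubgroup.one_lt_card_iff_ne_bot (WW H e n f)).1 (by omega))
  have h20 := mem_stab_of_smul' (h18.he.trans (one_smul F e).symm)
  let := D.subAction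
  have h21 := card_dvd_ncard_of_semiregular (Subgroup.zpowers u)
    ({W' | ∃ g ∈ K, (F ∙ e).map (g.1 : V →ₗ[F] V) = W'} \ {F ∙ e}) (Set.toFinite _) (by
      rintro a ha _ ⟨⟨g, hg, rfl⟩, h21⟩
      have h22 := (Subgroup.zpowers_le (H := H ⊓ D.stab (F ∙ e))).2 ⟨hu, h20⟩ ha
      exact ⟨⟨a * g, mul_mem (h16 h22) hg, mul_smul a g (F ∙ e)⟩, fun h =>
        h21 (smul_left_cancel a (h.trans (D.mem_stab_iff_map.1 h22.2).symm))⟩) (by
      rintro a ha _ ⟨⟨g, hg, rfl⟩, h21⟩ h22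
      have h23 := (Subgroup.zpowers_le (H := H ⊓ stabilizer _ e)).2 ⟨hu, h18.he⟩ ha
      rw [map_span] at h21 h22
      obtain ⟨c, -, h24⟩ := exists_smul_of_stab (by simpa using hf.e0) (D.mem_stab_iff_map.2 h22)
      refine hf.eq_one (hb.le h23.1) h23.2 (by simpa using hf.hyp.Q_e) (fun h => ?_) h24
      obtain ⟨t, ht⟩ := Submodule.mem_span_singleton.1 h
      exact h21 (by rw [← ht]; exact Submodule.span_singleton_smul_eq (left_ne_zero_of_smul
        (ht.trans_ne (by simpa using hf.e0))).isUnit _))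
  rw [Set.ncard_sdiff_singleton_of_mem (by exact ⟨1, one_mem _, one_smul D.isom (F ∙ e)⟩),
    Nat.card_zpowers,
    ← Nat.card_coe_set_eq] at h21
  have h23 : Nat.card {W' // ∃ g ∈ K, (F ∙ e).map (g.1 : V →ₗ[F] V) = W'} = 36 := by
    rw [h5, h3, h17] at h15
    clear * - h15
    omega
  replace h21 := h21.trans (congrArg (· - 1) h23).dvd
  obtain ⟨d, h22⟩ := h18.pow 11
  rw [(cast_eq_zero h (by norm_num)).2 dvd_rfl, zero_mul] at h22
  obtain rfl : d = 0 := (hb.AA_eq_bot hf).le ⟨_, pow_mem hu _, h22⟩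
  obtain rfl := orderOf_eq_one_iff.1 (Nat.eq_one_of_dvd_coprimes
    (show Nat.Coprime 11 35 by norm_num) (orderOf_dvd_of_pow_eq_one (h22.eq_one hf)) h21)
  exact h19 (Subtype.ext (h18.unique hf Un.one).1)

end Bad

theorem le_relIndex (hD : D.Nondeg) (hn : finrank F V = 3) (h3 : 3 ≤ q) (h5 : q ≠ 5)
    (H : Subgroup D.isom) (hH : ¬ D.E ≤ H) : q ^ 3 + 1 ≤ H.relIndex D.E := by
  by_contra! h1
  exact Bad.elim (H := H ⊓ D.E) ⟨hD, hn, inf_le_right, fun h => hH (h.trans inf_le_left),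
    by rwa [Subgroup.inf_relIndex_right], h3, h5⟩

end Cfsg.Lib.Forms.MI.U3
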