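import Cfsg.Agent.Lib.MinIdx.U1

/-!
Minimal index of unitary groups, II: stabilisers of additive subgroups.
-/

set_option autoImplicit false

namespace Cfsg.Lib.Forms.MI

open Module Form

variable {F : Type*} [Field F] {σ : F →+* F} {q : ℕ} {h : IsConj σ q} {V : Type*}
  [AddCommGroup V] [Module F V] {D : Form h.kind V} {H : Subgroup D.isom}

/-- The number of non-zero vectors of norm `c`. -/
noncomputable abbrev nv (D : Form h.kind V) (c : F) : ℕ := {x | x ≠ 0 ∧ D.Q x = c}.ncard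

theorem succ_le_nv [Finite V] {x : V} (hx : x ≠ 0) : q + 1 ≤ nv D (D.Q x) := by
  rw [← h.card_norm_one]
  refine Nat.card_le_card_of_injective (β := {y | y ≠ 0 ∧ D.Q y = D.Q x})
    (fun c => ⟨c.1 • x, smul_ne_zero (left_ne_zero_of_mul_eq_one c.2) hx, by
      rw [D.Q_smul, c.2, one_mul]⟩) fun a b H => Subtype.ext ?_
  exact smul_left_injective F hx (congrArg Subtype.val H)

variable [Finite V] [FiniteDimensional F V]

theorem nv_zero (hD : D.Nondeg) {n : ℕ} (hn : finrank F V = n + 1) : nv D 0 =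
    if Even n then (q ^ (n + 1) + 1) * (q ^ n - 1) else (q ^ (n + 1) - 1) * (q ^ n + 1) := by
  have h1 := card_ne_zero_Q_eq_zero D
  rw [Herm.card_Q_eq_zero hD hn] at h1
  exact Nat.succ_injective h1

omit [Finite V] in
theorem nv_ne (hD : D.Nondeg) {c : F} (hc : σ c = c) (h0 : c ≠ 0) {n : ℕ}
    (hn : finrank F V = n + 1) :
    nv D c = q ^ n * (if Even n then q ^ (n + 1) + 1 else q ^ (n + 1) - 1) := by
  rw [← Herm.card_Q_eq_of_ne_zero hD hc h0 hn]
  refine Nat.card_congr (Equiv.subtypeEquivRight fun x => and_iff_right_of_imp ?_)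
  rintro h1 rfl
  exact h0 (by rw [← h1, Q_zero])

theorem le_nv (hD : D.Nondeg) {c : F} (hc : σ c = c) {n : ℕ} (hn : finrank F V = n + 1) :
    (q ^ (n + 1) + 1) * (q ^ n - 1) ≤ nv D c := by
  have hq := h.two_le
  obtain ⟨y, hy⟩ : ∃ y, q ^ n = y + 1 :=
    ⟨_, (Nat.sub_add_cancel (Nat.one_le_pow _ _ (by omega))).symm⟩
  obtain ⟨z, hz⟩ : ∃ z, q ^ (n + 1) = z + 1 :=
    ⟨_, (Nat.sub_add_cancel (Nat.one_le_pow _ _ (by omega))).symm⟩
  have h1 : 2 * (y + 1) ≤ z + 1 := by rw [← hy, ← hz, pow_succ]; nlinarith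
  by_cases h0 : c = 0
  · rw [h0, nv_zero hD hn, hy, hz]
    split_ifs
    · exact le_rfl
    · simp only [Nat.add_sub_cancel]; nlinarith
  · rw [nv_ne hD hc h0 hn, hy, hz]
    split_ifs <;> simp only [Nat.add_sub_cancel] <;> nlinarith

theorem le_nv_ts (hD : D.Nondeg) {j : ℕ} (hj : 1 ≤ j) (hn : 2 * j ≤ finrank F V) :
    (q + 1) * (q ^ (2 * j) - 1) ≤ nv D 0 := by
  have hq := h.two_le
  have hp : ∀ {a b}, a ≤ b → q ^ a ≤ q ^ b := Nat.pow_le_pow_right (by omega)
  obtain ⟨n, hn'⟩ : ∃ n, finrank F V = n + 1 := ⟨finrank F V - 1, by omega⟩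
  have h1 : q ≤ q ^ n := by simpa using hp (show 1 ≤ n by omega)
  rw [nv_zero hD hn']
  split_ifs with h2
  · obtain ⟨m, rfl⟩ := h2
    exact Nat.mul_le_mul (Nat.succ_le_succ (h1.trans (hp (by omega))))
      (Nat.sub_le_sub_right (hp (by omega)) 1)
  · rw [mul_comm]
    exact Nat.mul_le_mul (Nat.sub_le_sub_right (hp (by omega)) 1) (Nat.succ_le_succ h1)

omit [Finite V] in
theorem card_V (h : IsConj σ q) : Nat.card V = q ^ (2 * finrank F V) := by
  have := h.finite
  rw [Module.natCard_eq_pow_finrank (K := F), h.card, pow_mul]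

omit [Finite V] in
theorem card_sub (h : IsConj σ q) (S : Submodule F V) :
    Nat.card S.toAddSubgroup = q ^ (2 * finrank F S) := card_V (V := S) h

theorem card_le_of_pairing (hD : D.Nondeg) {W : AddSubgroup V} {A : AddSubgroup F} (hA : A ≠ ⊤)
    (hW : ∀ x ∈ W, ∀ y ∈ W, D.B x y ∈ A) : Nat.card W ≤ q ^ finrank F V := by
  have := h.finite
  have h1 := relIndex_le_of_pairing (AddMonoidHom.mk' (fun x => (D.B x).toAddMonoidHom)
    fun x y => by ext; simp) hA (R := ⊥) (W := W) (L := ⊤) (W' := W) (fun x _ hx c => by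
      obtain ⟨y, hy⟩ := hD.exists_ne_zero hx
      exact ⟨(c * (D.B x y)⁻¹) • y, trivial, by simp [hy]⟩) fun x hx y hy _ => hW x hx y hy
  rw [AddSubgroup.relIndex_bot_left, AddSubgroup.relIndex_top_right] at h1
  have h2 := W.card_mul_index
  rw [card_V (V := V) h, two_mul, pow_add] at h2
  exact Nat.mul_self_le_mul_self_iff.1 (h2 ▸ Nat.mul_le_mul_left _ h1)

omit [Finite V] in
/-- The point stabiliser is transitive on the vectors of `u^⊥ \ ⟨u⟩` of given norm. -/
theorem exists_map_stab (hD : D.Nondeg) (hn : 3 ≤ finrank F V) {u x y : V} (hu : D.Q u = 0)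
    (h0 : u ≠ 0) (hx : D.B u x = 0) (hx' : x ∉ F ∙ u) (hy : D.B u y = 0) (hy' : y ∉ F ∙ u)
    (hQ : D.Q x = D.Q y) : ∃ g ∈ D.E ⊓ D.stab (F ∙ u), g.1 x = y := by
  obtain ⟨g, h1, h2⟩ := hD.exists_fix_map_top (F ∙ u) hx' hy' (fun z hz => by
    obtain ⟨a, rfl⟩ := Submodule.mem_span_singleton.1 hz
    simp [hx, hy]) hQ
  obtain ⟨f, hf, hQf, hB⟩ := hD.exists_partner (H := F ∙ y) hu (fun H => hy' (by
    obtain ⟨a, rfl⟩ := Submodule.mem_span_singleton.1 H
    have : a ≠ 0 := fun h => h0 (by simp [h])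
    exact Submodule.mem_span_singleton.2 ⟨a⁻¹, by simp [smul_smul, this]⟩))
    ((mem_perp_span_singleton D).2 (D.eq_zero_symm hy)) 1 one_ne_zero
  have hyp : D.IsHyp u f := ⟨hu, hQf, hB⟩
  obtain ⟨c, hc, H⟩ := h.exists_div_eq (hD.det_mul_σ_det g⁻¹)
  obtain ⟨k, h3, h4, h5⟩ := hyp.exists_torus hD hc
  refine ⟨k * g, ⟨?_, mem_stab_of_mapsTo _ fun z hz => ?_⟩, ?_⟩
  · change k * g ∈ D.E
    rw [Herm.E_eq hD hn, MonoidHom.mem_ker, map_mul,
      show D.det k = D.det g⁻¹ from Units.ext ((hyp.det_torus h3 h4 h5).trans H), ← map_mul]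
    simp
  · obtain ⟨a, rfl⟩ := Submodule.mem_span_singleton.1 hz
    rw [isom_mul_apply, h1 _ hz, map_smul, h3]
    exact Submodule.smul_mem _ _ (Submodule.smul_mem _ _ (Submodule.mem_span_singleton_self u))
  · rw [isom_mul_apply, h2, h5 y ((mem_hp D).2 ⟨hy, D.eq_zero_symm
      ((mem_perp_span_singleton D).1 hf)⟩)]

theorem orb_stab (hD : D.Nondeg) (hn : 3 ≤ finrank F V) {u f x : V} (hf : D.IsHyp u f)
    (hx : D.B u x = 0) (hx' : x ∉ F ∙ u) {W : AddSubgroup V} (h1 : ∀ c : F, c • u ∈ W)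
    {K : Subgroup D.isom} (hK : ∀ g ∈ K, g ∈ D.E ⊓ D.stab (F ∙ u) → g.1 x ∈ W) :
    q ^ 2 * nv (D.restrict (D.hp u f)) (D.Q x) ≤
      K.relIndex (D.E ⊓ D.stab (F ∙ u)) * (Nat.card W - q ^ 2) := by
  have := finite_isom (D := D)
  have := h.finite
  have h2 := ncard_mul_le_vec K (D.E ⊓ D.stab (F ∙ u)) x
    (T := {y | D.B u y = 0 ∧ y ∉ F ∙ u ∧ D.Q y = D.Q x}) (A := (W : Set V) \ (F ∙ u : Submodule F V))
    (fun y hy => exists_map_stab hD hn hf.Q_e hf.e_ne_zero hx hx' hy.1 hy.2.1 hy.2.2.symm)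
    fun g hg hg' => ⟨hK g hg hg', fun h => hx' ((hg'.2 x).2 h)⟩
  rw [Set.ncard_sdiff (fun z hz => by
    obtain ⟨a, rfl⟩ := Submodule.mem_span_singleton.1 hz
    exact h1 a), show ((F ∙ u : Submodule F V) : Set V).ncard = q ^ 2 by
      exact (card_sub h (F ∙ u)).trans (by rw [finrank_span_singleton hf.e_ne_zero])] at h2
  refine le_trans ?_ ((Nat.le_mul_of_pos_right _ (Nat.pos_of_ne_zero (relIndex_ne_zero' _ _))).trans h2)
  rw [← h.card, nv, ← Nat.card_coe_set_eq, ← Nat.card_prod]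
  have key : ∀ (a : F) (w : D.hp u f), D.B f (a • u + w) = a := fun a w => by
    simpa using hf.B_f_comb a 0 w.2
  refine Nat.card_le_card_of_injective (β := {y | D.B u y = 0 ∧ y ∉ F ∙ u ∧ D.Q y = D.Q x})
    (fun p => ⟨p.1 • u + p.2.1.1, by simpa using hf.B_e_comb p.1 0 p.2.1.2, fun H => p.2.2.1 ?_,
      by simpa using (hf.Q_comb p.1 0 p.2.1.2).trans (by simpa using p.2.2.2)⟩) fun a b H => ?_
  · obtain ⟨c, hc⟩ := Submodule.mem_span_singleton.1 H
    have := key p.1 p.2.1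
    rw [← hc, ← add_zero (c • u), ← Submodule.coe_zero (p := D.hp u f), key] at this
    exact Subtype.ext (by simpa [this] using hc.symm)
  · have H' : a.1 • u + a.2.1.1 = b.1 • u + b.2.1.1 := congrArg Subtype.val H
    have := key a.1 a.2.1
    rw [H', key] at this
    exact Prod.ext this.symm (Subtype.ext (Subtype.ext (by simpa [this] using H')))

theorem relIndex_pe (hD : D.Nondeg) {u : V} (h0 : u ≠ 0) {Z : AddSubgroup V} (hZ : Z ≤ pe D u) :
    Nat.card Z * Z.relIndex (pe D u) = q ^ (2 * (finrank F V - 1)) := by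
  have := h.finite
  have h1 := AddSubgroup.relIndex_mul_relIndex ⊥ Z (pe D u) bot_le hZ
  rwa [AddSubgroup.relIndex_bot_left, AddSubgroup.relIndex_bot_left, card_pe hD h0, h.card,
    ← pow_mul] at h1

theorem pow_le_relIndex_pe (hD : D.Nondeg) {u : V} (h0 : u ≠ 0) {Z : AddSubgroup V}
    (hZ : Z ≤ pe D u) {a b : ℕ} (h1 : Nat.card Z ≤ q ^ a) (h2 : a + b ≤ 2 * (finrank F V - 1)) :
    q ^ b ≤ Z.relIndex (pe D u) := by
  have hq := h.two_le
  refine Nat.le_of_mul_le_mul_left (c := q ^ a) ?_ (pow_pos (by omega) _)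
  rw [← pow_add]
  exact (Nat.pow_le_pow_right (by omega) h2).trans
    ((relIndex_pe hD h0 hZ).ge.trans (Nat.mul_le_mul_right _ h1))

/-- `(W ∩ u^⊥) + ⟨u⟩`. -/
def wu (D : Form h.kind V) (W : AddSubgroup V) {u : V} (hu : D.Q u = 0) : AddSubgroup V where
  carrier := {x | D.B u x = 0 ∧ ∃ a : F, x + a • u ∈ W}
  zero_mem' := ⟨by simp, 0, by simp⟩
  add_mem' := by
    rintro x y ⟨h1, a, ha⟩ ⟨h2, b, hb⟩
    exact ⟨by simp [h1, h2], a + b, by convert W.add_mem ha hb using 1; module⟩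
  neg_mem' := by
    rintro x ⟨h1, a, ha⟩
    exact ⟨by simp [h1], -a, by convert W.neg_mem ha using 1; module⟩

omit [Finite V] [FiniteDimensional F V] in
theorem smul_mem_wu (W : AddSubgroup V) {u : V} (hu : D.Q u = 0) (c : F) : c • u ∈ wu D W hu :=
  ⟨by simp [D.B_self_of_Q hu], -c, by simp⟩

omit [Finite V] [FiniteDimensional F V] in
theorem B_mem_wu {W : AddSubgroup V} {A : AddSubgroup F} (hW : ∀ x ∈ W, ∀ y ∈ W, D.B x y ∈ A)
    {u : V} (hu : D.Q u = 0) : ∀ x ∈ wu D W hu, ∀ y ∈ wu D W hu, D.B x y ∈ A := by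
  rintro x ⟨h1, a, ha⟩ y ⟨h2, b, hb⟩
  simpa [h2, D.eq_zero_symm h1, D.B_self_of_Q hu] using hW _ ha _ hb

omit [FiniteDimensional F V] in
theorem map_mem_wu {W : AddSubgroup V} {u : V} (hu : D.Q u = 0) (h0 : u ≠ 0) :
    astab D W ⊓ (D.E ⊓ D.stab (F ∙ u)) ≤ astab D (wu D W hu) := by
  rintro g ⟨hg, -, hg'⟩ x ⟨h1, a, ha⟩
  obtain ⟨c, hc, h2⟩ := exists_smul_of_stab h0 hg'
  refine ⟨?_, a * c, by simpa [h2, smul_smul] using hg _ ha⟩
  have := B_isom g u x
  simpa [h2, h1, hc] using this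

theorem wlem_hard (hD : D.Nondeg) (hn : 3 ≤ finrank F V) {W : AddSubgroup V} {A : AddSubgroup F}
    (hA : A ≠ ⊤) (hW : ∀ x ∈ W, ∀ y ∈ W, D.B x y ∈ A) (hc : q ^ (finrank F V - 1) < Nat.card W) :
    (q + 1) * q ^ (finrank F V - 1) ≤ (astab D W).relIndex D.E := by
  have := finite_isom (D := D)
  have := h.finite
  have hq := h.two_le
  have hp : ∀ {a b}, a ≤ b → q ^ a ≤ q ^ b := Nat.pow_le_pow_right (by omega)
  have h1 := card_le_of_pairing hD hA hW
  obtain ⟨k, hk⟩ : ∃ k, finrank F V = k + 1 := ⟨finrank F V - 1, by omega⟩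
  obtain ⟨u, h0, hu, h2⟩ : ∃ u, u ≠ 0 ∧ D.Q u = 0 ∧ ∀ c : F, c • u ∈ W → c = 0 := by
    by_contra! H
    have h3 := le_nv hD (map_zero σ) hk
    have h4 : nv D 0 ≤ (q ^ 2 - 1) * (Nat.card W - 1) := by
      rw [← h.card, ← Nat.card_units, show Nat.card W - 1 = _ from
        (Set.ncard_sdiff_singleton_of_mem (s := (W : Set V)) W.zero_mem).symm,
        ← Nat.card_coe_set_eq, ← Nat.card_prod, nv, ← Nat.card_coe_set_eq]
      choose c hc hc0 using fun u : {x | x ≠ 0 ∧ D.Q x = 0} => H u u.2.1 u.2.2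
      refine Nat.card_le_card_of_injective (fun u => (Units.mk0 _ (hc0 u), ⟨c u • u.1, hc u,
        smul_ne_zero (hc0 u) u.2.1⟩)) fun a b H => Subtype.ext ?_
      simp only [Prod.mk.injEq, Units.mk0_inj] at H
      have H2 : c a • a.1 = c b • b.1 := congrArg Subtype.val H.2
      exact smul_right_injective V (hc0 b) (H.1 ▸ H2)
    have h5 := hp (show 2 ≤ k by omega)
    have h6 : 4 ≤ q ^ 2 := by nlinarith
    rw [hk] at h1
    have := Nat.mul_le_mul (show Nat.card W - 1 + 1 ≤ q ^ (k + 1) + 1 by omega)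
      (show q ^ 2 - 1 ≤ q ^ k - 1 by omega)
    have h7 : 0 < q ^ 2 - 1 := by omega
    nlinarith
  have h3 := card_le_of_pairing hD hA (B_mem_wu hW hu)
  rw [hk, Nat.add_sub_cancel] at hc ⊢
  obtain ⟨x, hx, hx'⟩ : ∃ x ∈ W, D.B u x ≠ 0 := by
    by_contra! H
    have h4 : Nat.card (W × F) ≤ Nat.card (wu D W hu) := Nat.card_le_card_of_injective
      (fun p => ⟨p.1 + p.2 • u, by simp [H _ p.1.2, D.B_self_of_Q hu], -p.2, by simp⟩)
      fun a b H => by
        have H' : a.1 + a.2 • u = b.1 + b.2 • u := congrArg Subtype.val H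
        have : a.2 = b.2 := sub_eq_zero.1 (h2 _ (by
          convert W.sub_mem b.1.2 a.1.2 using 1
          linear_combination (norm := module) H'))
        exact Prod.ext (Subtype.ext (by simpa [this] using H')) this
    rw [Nat.card_prod, h.card] at h4
    rw [hk, pow_succ] at h3
    nlinarith [Nat.mul_le_mul_left (q ^ k) (show q ≤ q ^ 2 by nlinarith)]
  have h4 : (As (astab D W) hu).index = q := by
    refine (congrArg _ (le_antisymm (fun a ha => ?_) (fx_le_As hu))).trans (index_fx h)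
    have := h2 (-(D.B u x * (a - σ a))) (by
      convert W.sub_mem (ha x hx) hx using 1
      simp only [tv, eich_apply, hermKind_ε, D.B_lin]
      module)
    exact (sub_eq_zero.1 (by simpa [hx'] using this)).symm
  have key : ∀ K : Subgroup D.isom, astab D W ⊓ (D.E ⊓ D.stab (F ∙ u)) ≤ K → Qs hu ⊤ ≤ K →
      ∀ a b, a ≤ K.relIndex (D.E ⊓ D.stab (F ∙ u)) →
        q ^ b ≤ (zSet (astab D W) u hu).relIndex (pe D u) → (q + 1) * q ^ k ≤ a * q ^ (b + 1) →
        (q + 1) * q ^ k ≤ (astab D W).relIndex D.E := fun K h5 h6 a b h7 h8 h9 => by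
    have := basic hD hu h0 h5 h6 (Qs_le_stab hu _)
    rw [h4] at this
    refine h9.trans (le_trans ?_ (this.trans (relIndex_mono _ inf_le_left)))
    rw [pow_succ, ← mul_assoc]
    exact Nat.mul_le_mul_right _ (Nat.mul_le_mul h7 h8)
  obtain ⟨f, hf⟩ := hD.exists_isHyp hu h0
  have h5 := hf.finrank_hp
  by_cases hZ : zSet (astab D W) u hu ≤ (F ∙ u).toAddSubgroup
  · have h6 := pow_le_relIndex_pe hD h0 (zSet_le_pe (H := astab D W) hu) (a := 2) (b := 2 * k - 2)
      ((AddSubgroup.card_le_of_le hZ).trans (by rw [card_sub h, finrank_span_singleton h0]))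
      (by omega)
    by_cases h7 : k = 2
    · obtain ⟨y, hy, hy0, hy'⟩ : ∃ y ∈ W, y ≠ 0 ∧ D.B u y = 0 := by
        by_contra! H
        have := Nat.card_le_card_of_injective (fun y : W => D.B u y) fun a b h => by
          by_contra h'
          exact H _ (W.sub_mem a.2 b.2) (sub_ne_zero.2 fun h => h' (Subtype.ext h))
            (by simpa [sub_eq_zero] using h)
        rw [h.card, ← h7] at this
        omega
      have h8 : y ∉ F ∙ u := fun h => by
        obtain ⟨c, rfl⟩ := Submodule.mem_span_singleton.1 h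
        exact hy0 (by simp [h2 c hy])
      have h9 := orb_stab hD hn hf hy' h8 (smul_mem_wu W hu) (K := astab D (wu D W hu))
        fun g hg _ => hg y ⟨hy', 0, by simpa using hy⟩
      obtain ⟨w, hw, h10⟩ := hf.exists_comb y
      have h11 := succ_le_nv (D := D.restrict (D.hp u f)) (x := ⟨w, hw⟩) fun h => h8 (by
        rw [h10, hy', show w = 0 from congrArg Subtype.val h]
        simp [Submodule.smul_mem, Submodule.mem_span_singleton_self])
      rw [restrict_Q, show D.Q w = D.Q y by rw [h10, hf.Q_comb _ _ hw, hy']; simp] at h11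
      refine key _ (map_mem_wu hu h0) (Qs_le_astab hu (fun _ h => mem_pe.2 h.1) (smul_mem_wu W hu))
        2 _ ?_ h6 (by rw [h7]; norm_num; nlinarith [Nat.mul_le_mul_left (q ^ 2) hq])
      by_contra! h12
      have := Nat.mul_le_mul (Nat.le_of_lt_succ h12) (Nat.sub_le (Nat.card (wu D W hu)) (q ^ 2))
      rw [hk, h7] at h3
      have h13 := (Nat.mul_le_mul_left (q ^ 2) h11).trans (h9.trans (this.trans
        (Nat.mul_le_mul_left _ h3)))
      rw [one_mul, pow_succ q 2] at h13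
      exact absurd (Nat.le_of_mul_le_mul_left h13 (by positivity)) (by omega)
    · refine key ⊤ le_top le_top 1 _ (by simp) h6 ?_
      have := hp (show k + 2 ≤ 2 * k - 2 + 1 by omega)
      rw [pow_add] at this
      nlinarith [Nat.mul_le_mul_left (q ^ k) (show q + 1 ≤ q ^ 2 by nlinarith)]
  obtain ⟨z, hz, hz'⟩ := SetLike.not_le_iff_exists.1 hZ
  have h6 : ∀ y ∈ zSet (astab D W) u hu, ∀ z ∈ zSet (astab D W) u hu, D.B y z = 0 := by
    rintro y ⟨c, hy, hy'⟩ z ⟨d, hz, hz'⟩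
    have h7 := W.sub_mem (hz' x hx) hx
    have h8 : D.B u ((D.eich u z d hz).1 x - x) = 0 := by simp [B_eich]
    have h9 := W.sub_mem (hy' _ h7) h7
    rw [D.eich_apply_of_perp hy h8, add_sub_cancel_left] at h9
    simpa [eich_apply, hy.B_ze, hx'] using h2 _ h9
  set S := Submodule.span F (zSet (astab D W) u hu : Set V)
  have hS : D.IsTS S := Herm.isTS fun a ha b hb => (Submodule.span_le (p := D.perp S)).2
    (fun y hy => (mem_perp_span D).2 fun z hz => h6 z hz y hy) hb a ha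
  have huS : u ∈ S := Submodule.subset_span (by simpa using smul_mem_zSet hu 1)
  have h7 := hS.two_mul_finrank_le hD
  have h8 : 1 < finrank F S := by
    rw [← finrank_span_singleton (K := F) h0]
    exact Submodule.finrank_lt_finrank_of_lt (lt_of_le_of_ne
      ((Submodule.span_singleton_le_iff_mem _ _).2 huS) fun h => hz' (h.ge (Submodule.subset_span hz)))
  obtain ⟨j, hj⟩ : ∃ j, finrank F S = j + 1 := ⟨finrank F S - 1, by omega⟩
  have h9 := orb_stab hD hn hf (perp_of_mem_zSet hz) hz' (W := S.toAddSubgroup)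
    (fun c => S.smul_mem c huS) (K := D.stab S) fun g hg _ => stab_mem hg (Submodule.subset_span hz)
  have h10 := le_nv_ts (hf.nondeg_hp hD) (j := j) (by omega) (by omega)
  rw [hS.Q_eq z (Submodule.subset_span hz), card_sub h, hj, mul_add, pow_add, mul_one,
    ← Nat.sub_one_mul, ← mul_assoc, mul_comm] at h9
  refine key (D.stab S) ?_ ?_ (q + 1) (k - 1) ?_ (pow_le_relIndex_pe hD h0 (zSet_le_pe hu)
    (card_le_of_pairing hD (fx_ne_top h) fun a ha b hb => by simp [h6 a ha b hb]) (by omega))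
    (by rw [Nat.sub_add_cancel (by omega)])
  · rintro g ⟨hg, -, hg'⟩
    obtain ⟨c, hc, h11⟩ := exists_smul_of_stab h0 hg'
    refine mem_stab_of_mapsTo _ fun x hx =>
      (Submodule.span_le (p := S.comap (g.1 : V →ₗ[F] V))).2 (fun y hy => ?_) hx
    exact (S.smul_mem_iff ((map_ne_zero σ).2 hc)).1 (Submodule.subset_span (map_mem_zSet hy hg h11))
  · rintro _ ⟨z, -, d, h, rfl⟩
    exact hS.eich_mem_stab h huS
  · exact Nat.le_of_mul_le_mul_right (h10.trans (Nat.le_of_mul_le_mul_right h9 (by positivity)))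
      (Nat.sub_pos_of_lt (Nat.one_lt_pow (by omega) hq))

/-- The stabiliser of a small additive subgroup has large index. -/
theorem wlem (hD : D.Nondeg) (hn : 3 ≤ finrank F V) {W : AddSubgroup V} {A : AddSubgroup F}
    (hA : A ≠ ⊤) (hW : ∀ x ∈ W, ∀ y ∈ W, D.B x y ∈ A) (h0 : W ≠ ⊥) :
    (q + 1) * Nat.card W ≤ q * (astab D W).relIndex D.E := by
  have hq := h.two_le
  obtain ⟨k, hk⟩ : ∃ k, finrank F V = k + 1 := ⟨finrank F V - 1, by omega⟩
  rcases lt_or_ge (q ^ (finrank F V - 1)) (Nat.card W) with hc | hc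
  · have h1 := wlem_hard hD hn hA hW hc
    have h2 := card_le_of_pairing hD hA hW
    rw [hk, Nat.add_sub_cancel] at h1
    rw [hk, pow_succ] at h2
    nlinarith [Nat.mul_le_mul_left q h1, Nat.mul_le_mul_left (q + 1) h2]
  obtain ⟨x, hx, hx0⟩ := (AddSubgroup.bot_or_exists_ne_zero W).resolve_left h0
  have h1 := ncard_mul_le_vec (astab D W) D.E x (T := {y | y ≠ 0 ∧ D.Q y = D.Q x})
    (A := (W : Set V) \ {0}) (fun y hy => Herm.exists_mem_E_map hD hn hx0 hy.1 hy.2.symm)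
    fun g hg _ => ⟨hg x hx, by simpa using hx0⟩
  have := finite_isom (D := D)
  have h2 := (le_nv hD (herm_σ_Q D x) hk).trans
    ((Nat.le_mul_of_pos_right _ (Nat.pos_of_ne_zero (relIndex_ne_zero' _ _))).trans h1)
  rw [Set.ncard_sdiff_singleton_of_mem W.zero_mem] at h2
  rw [hk, Nat.add_sub_cancel] at hc
  have h3 : 1 < Nat.card W := (AddSubgroup.one_lt_card_iff_ne_bot W).2 h0
  have h4 : q ^ (k + 1) + 1 ≤ (astab D W).relIndex D.E := Nat.le_of_mul_le_mul_right
    ((Nat.mul_le_mul_left _ (Nat.sub_le_sub_right hc 1)).trans h2) (by omega)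
  rw [pow_succ] at h4
  nlinarith [Nat.mul_le_mul_left q h4, Nat.mul_le_mul_left (q + 1) hc,
    Nat.mul_le_mul_left (q ^ k) (show q + 1 ≤ q * q by nlinarith)]

end Cfsg.Lib.Forms.MI
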