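import Cfsg.Agent.Lib.MinIdx.U2

/-!
Minimal index of unitary groups, III: the set of centres of full transvection groups.
-/

set_option autoImplicit false

namespace Cfsg.Lib.Forms.MI

open Module Form

variable {F : Type*} [Field F] {σ : F →+* F} {q : ℕ} {h : IsConj σ q} {V : Type*}
  [AddCommGroup V] [Module F V] {D : Form h.kind V} {H : Subgroup D.isom}

/-- Isotropic vectors all of whose transvections lie in `H`. -/
def Xs (H : Subgroup D.isom) : Set V := {x | D.Q x = 0 ∧ D.At H ⊥ x}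

/-- `H ∩ Q_e = 1`. -/
def TrivU (H : Subgroup D.isom) (e : V) : Prop :=
  ∀ z d (hd : D.IsEich e z d), D.eich e z d hd ∈ H → D.eich e z d hd = 1

/-- `P_e = (H ∩ P_e) Q_e`. -/
def LiftU (H : Subgroup D.isom) {e : V} (he : D.Q e = 0) : Prop :=
  ∀ g ∈ D.E ⊓ D.fix (F ∙ e), ∃ t ∈ Qs he ⊤, g * t ∈ H

theorem exists_norm_one (h : IsConj σ q) : ∃ m : F, m * σ m = 1 ∧ m ^ 2 ≠ 1 := by
  by_contra! H
  have := h.finite
  have h1 := Set.ncard_le_ncard (s := {x : F | x * σ x = 1}) (t := {1, -1})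
    (fun x hx => sq_eq_one_iff.1 (H x hx))
  have h2 := Set.ncard_insert_le (1 : F) {-1}
  have h3 : {x : F | x * σ x = 1}.ncard = q + 1 := h.card_norm_one
  have := h.two_le
  rw [Set.ncard_singleton] at h2
  omega

theorem smul_mem_Xs {x : V} (hx : x ∈ Xs H) (c : F) : c • x ∈ Xs H :=
  ⟨D.Q_smul_of_Q hx.1 c, hx.2.smul c⟩

theorem map_mem_Xs {x : V} (hx : x ∈ Xs H) {g : D.isom} (hg : g ∈ H) : g.1 x ∈ Xs H :=
  ⟨by simpa using hx.1, hx.2.conj hg (by simp)⟩

theorem not_mem_Xs {e : V} (he : D.Q e = 0) : e ∉ Xs H ↔ As H he ≠ ⊤ := by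
  simp [Xs, he, As_eq_top]

theorem hyp_mem_Xs {a b : V} (ha : a ∈ Xs H) (hb : b ∈ Xs H) (hab : D.B a b ≠ 0) {c : F}
    (hQ : D.Q (a + c • b) = 0) : a + c • b ∈ Xs H := by
  have key : ∀ {a b : V}, a ∈ Xs H → D.B a b ≠ 0 → D.At H (Submodule.span F {a, b}) a :=
    fun {a b} ha hab => at_of_zSet (he := ha.1) ha.2 fun z hz hz' => by
      obtain ⟨s, t, rfl⟩ := Submodule.mem_span_pair.1 hz
      obtain rfl : t = 0 := by simpa [D.B_self_of_Q ha.1, hab] using hz'
      simpa using smul_mem_zSet ha.1 s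
  have h1 : a ∈ Submodule.span F {a, b} := Submodule.subset_span (by simp)
  have h2 : b ∈ Submodule.span F {a, b} := Submodule.subset_span (by simp)
  exact ⟨hQ, ((key ha hab).full (Set.pair_comm a b ▸ key hb (D.ne_zero_symm hab)) h1 h2 ha.1 hb.1
    hab _ (add_mem h1 (Submodule.smul_mem _ c h2)) fun H => D.ne_zero_symm hab (by
      simpa [D.B_self_of_Q hb.1] using H b h2)).mono bot_le⟩

variable [FiniteDimensional F V]

theorem eich_eq_one (hD : D.Nondeg) {e z : V} {d : F} {hd : D.IsEich e z d} (h0 : e ≠ 0)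
    (H : D.eich e z d hd = 1) : z ∈ F ∙ e ∧ (z = 0 → d = 0) := by
  refine ⟨by simpa using sub_mem_of_eich_eq hD h0 (H.trans
    (D.eich_zero (isEich_zero hd.Q_e (by simp))).symm), ?_⟩
  rintro rfl
  obtain ⟨f, hf⟩ := hD.exists_isHyp hd.Q_e h0
  simpa [eich_apply, hf.B_ef, h0] using congrArg (fun g : D.isom => g.1 f) H

theorem mem_Xs_of_line (hD : D.Nondeg) (hT : ∀ x, x ≠ 0 → D.Q x = 0 → x ∉ Xs H → TrivU H x)
    {e u : V} (h0 : e ≠ 0) (hu : u ∉ F ∙ e) {b c d l : F} (h1 : D.IsEich u 0 d)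
    (h2 : D.IsEich e (b • u) c) (heu : D.B e u = 0) (hd : d ≠ 0)
    (h3 : D.eich u 0 d h1 * D.eich e (b • u) c h2 ∈ H)
    (hl : d * (l * σ l) - b * l + σ (b * l) + c = 0) : u + l • e ∈ Xs H := by
  have hue := D.eq_zero_symm heu
  have hQ : D.Q (u + l • e) = 0 := by rw [D.Q_add_smul h2.Q_e, h1.Q_e, hue]; simp
  have hd' : σ d = -d := by have := h1.tr_d; simp at this; linear_combination this
  have h4 : D.IsEich (u + l • e) ((-σ b - d * l) • e) d :=
    ⟨hQ, by simp [hue, h2.B_ee], by rw [h1.tr_d, D.Q_smul_of_Q h2.Q_e, Q_zero]⟩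
  have h5 : u + l • e ≠ 0 := fun h => hu (by
    rw [eq_neg_of_add_eq_zero_left h]
    exact neg_mem (Submodule.smul_mem _ _ (Submodule.mem_span_singleton_self e)))
  by_contra h6
  have h7 : D.eich u 0 d h1 * D.eich e (b • u) c h2 = D.eich _ _ _ h4 := isom_ext fun x => by
    simp only [isom_mul_apply, eich_apply, D.B_lin, hue, h1.B_ee, hermKind_ε, map_sub, map_neg,
      map_mul, h.σσ, hd'] at hl ⊢
    linear_combination (norm := module) (-D.B e x * hl) • e
  obtain ⟨h8, h9⟩ := eich_eq_one hD h5 (hT _ h5 hQ h6 _ _ _ (h7 ▸ h3))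
  obtain ⟨s, hs⟩ := Submodule.mem_span_singleton.1 h8
  by_cases hs0 : s = 0
  · exact hd (h9 (by rw [← hs, hs0, zero_smul]))
  · exact hu (Submodule.mem_span_singleton.2 ⟨s⁻¹ * (-σ b - d * l) - l, by
      rw [sub_smul, mul_smul, ← hs, smul_smul, inv_mul_cancel₀ hs0]; simp⟩)

theorem line_mem_Xs (hD : D.Nondeg) (hT : ∀ x, x ≠ 0 → D.Q x = 0 → x ∉ Xs H → TrivU H x)
    {a b : V} (ha : a ∈ Xs H) (hb : b ∈ Xs H) {c : F} (hQ : D.Q (a + c • b) = 0) :
    a + c • b ∈ Xs H := by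
  by_cases hab : D.B a b = 0
  swap
  · exact hyp_mem_Xs ha hb hab hQ
  by_cases h0 : b = 0
  · simpa [h0] using ha
  by_cases h1 : a ∈ F ∙ b
  · obtain ⟨s, rfl⟩ := Submodule.mem_span_singleton.1 h1
    exact add_smul s c b ▸ smul_mem_Xs hb _
  obtain ⟨θ, h2, h3⟩ := h.exists_trace_zero
  refine mem_Xs_of_line hD hT h0 h1 (b := 0) (c := -(θ * (c * σ c))) (isEich_zero ha.1 h3)
    ⟨hb.1, by simp, by simp [h.σσ]; linear_combination -(c * σ c) * h3⟩ (D.eq_zero_symm hab) h2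
    (H.mul_mem (ha.2 _ (by simp) _ _) (hb.2 _ (by simp) _ _)) (by simp)

theorem chain_mem_Xs (hD : D.Nondeg) (hT : ∀ x, x ≠ 0 → D.Q x = 0 → x ∉ Xs H → TrivU H x)
    {e f n : V} (hf : D.IsHyp e f) (he : e ∈ Xs H) (hf' : f ∈ Xs H) (hn : n ∈ D.hp e f)
    (h0 : D.Q n ≠ 0) {a b a' b' : F} (h1 : a • e + b • f + n ∈ Xs H)
    (h2 : σ a' * b' + a' * σ b' + D.Q n = 0) : a' • e + b' • f + n ∈ Xs H := by
  have hQ : ∀ a b : F, D.Q (a • e + b • f + n) = σ a * b + a * σ b + D.Q n := fun a b => by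
    simp [hf.Q_comb a b hn, h.σσ]
  have mA : ∀ {a b : F} (a' : F), a • e + b • f + n ∈ Xs H → σ a' * b + a' * σ b + D.Q n = 0 →
      a' • e + b • f + n ∈ Xs H := fun {a b} a' h1 h2 => by
    have : a' • e + b • f + n = a • e + b • f + n + (a' - a) • e := by module
    exact this ▸ line_mem_Xs hD hT h1 he (this ▸ (hQ _ _).trans h2)
  have mB : ∀ {a b : F} (b' : F), a • e + b • f + n ∈ Xs H → σ a * b' + a * σ b' + D.Q n = 0 →
      a • e + b' • f + n ∈ Xs H := fun {a b} b' h1 h2 => by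
    have : a • e + b' • f + n = a • e + b • f + n + (b' - b) • f := by module
    exact this ▸ line_mem_Xs hD hT h1 hf' (this ▸ (hQ _ _).trans h2)
  have hc := herm_σ_Q D n
  have step : ∀ {a b : F}, a • e + b • f + n ∈ Xs H → b * σ b' - σ b * b' ≠ 0 →
      a' • e + b' • f + n ∈ Xs H := fun {a b} h1 h3 => by
    have h4 : σ (D.Q n * (b' - b) / (b * σ b' - σ b * b')) =
        -(D.Q n * (σ b' - σ b) / (b * σ b' - σ b * b')) := by
      simp only [map_div₀, map_mul, map_sub, hc, h.σσ]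
      rw [← div_neg, neg_sub]
    generalize h5 : b * σ b' - σ b * b' = δ at h3 h4
    refine mA a' (mB b' (mA (D.Q n * (b' - b) / δ) h1 ?_) ?_) h2 <;>
      rw [h4] <;> field_simp <;> linear_combination -(D.Q n) * h5
  by_cases h3 : b * σ b' - σ b * b' = 0
  swap
  · exact step h1 h3
  have h4 := (hQ a b).symm.trans h1.1
  have ha : a ≠ 0 := fun h => h0 (by simpa [h] using h4)
  have hb : b' ≠ 0 := fun h => h0 (by simpa [h] using h2)
  have ha' : σ a ≠ 0 := (map_ne_zero σ).2 ha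
  obtain ⟨θ, h5, h6⟩ := h.exists_trace_zero
  have h7 : σ (b + θ / σ a) = σ b - θ / a := by
    rw [map_add, map_div₀, h.σσ, show σ θ = -θ by linear_combination h6]; ring
  refine step (mB (b + θ / σ a) h1 (by rw [h7]; field_simp; linear_combination h4)) fun h8 => ?_
  rw [h7] at h8
  field_simp at h8
  have h9 : a * σ b' + σ a * b' = 0 :=
    (mul_eq_zero.1 (by linear_combination h8 - σ a * a * h3 : θ * _ = 0)).resolve_left h5
  exact h0 ((mul_eq_zero.1 (by linear_combination b' * h4 - b * h9 + a * h3 :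
    b' * D.Q n = 0)).resolve_left hb)

theorem add_mem_Xs (hD : D.Nondeg) (hT : ∀ x, x ≠ 0 → D.Q x = 0 → x ∉ Xs H → TrivU H x)
    {e f x : V} (he : e ∈ Xs H) (hf : f ∈ Xs H) (hx : x ∈ Xs H) :
    ∃ a ∈ Xs H, ∃ b ∈ Xs H, e + f + x = a + b := by
  by_cases hef : D.B e f = 0
  · exact ⟨_, by simpa using line_mem_Xs hD hT he hf (c := 1) (by
      simp [D.Q_add_of_B hef, he.1, hf.1]), x, hx, rfl⟩
  have hyp := exists_isHyp_smul he.1 hf.1 hef
  have hf' := smul_mem_Xs hf (D.B e f)⁻¹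
  have h1 : f = D.B e f • (D.B e f)⁻¹ • f := by simp [hef]
  generalize (D.B e f)⁻¹ • f = f' at hyp hf' h1
  obtain ⟨n, hn, h2⟩ := hyp.exists_comb x
  generalize h.kind.ε * D.B f' x = a, D.B e x = b, D.B e f = s at h1 h2
  subst h1 h2
  rw [show e + s • f' + (a • e + b • f' + n) = (1 + a) • e + (s + b) • f' + n by module]
  generalize 1 + a = a', s + b = b'
  have hQ : ∀ a b : F, D.Q (a • e + b • f' + n) = σ a * b + a * σ b + D.Q n := fun a b => by
    simp [hyp.Q_comb a b hn, h.σσ]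
  have h3 := (hQ a b).symm.trans hx.1
  by_cases h0 : D.Q n = 0
  · have h4 : a • e + b • f' ∈ Xs H := line_mem_Xs hD hT (smul_mem_Xs he a) hf' (by
      simpa [h0, h.σσ] using (hyp.Q_comb a b (zero_mem _)).trans (by simpa [h0, h.σσ] using h3))
    have h5 : n ∈ Xs H := by
      have : a • e + b • f' + n + (-1 : F) • (a • e + b • f') = n := by module
      exact this ▸ line_mem_Xs hD hT hx h4 (this.symm ▸ h0)
    exact ⟨_, smul_mem_Xs he a', _, line_mem_Xs hD hT h5 hf' (c := b') (by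
      simpa [h0, add_comm] using hQ 0 b'), by module⟩
  obtain ⟨t, ht⟩ := h.exists_trace_eq (a := -D.Q n) (by simp [herm_σ_Q])
  by_cases hb : b' = 0
  · by_cases ha : a' = 0
    · obtain ⟨θ, h5, h4⟩ := exists_norm_one h
      have h6 : 1 - θ ≠ 0 := fun h => h4 (by rw [← sub_eq_zero.1 h, one_pow])
      refine ⟨_, smul_mem_Xs (chain_mem_Xs hD hT hyp he hf' hn h0 hx (a' := θ * a) (b' := θ * b)
        (by simp only [map_mul]; linear_combination (σ a * b + a * σ b) * h5 + h3)) (1 - θ)⁻¹,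
        _, smul_mem_Xs hx (-(θ * (1 - θ)⁻¹)), ?_⟩
      rw [ha, hb]
      match_scalars <;> field_simp <;> ring
    · have := (map_ne_zero σ).2 ha
      exact ⟨_, chain_mem_Xs hD hT hyp he hf' hn h0 hx (a' := a') (b' := t / σ a') (by
        rw [map_div₀, h.σσ]; field_simp; linear_combination ht), _,
        smul_mem_Xs hf' (b' - t / σ a'), by module⟩
  · have := (map_ne_zero σ).2 hb
    exact ⟨_, chain_mem_Xs hD hT hyp he hf' hn h0 hx (a' := t / σ b') (b' := b') (by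
      rw [map_div₀, h.σσ]; field_simp; linear_combination ht), _,
      smul_mem_Xs he (a' - t / σ b'), by module⟩

theorem mem_Xs_of_span (hD : D.Nondeg) (hT : ∀ x, x ≠ 0 → D.Q x = 0 → x ∉ Xs H → TrivU H x)
    {x : V} (hx : x ∈ Submodule.span F (Xs H)) (hQ : D.Q x = 0) : x ∈ Xs H := by
  have h0 : (0 : V) ∈ Xs H := ⟨D.Q_zero, fun z _ d hd => by rw [eich_zero_left]; exact H.one_mem⟩
  obtain ⟨a, ha, b, hb, rfl⟩ : ∃ a ∈ Xs H, ∃ b ∈ Xs H, x = a + b := by
    clear hQ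
    induction hx using Submodule.span_induction with
    | mem x hx => exact ⟨x, hx, 0, h0, by simp⟩
    | zero => exact ⟨0, h0, 0, h0, by simp⟩
    | add x y _ _ h1 h2 =>
      obtain ⟨a, ha, b, hb, rfl⟩ := h1
      obtain ⟨c, hc, d, hd, rfl⟩ := h2
      obtain ⟨a', ha', b', hb', h3⟩ := add_mem_Xs hD hT ha hb hc
      rw [← add_assoc, h3]
      exact add_mem_Xs hD hT ha' hb' hd
    | smul c x _ h1 =>
      obtain ⟨a, ha, b, hb, rfl⟩ := h1
      exact ⟨_, smul_mem_Xs ha c, _, smul_mem_Xs hb c, smul_add _ _ _⟩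
  simpa using line_mem_Xs hD hT ha hb (c := 1) (by simpa using hQ)

end Cfsg.Lib.Forms.MI
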