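import Cfsg.Agent.Lib.MinIdx.U3

/-!
Minimal index of unitary groups, IV: dimension at least five.
-/

set_option autoImplicit false

namespace Cfsg.Lib.Forms.MI

open Module Form

variable {F : Type*} [Field F] {σ : F →+* F} {q : ℕ} {h : IsConj σ q} {V : Type*}
  [AddCommGroup V] [Module F V] {D : Form h.kind V} {H : Subgroup D.isom} [FiniteDimensional F V]

theorem exists_ns (hD : D.Nondeg) {w : V} (hw : w ≠ 0) : ∃ p, D.Q p ≠ 0 ∧ D.B p w ≠ 0 := by
  by_contra! H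
  exact hw (hD.ext' fun z => Herm.induction_nonsingular hD (P := fun z => D.B z w = D.B z 0)
    (by simp) (fun x hx => by simp [H x hx]) (fun x y hx hy => by simp [hx, hy]) z)

theorem exists_torus_E (hD : D.Nondeg) (hn : 3 ≤ finrank F V) {u u' p : V} (hu : D.IsHyp u u')
    (hp : p ∈ D.hp u u') (hQ : D.Q p ≠ 0) {c : F} (hc : c ≠ 0) : ∃ g ∈ D.E, g.1 u = c • u ∧
      g.1 u' = (σ c)⁻¹ • u' ∧
      ∀ x ∈ D.hp u u', g.1 x = x + ((σ c / c - 1) / D.Q p * D.B p x) • p := by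
  obtain ⟨k, h1, h2, h3⟩ := hu.exists_torus hD hc
  have hc' := (map_ne_zero σ).2 hc
  have h4 : D.IsRk1 p ((σ c / c - 1) / D.Q p) := by
    simp only [IsRk1, hermKind_tr, hermKind_ε, mul_one, map_div₀, map_sub, map_one, h.σσ,
      herm_σ_Q]
    field_simp
    ring
  obtain ⟨h5, h6⟩ := (mem_hp D).1 hp
  refine ⟨k * D.rk1 p _ h4, ?_, ?_, ?_, fun x hx => ?_⟩
  · rw [Herm.E_eq hD hn, MonoidHom.mem_ker, map_mul]
    ext
    rw [Units.val_mul, hu.det_torus h1 h2 h3, det_rk1, ← herm_Q, Units.val_one]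
    field_simp
    ring
  · rw [isom_mul_apply, D.rk1_apply_of_perp _ _ (D.eq_zero_symm h5), h1]
  · rw [isom_mul_apply, D.rk1_apply_of_perp _ _ (D.eq_zero_symm h6), h2]
  · rw [isom_mul_apply, rk1_apply, h3 _ (add_mem hx (Submodule.smul_mem _ _ hp))]

theorem LiftU.exists (hD : D.Nondeg) {e f : V} (hf : D.IsHyp e f) (hL : LiftU H hf.Q_e) {g : D.isom}
    (hg : g ∈ D.E) (he : g.1 e = e) : ∃ w ∈ D.hp e f, ∃ c hc, g * D.eich e w c hc ∈ H := by
  obtain ⟨_, ⟨z, -, d, hd, rfl⟩, h1⟩ := hL g ⟨hg, by simpa [mem_fix_span] using he⟩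
  obtain ⟨w, hw, c, hc, h2⟩ := hf.exists_eich_eq hd
  exact ⟨w, hw, c, hc, h2 ▸ h1⟩

omit [FiniteDimensional F V] in
theorem comm_of_triv {e : V} (he : D.Q e = 0) (hT : TrivU H e) {t g a b : D.isom} (ht : t.1 e = e)
    (hg : g.1 e = e) (ha : a ∈ Qs he ⊤) (hb : b ∈ Qs he ⊤) (h1 : t * a ∈ H) (h2 : g * b ∈ H)
    (h3 : g * t = t * g) : t * a * (g * b) = g * b * (t * a) := by
  have key : ∀ {k x : D.isom}, k.1 e = e → x ∈ Qs he ⊤ → k * x * k⁻¹ ∈ Qs he ⊤ := fun hk hx =>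
    conj_mem_Qs he (c := 1) (by simpa using hk) hx
  have h4 : t * a * (g * b) * (g * b * (t * a))⁻¹ = t * a * t⁻¹ *
      (t * g * (b * a⁻¹) * (t * g)⁻¹) * (g * b⁻¹ * g⁻¹) := by
    calc _ = t * a * g * b * a⁻¹ * (g * t)⁻¹ * (g * b⁻¹ * g⁻¹) := by group
      _ = _ := by rw [h3]; group
  obtain ⟨z, -, d, hd, h5⟩ : t * a * (g * b) * (g * b * (t * a))⁻¹ ∈ Qs he ⊤ := h4 ▸ mul_mem
    (mul_mem (key ht ha) (key (by simp [ht, hg]) (mul_mem hb (inv_mem ha)))) (key hg (inv_mem hb))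
  rw [← mul_inv_eq_one, h5]
  exact hT _ _ _ (h5 ▸ mul_mem (mul_mem h1 h2) (inv_mem (mul_mem h2 h1)))

/-- Each totally isotropic line meets `X`. -/
theorem exists_mem_Xs (hD : D.Nondeg) (hn : 5 ≤ finrank F V)
    (hT : ∀ x, x ≠ 0 → D.Q x = 0 → x ∉ Xs H → TrivU H x) {e u : V} (he : D.Q e = 0) (h0 : e ≠ 0)
    (hX : e ∉ Xs H) (hL : LiftU H he) (hu : D.Q u = 0) (heu : D.B e u = 0) (hu' : u ∉ F ∙ e) :
    ∃ l : F, u + l • e ∈ Xs H := by
  have hue := D.eq_zero_symm heu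
  have hu0 : u ≠ 0 := fun h => hu' (h ▸ zero_mem _)
  obtain ⟨f, hf1, hf2, hf3⟩ := hD.exists_partner (H := F ∙ u) he (fun H => hu' (by
    obtain ⟨a, rfl⟩ := Submodule.mem_span_singleton.1 H
    have : a ≠ 0 := fun h => h0 (by simp [h])
    exact Submodule.mem_span_singleton.2 ⟨a⁻¹, by simp [smul_smul, this]⟩))
    ((mem_perp_span_singleton D).2 hue) 1 one_ne_zero
  have hf : D.IsHyp e f := ⟨he, hf2, hf3⟩
  have huf := (mem_perp_span_singleton D).1 hf1
  have huU : u ∈ D.hp e f := (mem_hp D).2 ⟨heu, D.eq_zero_symm huf⟩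
  obtain ⟨x, hx⟩ := h.exists_not_fixed
  obtain ⟨w, hw, c, hc, h1⟩ := hL.exists hD hf (g := tv hu x) (eich_mem_E _ _ _ _)
    (D.eich_apply_of_perp_perp _ hue (by simp))
  have key : ∀ g ∈ D.E, g.1 e = e → g.1 f = f → ∀ m : F, m * σ m = 1 → g.1 u = m • u →
      ∀ p, D.B p e = 0 → D.B p u = 0 → D.B p (g.1 w) = D.B p w := fun g hg h2 h3 m hm h4 p h5 h6 => by
    obtain ⟨w', hw', c', hc', h7⟩ := hL.exists hD hf hg h2
    have h8 := comm_of_triv he (hT e h0 he hX) (D.eich_apply_of_perp_perp _ hue (by simp)) h2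
      (eich_mem_Qs he (AddSubgroup.mem_top _) hc) (eich_mem_Qs he (AddSubgroup.mem_top _) hc') h1 h7 (by
        have := conj_tv hu h4 x
        rwa [hm, one_mul, mul_inv_eq_iff_eq_mul] at this)
    have h9 : D.B e (g.1 w') = 0 := by rw [← h2, B_isom, hc'.B_ez]
    have h10 := congrArg (fun k : D.isom => D.B p (k.1 f)) h8
    simp only [isom_mul_apply, hf.eich_f hw, hf.eich_f hw', tv, eich_apply, map_add, map_sub,
      map_smul, h2, h3, h4, h5, h6, h9, hf3, hc.B_ee, hc.B_ez, hc'.B_ez, heu, hermKind_ε,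
      smul_eq_mul, map_zero, LinearMap.zero_apply] at h10
    linear_combination h10
  obtain ⟨u', hu1⟩ := (hf.nondeg_hp hD).exists_isHyp (e := ⟨u, huU⟩) hu
    fun h => hu0 (congrArg Subtype.val h)
  have hu2 : D.IsHyp u u' := ⟨hu1.1, hu1.2, hu1.3⟩
  have hD' := hu1.nondeg_hp (hf.nondeg_hp hD)
  have h2 : D.B u w = 0 := by
    have := hf.finrank_hp
    have := hu1.finrank_hp
    obtain ⟨y, hy, hy0⟩ := exists_ne_zero_of_finrank_pos (U := (D.restrict _).hp ⟨u, huU⟩ u')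
      (by omega)
    obtain ⟨p, hp, -⟩ := exists_ns hD' (w := ⟨y, hy⟩) fun h => hy0 (congrArg Subtype.val h)
    obtain ⟨h3, h4⟩ := (mem_hp D).1 p.1.2
    have h5 : D.B u p = 0 := ((mem_hp _).1 p.2).1
    obtain ⟨d, hd⟩ := exists_isEich hu h5
    have := key _ (eich_mem_E _ _ _ hd) (D.eich_apply_of_perp_perp _ hue (D.eq_zero_symm h3))
      (D.eich_apply_of_perp_perp _ huf (D.eq_zero_symm h4)) 1 (by simp)
      (by simp [eich_apply_self]) p (D.eq_zero_symm h3) (D.eq_zero_symm h5)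
    simpa [eich_apply, D.eq_zero_symm h5, Herm.B_ne_zero (D := D) (a := p.1.1) hp] using this
  obtain ⟨y, hy, h3⟩ := hu1.exists_comb ⟨w, hw⟩
  have h4 : w = D.B u' w • u + y := by simpa [h2] using congrArg Subtype.val h3
  obtain rfl : y = 0 := by
    by_contra hy0
    obtain ⟨p, hp, hp'⟩ := exists_ns hD' (w := ⟨y, hy⟩) fun h => hy0 (congrArg Subtype.val h)
    obtain ⟨h5, h6⟩ := (mem_hp D).1 p.1.2
    have h7 : p.1.1 ∈ D.hp u u' := (mem_hp D).2 ((mem_hp (D.restrict _)).1 p.2)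
    have h8 := D.eq_zero_symm ((mem_hp D).1 h7).1
    obtain ⟨m, hm, hm'⟩ := exists_norm_one h
    have hm0 := left_ne_zero_of_mul_eq_one hm
    obtain ⟨g, hg, h9, -, h10⟩ := exists_torus_E hD (by omega) hu2 h7 hp hm0
    have := key g hg (by rw [h10 e ((mem_hp D).2 ⟨hue, D.eq_zero_symm ((mem_hp D).1 u'.2).1⟩)]; simp
      [D.eq_zero_symm h5]) (by rw [h10 f ((mem_hp D).2 ⟨huf, D.eq_zero_symm
        ((mem_hp D).1 u'.2).2⟩)]; simp [D.eq_zero_symm h6]) m hm h9 p (D.eq_zero_symm h5) h8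
    rw [h4, map_add, map_smul, h9, h10 y ((mem_hp D).2 ((mem_hp (D.restrict _)).1 hy))] at this
    have h11 : σ m / m - 1 = 0 := by
      simpa [h8, Herm.B_ne_zero (D := D) (a := p.1.1) hp, show D.B p.1.1 y ≠ 0 from hp',
        show D.Q p.1.1 ≠ 0 from hp] using this
    field_simp at h11
    exact hm' (by linear_combination hm - m * h11)
  rw [Submodule.coe_zero, add_zero] at h4
  obtain ⟨d, hd, hd', h1', h1⟩ : ∃ d ≠ 0, σ d = -d ∧ ∃ h1' : D.IsEich u 0 d,
      D.eich u 0 _ h1' * D.eich e w c hc ∈ H :=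
    ⟨_, sub_ne_zero.2 hx.symm, by simp [h.σσ], _, h1⟩
  generalize D.B u' w = b at h4
  subst h4
  have h5 : σ c = -c := by
    have := hc.tr_d
    rw [D.Q_smul_of_Q hu, hermKind_tr] at this
    linear_combination this
  obtain ⟨s, hs⟩ := h.exists_norm_eq (a := b / d * σ (b / d) - c / d)
    (by simp only [map_sub, map_mul, map_div₀, h.σσ, hd', h5, map_neg]; field_simp)
  refine ⟨s + σ (b / d), mem_Xs_of_line hD hT h0 hu' h1' hc heu hd h1 ?_⟩
  simp only [map_add, map_mul, map_div₀, h.σσ, hd', map_neg] at hs ⊢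
  field_simp at hs ⊢
  linear_combination hs

variable [Finite V]

theorem astab_le {e f : V} (hf : D.IsHyp e f) (W : AddSubgroup V) :
    (astab (D.restrict (D.hp e f)) (W.comap (D.hp e f).subtype.toAddMonoidHom)).relIndex
      (D.restrict (D.hp e f)).E ≤ (astab D W).relIndex (D.E ⊓ D.fix (F ∙ e)) := by
  have := finite_isom (D := D)
  have := finite_isom (D := D.restrict (D.hp e f))
  refine (relIndex_anti (H := (astab D W).comap (extend hf.isOrthCompl.symm)) _ ?_).trans ?_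
  · rintro g ⟨hg, -⟩ x hx
    exact (extend_apply_left _ g x ▸ hg x hx : ((g.1 x : D.hp e f) : V) ∈ W)
  · rw [Subgroup.relIndex_comap]
    refine relIndex_mono _ ?_
    rintro _ ⟨g, hg, rfl⟩
    exact ⟨extend_mem_E _ hg, by
      simpa [mem_fix_span] using extend_apply_right _ g (Submodule.subset_span (by simp))⟩

theorem card_le_comap {e f : V} (hf : D.IsHyp e f) {W : AddSubgroup V} (h1 : W ≤ pe D e)
    (h2 : ∀ c : F, c • e ∈ W) :
    Nat.card W ≤ q ^ 2 * Nat.card (W.comap (D.hp e f).subtype.toAddMonoidHom) := by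
  have := h.finite
  rw [← h.card, ← Nat.card_prod]
  refine Nat.card_le_card_of_injective (fun x => (D.B f x, ⟨⟨_, hf.proj_mem x⟩, by
    simpa [mem_pe.1 (h1 x.2)] using W.sub_mem x.2 (h2 (D.B f x))⟩)) fun a b H => ?_
  simp only [Prod.mk.injEq, Subtype.mk.injEq] at H
  exact Subtype.ext (by simpa [H.1, mem_pe.1 (h1 a.2), mem_pe.1 (h1 b.2)] using H.2)

theorem loc_W (hD : D.Nondeg) (hn : 5 ≤ finrank F V) {e : V} (he : D.Q e = 0) (h0 : e ≠ 0)
    (hA : As H he ≠ ⊤)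
    (hi : H.relIndex (D.E ⊓ D.stab (F ∙ e)) < (q + 1) * q ^ (2 * finrank F V - 4)) :
    zSet H e he ≤ (F ∙ e).toAddSubgroup := by
  obtain ⟨f, hf⟩ := hD.exists_isHyp he h0
  have h1 := hf.finrank_hp
  by_cases h2 : (zSet H e he).comap (D.hp e f).subtype.toAddMonoidHom = ⊥
  · intro z hz
    obtain ⟨w, hw, h3⟩ := hf.exists_comb z
    rw [perp_of_mem_zSet hz, zero_smul, add_zero] at h3
    have : (⟨w, hw⟩ : D.hp e f) ∈ (⊥ : AddSubgroup _) := h2 ▸ (by
      rw [eq_sub_of_add_eq' h3.symm]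
      exact sub_mem hz (smul_mem_zSet he _) : w ∈ zSet H e he)
    rw [h3, show w = 0 from congrArg Subtype.val this, add_zero]
    exact Submodule.smul_mem _ _ (Submodule.mem_span_singleton_self e)
  have h3 := (wlem (hf.nondeg_hp hD) (by omega) hA (fun x hx y hy => B_mem_As hx hy) h2).trans
    (Nat.mul_le_mul_left _ (astab_le hf _))
  have h4 := basic_q hD (by omega) he h0 hA (K := astab D (zSet H e he))
    (fun g hg x hx => map_mem_zSet' hx hg.1 (by simpa [mem_fix_span] using hg.2.2))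
    (Qs_le_astab he (zSet_le_pe he) (smul_mem_zSet he))
  have h5 := card_le_comap hf (zSet_le_pe (H := H) he) (smul_mem_zSet he)
  have h6 := relIndex_pe hD h0 (zSet_le_pe (H := H) he)
  rw [show 2 * (finrank F V - 1) = 2 + (2 * finrank F V - 4) by omega, pow_add] at h6
  have h7 := Nat.le_of_mul_le_mul_left (h6.ge.trans ((Nat.mul_le_mul_right _ h5).trans
    (mul_assoc _ _ _).le)) (pow_pos (by have := h.two_le; omega) _)
  refine absurd (le_trans ?_ h4) hi.not_ge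
  rw [← mul_assoc]
  exact (Nat.mul_le_mul_left _ h7).trans ((mul_assoc _ _ _).ge.trans (Nat.mul_le_mul_right _ h3))

theorem loc (hD : D.Nondeg) (hn : 3 ≤ finrank F V) {e : V} (he : D.Q e = 0) (h0 : e ≠ 0)
    (hA : As H he ≠ ⊤) (hW : zSet H e he ≤ (F ∙ e).toAddSubgroup)
    (hi : H.relIndex (D.E ⊓ D.stab (F ∙ e)) < (q + 1) * q ^ (2 * finrank F V - 4)) :
    TrivU H e ∧ LiftU H he := by
  have := finite_isom (D := D)
  have h1 := pow_le_relIndex_pe hD h0 (zSet_le_pe (H := H) he) (a := 2) (b := 2 * finrank F V - 4)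
    ((AddSubgroup.card_le_of_le hW).trans (by rw [card_sub h, finrank_span_singleton h0]))
    (by omega)
  constructor
  · have h2 : As H he ≤ fx σ := by
      by_contra h2
      have := basic_q' hD hn he h0 hA h2 le_top le_top
      rw [Subgroup.relIndex_top_left, one_mul] at this
      exact hi.not_ge ((Nat.mul_le_mul_left _ h1).trans this)
    intro z d hd hH
    obtain ⟨d', hd', h3⟩ := exists_eich_eq_of_mem_span hd (hW ⟨d, hd, hH⟩)
    obtain ⟨x, -, h4⟩ := exists_tv he hd'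
    rw [h3, h4] at hH ⊢
    exact tv_fixed he (h2 hH)
  · have h2 := basic_q hD hn he h0 hA (K := (H ⊓ (D.E ⊓ D.fix (F ∙ e))) ⊔ Qs he ⊤) le_sup_left
      le_sup_right
    have h3 := relIndex_ne_zero' ((H ⊓ (D.E ⊓ D.fix (F ∙ e))) ⊔ Qs he ⊤) (D.E ⊓ D.fix (F ∙ e))
    have h4 : ((H ⊓ (D.E ⊓ D.fix (F ∙ e))) ⊔ Qs he ⊤).relIndex (D.E ⊓ D.fix (F ∙ e)) = 1 := by
      by_contra h4
      have := (Nat.mul_le_mul_left _ (Nat.mul_le_mul (show 2 ≤ _ by omega) h1)).trans h2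
      nlinarith [Nat.mul_le_mul_right (q ^ (2 * finrank F V - 4)) h.two_le]
    intro g hg
    obtain ⟨k, hk, t, ht, rfl⟩ := mem_sup_of_conj (fun g hg n hn => conj_mem_Qs he (c := 1)
      (by simpa [mem_fix_span] using hg.2.2) hn) (Subgroup.relIndex_eq_one.1 h4 hg)
    exact ⟨t⁻¹, inv_mem ht, by simpa using hk.1⟩

omit [Finite V] in
theorem le_stab_of_Xs (hD : D.Nondeg) (hn : 4 ≤ finrank F V) (hH : ¬ D.E ≤ H)
    (hT : ∀ x, x ≠ 0 → D.Q x = 0 → x ∉ Xs H → TrivU H x)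
    (hL : ∀ e u, e ≠ 0 → D.Q e = 0 → e ∉ Xs H → D.Q u = 0 → D.B e u = 0 → u ∉ F ∙ e →
      ∃ l : F, u + l • e ∈ Xs H) : ∃ v ≠ 0, H ≤ D.stab (F ∙ v) := by
  set S := Submodule.span F (Xs H)
  have hS : S ≠ ⊤ := fun h1 => hH (by
    rw [Herm.E_eq hD (by omega), ← Herm.T_eq hD (by omega) (by omega), Herm.T, Subgroup.closure_le]
    rintro _ ⟨e, c, hc, he, rfl⟩
    rw [rk1_eq_eich hc he]
    exact (mem_Xs_of_span hD hT (h1.ge trivial) he).2 _ (zero_mem _) _ _)
  have key : ∀ e, D.Q e = 0 → e ∉ S → D.perp (F ∙ e) ≤ S ⊔ F ∙ e := fun e he h1 x hx => by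
    have h0 : e ≠ 0 := fun h => h1 (h ▸ zero_mem _)
    have h2 : ∀ c : F, c • e ∈ S ⊔ F ∙ e := fun c =>
      Submodule.mem_sup_right (Submodule.smul_mem _ _ (Submodule.mem_span_singleton_self e))
    obtain ⟨f, hf⟩ := hD.exists_isHyp he h0
    obtain ⟨w, hw, h3⟩ := hf.exists_comb x
    rw [h3, (mem_perp_span_singleton D).1 hx, zero_smul, add_zero]
    obtain ⟨a, b, hab⟩ := Herm.exists_isHyp (hf.nondeg_hp hD) (by have := hf.finrank_hp; omega)
    refine add_mem (h2 _) (hab.induction_singular (P := fun y => y.1 ∈ S ⊔ F ∙ e) (fun y hy => ?_)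
      (fun _ _ => add_mem) ⟨w, hw⟩)
    by_cases h4 : y.1 ∈ F ∙ e
    · exact Submodule.mem_sup_right h4
    · obtain ⟨l, hl⟩ := hL e y h0 he (fun h => h1 (Submodule.subset_span h)) hy
        ((mem_hp D).1 y.2).1 h4
      simpa using sub_mem (Submodule.mem_sup_left (Submodule.subset_span hl)) (h2 l)
  obtain ⟨a, b, hab⟩ := Herm.exists_isHyp hD (by omega)
  obtain ⟨e, he, h1, h2⟩ : ∃ e, D.Q e = 0 ∧ e ∉ S ∧ e ∉ D.perp S := by
    by_contra! H
    rcases le_or_le_perp (U := S) (U' := ⊤) trivial hab.Q_e (hab.not_mem_perp trivial)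
      (fun x _ hx _ => or_iff_not_imp_left.2 (H x hx)) with h1 | h1
    · exact hS (top_le_iff.1 h1)
    · have h2 : S = ⊥ := le_bot_iff.1 (hD.perp_top ▸ (D.le_perp_comm.1 h1))
      have h3 := Submodule.finrank_mono (key a hab.Q_e (by simpa [h2] using hab.e_ne_zero))
      have h4 := hD.finrank_perp (F ∙ a)
      rw [h2, bot_sup_eq, finrank_span_singleton hab.e_ne_zero] at *
      omega
  have h0 : e ≠ 0 := fun h => h1 (h ▸ zero_mem _)
  have h3 : finrank F (D.perp (F ∙ e)) < finrank F ↥(S ⊔ F ∙ e) :=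
    Submodule.finrank_lt_finrank_of_lt (lt_of_le_of_ne (key e he h1) fun h => h2
      (D.le_perp_comm.1 (le_sup_left.trans h.ge) (Submodule.mem_span_singleton_self e)))
  have h4 := hD.finrank_perp (F ∙ e)
  have h5 := hD.finrank_perp S
  have h6 := Submodule.finrank_lt hS
  rw [Submodule.finrank_sup_span_singleton h1] at h3
  rw [finrank_span_singleton h0] at h4
  obtain ⟨v, hv, hv0⟩ := exists_ne_zero_of_finrank_pos (U := D.perp S) (by omega)
  refine ⟨v, hv0, fun g hg => ?_⟩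
  rw [Submodule.eq_of_le_of_finrank_eq ((Submodule.span_singleton_le_iff_mem _ _).2 hv)
    (by rw [finrank_span_singleton hv0]; omega), hD.stab_perp]
  exact mem_stab_of_mapsTo _ fun x hx => (Submodule.span_le (p := S.comap (g.1 : V →ₗ[F] V))).2
    (fun y hy => Submodule.subset_span (map_mem_Xs hy hg)) hx

theorem main_five (hD : D.Nondeg) (hn : 5 ≤ finrank F V) (hH : ¬ D.E ≤ H) :
    (q + 1) * q ^ (2 * finrank F V - 4) ≤ H.relIndex D.E ∨ ∃ v ≠ 0, H ≤ D.stab (F ∙ v) := by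
  have := finite_isom (D := D)
  refine (le_or_gt _ _).imp_right fun hi => ?_
  have key : ∀ e (he : D.Q e = 0), e ≠ 0 → e ∉ Xs H → TrivU H e ∧ LiftU H he := fun e he h0 hX =>
    have h1 := (relIndex_mono H (inf_le_left (b := D.stab (F ∙ e)))).trans_lt hi
    have h2 := (not_mem_Xs he).1 hX
    loc hD (by omega) he h0 h2 (loc_W hD hn he h0 h2 h1) h1
  have hT : ∀ x, x ≠ 0 → D.Q x = 0 → x ∉ Xs H → TrivU H x := fun x h0 hx hX => (key x hx h0 hX).1
  exact le_stab_of_Xs hD (by omega) hH hT fun e u h0 he hX =>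
    exists_mem_Xs hD hn hT he h0 hX (key e he h0 hX).2

end Cfsg.Lib.Forms.MI
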