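import Cfsg.Agent.Lib.MinIdx.U4

/-!
Minimal index of unitary groups, V: point stabilisers and transfer to `PSU`.
-/

set_option autoImplicit false

namespace Cfsg.Lib.Forms.MI

open Module Form

variable {F : Type*} [Field F] {σ : F →+* F} {q : ℕ} {h : IsConj σ q} {V : Type*}
  [AddCommGroup V] [Module F V] {D : Form h.kind V} {H : Subgroup D.isom} [FiniteDimensional F V]
  [Finite V]

theorem nv_zero_mul_le (hD : D.Nondeg) (H : Subgroup D.isom) {e : V}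
    (he : D.Q e = 0) (h0 : e ≠ 0) {A : Set V}
    (hA : ∀ g ∈ H, g ∈ D.E → ∀ c : F, c ≠ 0 → c • g.1 e ∈ A) :
    nv D 0 * H.relIndex (D.E ⊓ D.stab (F ∙ e)) ≤ H.relIndex D.E * A.ncard :=
  have := h.finite
  ncard_mul_le_pt H D.E e (fun _ hy => hD.exists_mem_map_smul (fun _ _ _ _ => eich_mem_E _ _ _ _)
    (Herm.rich D 3) he h0 hy.2 hy.1) hA

theorem nv_le_of_stab (hD : D.Nondeg) {v : V} (h0 : v ≠ 0) (hv : D.Q v = 0)
    (hH : H ≤ D.stab (F ∙ v)) : nv D 0 ≤ H.relIndex D.E * (q ^ 2 - 1) := by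
  have := h.finite
  have := finite_isom (D := D)
  have h1 := nv_zero_mul_le hD H hv h0 (A := {x | x ≠ 0 ∧ x ∈ F ∙ v}) fun g hg _ c hc =>
    ⟨by simp [hc, h0], Submodule.smul_mem _ _ (stab_mem (hH hg) (Submodule.mem_span_singleton_self v))⟩
  rw [ncard_ne_zero_mem, finrank_span_singleton h0, pow_one, h.card] at h1
  exact (Nat.le_mul_of_pos_right _ (Nat.pos_of_ne_zero (relIndex_ne_zero' _ _))).trans h1

omit [FiniteDimensional F V] [Finite V] in
theorem ncard_norm_smul (h : IsConj σ q) {v : V} (h0 : v ≠ 0) :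
    ((fun c : F => c • v) '' {c | c * σ c = 1}).ncard = q + 1 := by
  rw [Set.ncard_image_of_injective _ (smul_left_injective F h0)]
  exact h.card_norm_one

theorem nv_le_of_stab' (hD : D.Nondeg) (hn : 3 ≤ finrank F V) {v : V} (hv : D.Q v ≠ 0)
    (hH : H ≤ D.stab (F ∙ v)) : nv D (D.Q v) ≤ H.relIndex D.E * (q + 1) := by
  have := finite_isom (D := D)
  have h0 : v ≠ 0 := fun h => hv (by simp [h])
  have h1 := ncard_mul_le_vec H D.E v (T := {x | x ≠ 0 ∧ D.Q x = D.Q v})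
    (A := (fun c : F => c • v) '' {c | c * σ c = 1})
    (fun y hy => Herm.exists_mem_E_map hD hn h0 hy.1 hy.2.symm) fun g hg _ => by
      obtain ⟨c, -, hc⟩ := exists_smul_of_stab h0 (hH hg)
      have := Q_isom g v
      rw [hc, D.Q_smul, mul_eq_right₀ hv] at this
      exact ⟨c, this, hc.symm⟩
  rw [ncard_norm_smul h h0] at h1
  exact (Nat.le_mul_of_pos_right _ (Nat.pos_of_ne_zero (relIndex_ne_zero' _ _))).trans h1

theorem stab_mul_le {v : V} (h0 : v ≠ 0) (hv : D.Q v = 0) :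
    (D.stab (F ∙ v)).relIndex D.E * (q ^ 2 - 1) ≤ nv D 0 := by
  have := h.finite
  rw [← h.card]
  exact relIndex_stab_le D.E h0 fun g _ c hc => ⟨by simp [hc, h0], D.Q_smul_of_Q (by simpa) c⟩

theorem stab_mul_le' (hD : D.Nondeg) (hn : 3 ≤ finrank F V) {v : V} (hv : D.Q v ≠ 0) :
    (D.stab (F ∙ v)).relIndex D.E * (q + 1) ≤ nv D (D.Q v) := by
  have := h.finite
  have h0 : v ≠ 0 := fun h => hv (by simp [h])
  rw [← ncard_norm_smul h h0]
  refine (relIndex_stab_le' D.E v ?_).trans (le_of_eq (Nat.card_congr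
    (Equiv.subtypeEquivRight fun x => (and_iff_right_of_imp ?_).symm)))
  · rintro _ ⟨c, hc, rfl⟩
    exact ⟨Submodule.smul_mem _ _ (Submodule.mem_span_singleton_self v), Herm.exists_mem_E_map hD hn
      h0 (smul_ne_zero (left_ne_zero_of_mul_eq_one hc) h0) (by rw [D.Q_smul, hc, one_mul])⟩
  · rintro h1 rfl
    exact hv (by rw [← h1, Q_zero])

omit [Finite V] in
theorem min_index_su (hD : D.Nondeg) (hn : 3 ≤ finrank F V) {P : Type*} [Group P]
    (φ : P ≃* D.det.ker ⧸ Subgroup.center D.det.ker) {t : ℕ}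
    (h1 : ∀ H : Subgroup D.isom, ¬ D.E ≤ H → t ≤ H.relIndex D.E) {W : Submodule F V} (h2 : W ≠ ⊥)
    (h3 : finrank F W < finrank F V) (h4 : (D.stab W).relIndex D.E ≤ t) :
    (∀ H : Subgroup P, H ≠ ⊤ → t ≤ H.index) ∧ ∃ H : Subgroup P, H.index = t := by
  obtain ⟨e, f, hf⟩ := Herm.exists_isHyp hD (by omega)
  exact min_index_proj hD (Herm.rich D 3) hf (Herm.E_eq hD hn).symm φ h1
    (Herm.not_E_le_stab hD hn h2 fun h => by rw [h, finrank_top] at h3; omega) h4 (mem_stab_of_smul W)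

theorem le_five (hD : D.Nondeg) (hn : 5 ≤ finrank F V) {t : ℕ} (h1 : t * (q ^ 2 - 1) ≤ nv D 0)
    (h2 : ∀ v, D.Q v ≠ 0 → t * (q + 1) ≤ nv D (D.Q v)) (hH : ¬ D.E ≤ H) : t ≤ H.relIndex D.E := by
  have hq := h.two_le
  have h3 : 0 < q ^ 2 - 1 := Nat.sub_pos_of_lt (Nat.one_lt_pow (by omega) hq)
  rcases main_five hD hn hH with h4 | ⟨v, h0, h4⟩
  · refine (Nat.le_of_mul_le_mul_right (h1.trans ?_) h3).trans h4
    obtain ⟨m, hm⟩ : ∃ m, finrank F V = m + 4 + 1 := ⟨finrank F V - 5, by omega⟩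
    have h5 : nv D 0 ≤ q ^ (m + 4 + 1) * (q ^ (m + 4) + 1) := by
      rw [nv_zero hD hm]
      split_ifs
      · have : q ^ (m + 4) ≤ q ^ (m + 4 + 1) := Nat.pow_le_pow_right (by omega) (by omega)
        nlinarith [Nat.sub_le (q ^ (m + 4)) 1]
      · exact Nat.mul_le_mul_right _ (Nat.sub_le _ _)
    obtain ⟨r, hr⟩ : ∃ r, q ^ 2 = r + 1 := ⟨q ^ 2 - 1, by omega⟩
    have h6 : q ^ 3 + 1 ≤ (q + 1) * r := by nlinarith
    have h7 : 1 ≤ q ^ (m + 1) := Nat.one_le_pow _ _ (by omega)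
    refine h5.trans ?_
    rw [hm, hr, show 2 * (m + 4 + 1) - 4 = (m + 4 + 1) + (m + 1) by omega, pow_add q (m + 4 + 1),
      show m + 4 = m + 1 + 3 by omega, pow_add q (m + 1) 3, Nat.add_sub_cancel, mul_right_comm,
      mul_comm (_ * r), mul_assoc]
    exact Nat.mul_le_mul_left _ (by nlinarith [Nat.mul_le_mul_left (q ^ (m + 1)) h6])
  · by_cases hv : D.Q v = 0
    · exact Nat.le_of_mul_le_mul_right (h1.trans (nv_le_of_stab hD h0 hv h4)) h3
    · exact Nat.le_of_mul_le_mul_right ((h2 v hv).trans (nv_le_of_stab' hD (by omega) hv h4))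
        (by omega)

theorem min_index_iso (hD : D.Nondeg) (hn : 5 ≤ finrank F V) {P : Type*} [Group P]
    (φ : P ≃* D.det.ker ⧸ Subgroup.center D.det.ker) {N : ℕ} (hN : nv D 0 = N)
    (h1 : q ^ 2 - 1 ∣ N) (h2 : ∀ c, σ c = c → c ≠ 0 → N ≤ nv D c * (q - 1)) :
    (∀ H : Subgroup P, H ≠ ⊤ → N / (q ^ 2 - 1) ≤ H.index) ∧
      ∃ H : Subgroup P, H.index = N / (q ^ 2 - 1) := by
  have hq := h.two_le
  have h3 : 0 < q ^ 2 - 1 := Nat.sub_pos_of_lt (Nat.one_lt_pow (by omega) hq)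
  obtain ⟨e, f, hf⟩ := Herm.exists_isHyp hD (by omega)
  refine min_index_su hD (by omega) φ (fun H => le_five hD hn (hN ▸ Nat.div_mul_le_self _ _)
    fun v hv => Nat.le_of_mul_le_mul_right (c := q - 1) ?_ (by omega)) (W := F ∙ e)
    (by simpa using hf.e_ne_zero) (by rw [finrank_span_singleton hf.e_ne_zero]; omega)
    ((Nat.le_div_iff_mul_le h3).2 (hN ▸ stab_mul_le hf.e_ne_zero hf.Q_e))
  rw [mul_assoc, ← h.card_sub_one, h.card, Nat.div_mul_cancel h1]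
  exact h2 _ (herm_σ_Q D v) hv

end Cfsg.Lib.Forms.MI
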